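import Mathlib.GroupTheory.Nilpotent
import Mathlib.GroupTheory.Solvable
import Mathlib.GroupTheory.Sylow
import Cfsg.Prelude.Def_Solvable
import Cfsg.Agent.Lib.Cores
import Cfsg.Agent.Lib.ThompsonPQ
import Cfsg.Agent.Solvable.CentralizerCore
set_option linter.all false

/-!
# Cores of centralizers of `p`-subgroups in groups of characteristic `p`

* `centralizer_pCore_le`: in a finite solvable group with trivial `p'`-core, `C(O_p) ≤ O_p`.
* `eq_bot_of_le_centralizer`: if `C_H(O_p(H)) ≤ O_p(H)` and `Q` is a `p`-subgroup of `H`, then every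
  `p'`-subgroup `D ≤ C_H(Q)` normalized by `C_H(Q)` is trivial.
-/

set_option autoImplicit false
set_option linter.style.haveILetI false

namespace Cfsg.Agent.Classification.LocalCore

open Subgroup Cfsg
open Cfsg.Agent.Lib.Cores (le_pCore pCore_normal pCore_isPGroup le_pPrimeCore pPrimeCore_coprime)

/-- In a finite solvable group with trivial `p'`-core, the centralizer of the `p`-core is contained
in the `p`-core. -/
theorem centralizer_pCore_le {H : Type*} [Group H] [Finite H] [Group.IsSolvable H] (p : ℕ)
    [Fact p.Prime] (h : pPrimeCore p H = ⊥) :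
    centralizer (pCore p H : Set H) ≤ pCore p H := by
  haveI := pCore_normal (G := H) p
  by_contra hcon
  obtain ⟨A, hA, -, hAP, hAn⟩ := Cfsg.Agent.Solvable.CentralizerCore.exists_normal_nilpotent_not_le
    (centralizer (pCore p H : Set H)) (pCore p H) le_rfl hcon
  refine hAP (le_pCore hA ?_)
  haveI := hA
  haveI := hAn
  refine Cfsg.Agent.Solvable.CentralizerCore.isPGroup_of_normal_nilpotent p ?_ A
  intro N hN hcop
  exact le_bot_iff.mp (h ▸ le_pPrimeCore hN hcop)

/-- If `C_H(O_p(H)) ≤ O_p(H)` and `Q` is a `p`-subgroup of `H`, then every `p'`-subgroup `D` of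
`C_H(Q)` that is normalized by `C_H(Q)` is trivial (Thompson's `A × B` lemma). -/
theorem eq_bot_of_le_centralizer {H : Type*} [Group H] [Finite H] (p : ℕ) [Fact p.Prime]
    (hH : centralizer (pCore p H : Set H) ≤ pCore p H)
    (Q D : Subgroup H) (hQ : IsPGroup p Q) (hD : (Nat.card D).Coprime p)
    (hDQ : D ≤ centralizer (Q : Set H))
    (hn : centralizer (Q : Set H) ≤ normalizer (D : Set H)) : D = ⊥ := by
  haveI := pCore_normal (G := H) p
  have hdisj : ∀ V : Subgroup H, IsPGroup p V → V ⊓ D = ⊥ := by
    intro V hV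
    obtain ⟨n, hn⟩ := IsPGroup.iff_card.mp hV
    refine (disjoint_of_coprime_natCard ?_).eq_bot
    rw [hn]
    exact (Nat.Coprime.pow_right n hD).symm
  have key : D ≤ centralizer (pCore p H : Set H) := by
    refine Cfsg.Agent.Lib.ThompsonPQ.thompson_p_times_q p Q D (pCore p H) hQ hD
      (pCore_isPGroup p) ?_ ?_ ?_ ?_
    · exact le_centralizer_iff.mp hDQ
    · exact normalizer_eq_top (H := pCore p H) ▸ le_top
    · exact normalizer_eq_top (H := pCore p H) ▸ le_top
    · -- `[C_R(Q), D] ≤ R ∩ D = 1`
      rw [← commutator_eq_bot_iff_le_centralizer, eq_bot_iff,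
        ← hdisj _ (pCore_isPGroup (G := H) p), commutator_le]
      intro x hx d hd
      have hxR : x ∈ pCore p H := (mem_inf.mp hx).1
      have hxC : x ∈ centralizer (Q : Set H) := (mem_inf.mp hx).2
      rw [commutatorElement_def]
      refine mem_inf.mpr ⟨?_, ?_⟩
      · have h1 : d * x⁻¹ * d⁻¹ ∈ pCore p H := (pCore_normal p).conj_mem _ (inv_mem hxR) d
        have h2 : x * (d * x⁻¹ * d⁻¹) ∈ pCore p H := mul_mem hxR h1
        simpa [mul_assoc] using h2
      · have h1 : x * d * x⁻¹ ∈ D := (mem_normalizer_iff.mp (hn hxC) d).mp hd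
        exact D.mul_mem h1 (D.inv_mem hd)
  have h2 := hdisj _ (pCore_isPGroup (G := H) p)
  rw [inf_eq_right.mpr (key.trans hH)] at h2
  exact h2

/-- The main step: a subgroup `Q` of `G` that is a nontrivial `p`-group has an element `t` of order
`p` in its centre; if `C_G(t)` has characteristic `p`, then `C_G(Q)` has no nontrivial normal
`p'`-subgroup. -/
theorem pPrimeCore_centralizer_eq_bot {G : Type*} [Group G] [Finite G] (p : ℕ) [Fact p.Prime]
    (Q : Subgroup G) (hQ : IsPGroup p Q) (t : G) (htQ : t ∈ Q)
    (ht : Q ≤ centralizer ({t} : Set G))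
    (hH : centralizer (pCore p (centralizer ({t} : Set G)) : Set (centralizer ({t} : Set G))) ≤
      pCore p (centralizer ({t} : Set G)))
    (D : Subgroup G) (hD : (Nat.card D).Coprime p) (hDQ : D ≤ centralizer (Q : Set G))
    (hn : centralizer (Q : Set G) ≤ normalizer (D : Set G)) : D = ⊥ := by
  set H : Subgroup G := centralizer ({t} : Set G) with hHdef
  have hCH : centralizer (Q : Set G) ≤ H := centralizer_le (Set.singleton_subset_iff.mpr htQ)
  have hDH : D ≤ H := hDQ.trans hCH
  have h1 : D.subgroupOf H = ⊥ := by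
    refine eq_bot_of_le_centralizer p hH (Q.subgroupOf H) (D.subgroupOf H) ?_ ?_ ?_ ?_
    · exact hQ.comap_subtype
    · rw [Nat.card_congr (subgroupOfEquivOfLe hDH).toEquiv]
      exact hD
    · intro x hx
      rw [mem_centralizer_iff]
      rintro y hy
      apply Subtype.ext
      exact mem_centralizer_iff.mp (hDQ (mem_subgroupOf.mp hx)) y (mem_subgroupOf.mp hy)
    · intro x hx
      have hxC : (x : G) ∈ centralizer (Q : Set G) := by
        rw [mem_centralizer_iff]
        intro y hy
        have := mem_centralizer_iff.mp hx ⟨y, ht hy⟩ (mem_subgroupOf.mpr hy)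
        exact congrArg Subtype.val this
      have hxn := hn hxC
      rw [mem_normalizer_iff] at hxn ⊢
      intro y
      exact hxn y
  rw [subgroupOf_eq_bot] at h1
  exact disjoint_self.mp (h1.mono_right hDH)

end Cfsg.Agent.Classification.LocalCore
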