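import Cfsg.Agent.S0991
import Mathlib
set_option linter.all false

set_option autoImplicit false
open Cfsg

/-!
Small tools on finite simple groups: index bounds and Burnside transfer.
-/

namespace Cfsg.Agent.Classification.SimpleIndex

/-- A simple group whose order is not prime is not commutative. -/
theorem not_comm_of_not_prime {G : Type*} [Group G] [IsSimpleGroup G]
    (h : ¬ (Nat.card G).Prime) : ¬ IsMulCommutative G := by
  intro hc
  exact h (Group.is_simple_iff_prime_card.1 inferInstance)

/-- If a non-abelian finite simple group has a proper subgroup of index `n` then `2|G|` divides `n!`. -/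
theorem two_mul_card_dvd_factorial_index {G : Type*} [Group G] [Finite G] [IsSimpleGroup G]
    (hG : ¬ IsMulCommutative G) (H : Subgroup G) (hH : H ≠ ⊤) :
    2 * Nat.card G ∣ (H.index).factorial := by
  obtain ⟨f, hf⟩ := Cfsg.Agent.S0991.result hG H hH
  have h1 : Nat.card G ∣ Nat.card (alternatingGroup (Fin H.index)) :=
    Subgroup.card_dvd_of_injective f hf
  have hidx : 1 < H.index := by
    have h0 : H.index ≠ 0 := Subgroup.index_ne_zero_of_finite
    have h1 : H.index ≠ 1 := fun h => hH (Subgroup.index_eq_one.1 h)
    omega
  have : Nontrivial (Fin H.index) := Fin.nontrivial_iff_two_le.2 hidx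
  have h2 : 2 * Nat.card (alternatingGroup (Fin H.index)) = (H.index).factorial := by
    rw [Nat.card_eq_fintype_card, two_mul_card_alternatingGroup, Fintype.card_perm,
      Fintype.card_fin]
  rw [← h2]
  exact Nat.mul_dvd_mul_left 2 h1

/-- If `2|G|` does not divide `n!` then a nonabelian simple group has no subgroup of index `n`
unless `n = 1`. -/
theorem index_eq_one_of_not_dvd {G : Type*} [Group G] [Finite G] [IsSimpleGroup G]
    (hG : ¬ IsMulCommutative G) (H : Subgroup G)
    (h : ¬ 2 * Nat.card G ∣ (H.index).factorial) : H = ⊤ := by
  by_contra hH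
  exact h (two_mul_card_dvd_factorial_index hG H hH)

/-- In a non-abelian finite simple group whose order is divisible by `p`, no Sylow `p`-subgroup
is contained in the centre of its normalizer. -/
theorem not_normalizer_le_centralizer {G : Type*} [Group G] [Finite G] [IsSimpleGroup G]
    (hG : ¬ IsMulCommutative G) (p : ℕ) [hp : Fact p.Prime] (hpG : p ∣ Nat.card G) (P : Sylow p G) :
    ¬ (Subgroup.normalizer (P : Set G) ≤ Subgroup.centralizer (P : Set G)) := by
  intro hle
  have hc := MonoidHom.ker_transferSylow_isComplement' P hle
  rcases IsSimpleGroup.eq_bot_or_eq_top_of_normal (MonoidHom.transferSylow P hle).ker inferInstance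
    with h | h
  · -- P = ⊤, P abelian
    rw [h] at hc
    have hP : (P : Subgroup G) = ⊤ := by
      rw [Subgroup.isComplement'_bot_left] at hc
      exact hc
    apply hG
    refine ⟨⟨fun a b => ?_⟩⟩
    have ha : a ∈ Subgroup.centralizer (P : Set G) := by
      apply hle
      have : a ∈ (P : Subgroup G) := by rw [hP]; exact Subgroup.mem_top a
      exact Subgroup.le_normalizer this
    have hb : b ∈ (P : Set G) := by
      have : b ∈ (P : Subgroup G) := by rw [hP]; exact Subgroup.mem_top b
      exact this
    exact (Subgroup.mem_centralizer_iff.1 ha b hb).symm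
  · have h2 := MonoidHom.not_dvd_card_ker_transferSylow P hle
    rw [h, Subgroup.card_top] at h2
    exact h2 hpG

/-- The number of Sylow `p`-subgroups of a non-abelian finite simple group (`p` dividing the order)
is not `1`. -/
theorem card_sylow_ne_one {G : Type*} [Group G] [Finite G] [IsSimpleGroup G]
    (hG : ¬ IsMulCommutative G) (p : ℕ) [hp : Fact p.Prime] (hpG : p ∣ Nat.card G) :
    Nat.card (Sylow p G) ≠ 1 := by
  intro h
  have : Subsingleton (Sylow p G) := (Nat.card_eq_one_iff_unique.1 h).1
  obtain ⟨P⟩ : Nonempty (Sylow p G) := inferInstance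
  have hn : (P : Subgroup G).Normal := Sylow.normal_of_subsingleton P
  rcases IsSimpleGroup.eq_bot_or_eq_top_of_normal (P : Subgroup G) hn with h | h
  · exact P.ne_bot_of_dvd_card hpG h
  · -- G is a p-group
    have hpg : IsPGroup p G := by
      have := P.isPGroup'
      rw [h] at this
      exact this.of_equiv Subgroup.topEquiv
    have := hpg.isNilpotent
    apply hG
    have hcen : Subgroup.center G = ⊤ := by
      rcases IsSimpleGroup.eq_bot_or_eq_top_of_normal (Subgroup.center G) inferInstance with h | h
      · exfalso
        have := hpg.center_nontrivial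
        exact (Subgroup.nontrivial_iff_ne_bot (Subgroup.center G)).1 inferInstance h
      · exact h
    refine ⟨⟨fun a b => ?_⟩⟩
    have ha : a ∈ Subgroup.center G := by rw [hcen]; exact Subgroup.mem_top a
    exact ((Subgroup.mem_center_iff.1 ha) b).symm

end Cfsg.Agent.Classification.SimpleIndex
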