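import Mathlib
import Cfsg.Prelude.Def_Blocks
import Cfsg.Agent.Blocks.Basic
import Cfsg.Agent.Blocks.CentralizerSum
import Cfsg.Agent.Characters.Core
import Cfsg.Agent.Characters.Linear
import Cfsg.Agent.S0925
import Cfsg.Agent.Classification.BGBasic
import Cfsg.Agent.Classification.BGOrder
set_option linter.all false

/-!
# Bender–Glauberman characters lie in the principal 2-block
-/

set_option autoImplicit false
set_option linter.unusedSectionVars false

open Cfsg
open scoped ComplexConjugate

namespace Cfsg.Agent.Classification.BGBlockB0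

open Cfsg.Agent.Classification.BGDefs Cfsg.Agent.Classification.BGOrder DihedralGroup
open Cfsg.Agent.Blocks.Basic

section Hom

variable {G : Type*} [Group G] [Finite G] {t : G} {n : ℕ} [NeZero n]
  {π : (Subgroup.centralizer ({t} : Set G)) →* DihedralGroup n}

/-- A homomorphism that is trivial on elements of odd order has the same value on all elements
of `C(t)` mapping to reflections as on `t`. -/
theorem hom_sr (h : BGHyp t n π) {A : Type*} [CommGroup A] (ν : G →* A)
    (hodd : ∀ g, Odd (orderOf g) → ν g = 1) {x : Subgroup.centralizer ({t} : Set G)}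
    {j : ZMod n} (hx : π x = sr j) : ν (x : G) = ν t := by
  have hker : ∀ z : Subgroup.centralizer ({t} : Set G), π z = 1 → ν (z : G) = 1 := by
    intro z hz
    refine hodd _ ?_
    rw [Subgroup.orderOf_coe]
    have h1 : (⟨z, hz⟩ : π.ker) ^ Nat.card π.ker = 1 := pow_card_eq_one'
    have h2 : z ^ Nat.card π.ker = 1 := congrArg Subtype.val h1
    exact h.odd_ker.of_dvd_nat (orderOf_dvd_of_pow_eq_one h2)
  obtain ⟨k, hk⟩ := h.odd_ker
  have hx2 : π (x ^ 2) = 1 := by
    rw [map_pow, hx, pow_two, sr_mul_self]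
  have hxm : (x ^ 2) ^ Nat.card π.ker = 1 := by
    have h1 : (⟨x ^ 2, hx2⟩ : π.ker) ^ Nat.card π.ker = 1 := pow_card_eq_one'
    exact congrArg Subtype.val h1
  -- the involution
  have hy : π (x ^ Nat.card π.ker) = sr j := by
    rw [hk, pow_succ, pow_mul, map_mul, map_pow, hx2, one_pow, one_mul, hx]
  have hy2 : orderOf ((x ^ Nat.card π.ker : Subgroup.centralizer ({t} : Set G)) : G) = 2 := by
    rw [Subgroup.orderOf_coe]
    refine orderOf_eq_prime ?_ ?_
    · rw [← pow_mul, mul_comm, pow_mul]; exact hxm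
    · intro h1
      rw [h1, map_one, one_def] at hy
      cases hy
  have hc := h.one_class _ hy2
  have h3 : ν ((x ^ Nat.card π.ker : Subgroup.centralizer ({t} : Set G)) : G) = ν t := by
    obtain ⟨c, hc⟩ := isConj_iff.1 hc
    rw [← hc, map_mul, map_mul, map_inv, mul_comm (ν c), mul_inv_cancel_right]
  rw [hk, pow_succ, pow_mul, Subgroup.coe_mul, map_mul] at h3
  rw [hker _ (by rw [map_pow, hx2, one_pow]), one_mul] at h3
  exact h3

theorem hom_eq_one (h : BGHyp t n π) (hn : 4 ≤ n) {A : Type*} [CommGroup A] (ν : G →* A)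
    (hodd : ∀ g, Odd (orderOf g) → ν g = 1) (g : G) : ν g = 1 := by
  have hker : ∀ z : Subgroup.centralizer ({t} : Set G), π z = 1 → ν (z : G) = 1 := by
    intro z hz
    refine hodd _ ?_
    rw [Subgroup.orderOf_coe]
    have h1 : (⟨z, hz⟩ : π.ker) ^ Nat.card π.ker = 1 := pow_card_eq_one'
    have h2 : z ^ Nat.card π.ker = 1 := congrArg Subtype.val h1
    exact h.odd_ker.of_dvd_nat (orderOf_dvd_of_pow_eq_one h2)
  have ht2 : ν t * ν t = 1 := by
    rw [← map_mul, BGBasic.t_mul_t h, map_one]
  obtain ⟨x₀, hx₀⟩ := h.surj (sr 0)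
  -- elements mapping to rotations
  have hrot : ∀ (z : Subgroup.centralizer ({t} : Set G)) (j : ZMod n), π z = r j → ν (z : G) = 1 := by
    intro z j hz
    have h1 : π (x₀⁻¹ * z) = sr j := by
      rw [map_mul, map_inv, hx₀, hz]
      simp
    have h2 := hom_sr h ν hodd h1
    have h3 := hom_sr h ν hodd hx₀
    have h4 : (z : G) = (x₀ : G) * ((x₀⁻¹ * z : Subgroup.centralizer ({t} : Set G)) : G) := by
      simp
    rw [h4, map_mul, h2, h3, ht2]
  -- `ν t = 1`
  have ht1 : ν t = 1 := by
    obtain ⟨m, hm, hnm⟩ := h.pow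
    have h4 : 4 ∣ n := by
      have hm2 : 2 ≤ m := by
        by_contra hlt
        have : m = 1 := by omega
        subst this
        omega
      rw [hnm]
      exact pow_dvd_pow 2 hm2
    obtain ⟨q, hq⟩ := h4
    obtain ⟨z, hz⟩ := h.surj (r ((q : ℕ) : ZMod n))
    have h5 : π (z ^ 2 * (BGBasic.tt t)⁻¹) = 1 := by
      rw [map_mul, map_pow, hz, map_inv, BGBasic.map_tt h, pow_two, r_mul_r]
      have : n / 2 = q + q := by omega
      rw [this]
      simp
    have h6 := hker _ h5
    rw [Subgroup.coe_mul, map_mul, Subgroup.coe_pow, map_pow, hrot z _ hz, one_pow, one_mul] at h6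
    rw [Subgroup.coe_inv, map_inv, inv_eq_one] at h6
    exact h6
  have hall : ∀ z : Subgroup.centralizer ({t} : Set G), ν (z : G) = 1 := by
    intro z
    rcases hz : π z with j | j
    · exact hrot z j hz
    · rw [hom_sr h ν hodd hz, ht1]
  by_cases ho : Odd (orderOf g)
  · exact hodd g ho
  · have he : 2 ∣ orderOf g := by
      rw [← even_iff_two_dvd]; exact Nat.not_odd_iff_even.1 ho
    obtain ⟨k, hk⟩ := he
    have hk0 : k ≠ 0 := by
      rintro rfl
      have := orderOf_pos g
      omega
    have hu : orderOf (g ^ k) = 2 := by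
      rw [orderOf_pow_of_dvd hk0 ⟨2, by rw [hk]; ring⟩, hk]
      exact Nat.mul_div_cancel _ (Nat.pos_of_ne_zero hk0)
    obtain ⟨c, hc⟩ := isConj_iff.1 (h.one_class _ hu)
    have hmem : c⁻¹ * g * c ∈ Subgroup.centralizer ({t} : Set G) := by
      rw [Subgroup.mem_centralizer_singleton_iff]
      have h7 : t = c⁻¹ * g ^ k * c := by rw [← hc]; group
      have h8 : t = (c⁻¹ * g * c) ^ k := by
        rw [h7]
        have := conj_pow (i := k) (a := c⁻¹) (b := g)
        rw [inv_inv] at this
        exact this.symm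
      rw [h8]
      exact ((Commute.refl (c⁻¹ * g * c)).pow_right k).eq
    have h9 := hall ⟨_, hmem⟩
    simp only [map_mul, map_inv] at h9
    rw [mul_comm (ν c)⁻¹, inv_mul_cancel_right] at h9
    exact h9

/-- An irreducible character of degree one that is trivial on elements of odd order is trivial. -/
theorem irr_eq_one (h : BGHyp t n π) (hn : 4 ≤ n) {χ : G → ℂ} (hχ : IsIrrCharacter G χ)
    (h1 : χ 1 = 1) (hodd : ∀ g, Odd (orderOf g) → χ g = 1) : χ = 1 := by
  obtain ⟨ν, rfl⟩ := Characters.Linear.exists_hom_of_isIrrCharacter hχ h1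
  funext g
  have := hom_eq_one h hn ν (fun g hg => by
    have := hodd g hg
    exact Units.ext (by simpa using this)) g
  simp [this]

end Hom

section Part

variable {G : Type*} [Group G] [Finite G]

theorem blockPart_sum [Fintype (IrrCharacter G)] [Fintype G] (B : Set (IrrCharacter G))
    [DecidablePred (· ∈ B)] (ϑ : G → ℂ) (g : G) :
    blockPart B ϑ g = ∑ χ : IrrCharacter G with χ ∈ B, classInner ϑ (χ : G → ℂ) * (χ : G → ℂ) g := by
  rw [Blocks.CentralizerSum.blockPart_eq, Blocks.Orthogonality.finsum_mem_eq_sum_filter]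

theorem blockPart_add (B : Set (IrrCharacter G)) (ϑ η : G → ℂ) :
    blockPart B (ϑ + η) = blockPart B ϑ + blockPart B η := by
  classical
  have := Fintype.ofFinite G
  have : Finite (IrrCharacter G) := Characters.Core.finite_irr
  have := Fintype.ofFinite (IrrCharacter G)
  funext g
  rw [Pi.add_apply, blockPart_sum, blockPart_sum, blockPart_sum, ← Finset.sum_add_distrib]
  refine Finset.sum_congr rfl fun χ _ => ?_
  rw [Characters.Core.classInner_add_left, add_mul]

theorem blockPart_neg (B : Set (IrrCharacter G)) (ϑ : G → ℂ) :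
    blockPart B (-ϑ) = -blockPart B ϑ := by
  classical
  have := Fintype.ofFinite G
  have : Finite (IrrCharacter G) := Characters.Core.finite_irr
  have := Fintype.ofFinite (IrrCharacter G)
  funext g
  rw [Pi.neg_apply, blockPart_sum, blockPart_sum, ← Finset.sum_neg_distrib]
  refine Finset.sum_congr rfl fun χ _ => ?_
  rw [Characters.Core.classInner_neg_left, neg_mul]

theorem blockPart_sub (B : Set (IrrCharacter G)) (ϑ η : G → ℂ) :
    blockPart B (ϑ - η) = blockPart B ϑ - blockPart B η := by
  rw [sub_eq_add_neg, blockPart_add, blockPart_neg, ← sub_eq_add_neg]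

theorem blockPart_irr (B : Set (IrrCharacter G)) (χ : IrrCharacter G) :
    (χ ∈ B → blockPart B (χ : G → ℂ) = χ) ∧ (χ ∉ B → blockPart B (χ : G → ℂ) = 0) := by
  classical
  have := Fintype.ofFinite G
  have : Finite (IrrCharacter G) := Characters.Core.finite_irr
  have := Fintype.ofFinite (IrrCharacter G)
  have key : ∀ ψ : IrrCharacter G, classInner (χ : G → ℂ) (ψ : G → ℂ) = if χ = ψ then 1 else 0 := by
    intro ψ
    by_cases h : χ = ψ
    · subst h
      rw [if_pos rfl, Characters.Core.classInner_irr_self χ.2]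
    · rw [if_neg h, Characters.Core.classInner_irr_ne χ.2 ψ.2 (fun h' => h (Subtype.ext h'))]
  constructor
  · intro hχ
    funext g
    rw [blockPart_sum, Finset.sum_eq_single χ]
    · rw [key, if_pos rfl, one_mul]
    · intro ψ _ hne
      rw [key, if_neg (Ne.symm hne), zero_mul]
    · intro hn
      exact absurd (Finset.mem_filter.2 ⟨Finset.mem_univ _, hχ⟩) hn
  · intro hχ
    funext g
    rw [blockPart_sum]
    refine Finset.sum_eq_zero fun ψ hψ => ?_
    rw [key, if_neg, zero_mul]
    rintro rfl
    exact hχ (Finset.mem_filter.1 hψ).2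

/-- Up to sign, the function is a member of the set `B` of irreducible characters. -/
def InB (B : Set (IrrCharacter G)) (X : G → ℂ) : Prop :=
  ∃ χ ∈ B, X = (χ : G → ℂ) ∨ X = -(χ : G → ℂ)

theorem InB.signedIrr {B : Set (IrrCharacter G)} {X : G → ℂ} (h : InB B X) : SignedIrr X := by
  obtain ⟨χ, _, rfl | rfl⟩ := h
  · exact Or.inl χ.2
  · exact Or.inr (by rw [neg_neg]; exact χ.2)

theorem blockPart_of_inB {B : Set (IrrCharacter G)} {X : G → ℂ} (h : InB B X) :
    blockPart B X = X := by
  obtain ⟨χ, hχ, rfl | rfl⟩ := h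
  · exact (blockPart_irr B χ).1 hχ
  · rw [blockPart_neg, (blockPart_irr B χ).1 hχ]

theorem blockPart_of_not {B : Set (IrrCharacter G)} {X : G → ℂ} (hX : SignedIrr X)
    (h : ¬ InB B X) : blockPart B X = 0 := by
  rcases hX with hX | hX
  · exact (blockPart_irr B ⟨X, hX⟩).2 fun h' => h ⟨_, h', Or.inl rfl⟩
  · have h1 := (blockPart_irr B ⟨-X, hX⟩).2 fun h' => h ⟨_, h', Or.inr (neg_neg X).symm⟩
    rw [show X = -(-X) from (neg_neg X).symm, blockPart_neg]
    rw [show blockPart B (-X) = 0 from h1, neg_zero]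

theorem blockPart_cases (B : Set (IrrCharacter G)) {X : G → ℂ} (hX : SignedIrr X) :
    (InB B X ∧ blockPart B X = X) ∨ (¬ InB B X ∧ blockPart B X = 0) := by
  by_cases h : InB B X
  · exact Or.inl ⟨h, blockPart_of_inB h⟩
  · exact Or.inr ⟨h, blockPart_of_not hX h⟩

theorem isClassFunction_signed {X : G → ℂ} (hX : SignedIrr X) : IsClassFunction G X := by
  rcases hX with hX | hX
  · exact Characters.Core.isIrr_isClassFunction hX
  · have h1 := Characters.Core.isIrr_isClassFunction hX
    intro g k
    have := h1 g k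
    simpa using this

theorem one_inB {M : Ideal AlgInt} (hM : IsPModular 2 M) :
    InB (principalBlock M G) (1 : G → ℂ) := by
  have : M.IsPrime := Blocks.Local.isPrime_of_isPModular hM
  exact ⟨⟨fun _ => 1, isIrrCharacter_one⟩, sameBlock_refl _, Or.inl rfl⟩

/-- The part of a class function in the principal block vanishes on elements of odd order if the
function does. -/
theorem blockPart_odd {M : Ideal AlgInt} (hM : IsPModular 2 M) {ϑ : G → ℂ}
    (hϑ : IsClassFunction G ϑ) (hodd : ∀ g, Odd (orderOf g) → ϑ g = 0) {g : G}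
    (hg : Odd (orderOf g)) : blockPart (principalBlock M G) ϑ g = 0 := by
  have : Fact (Nat.Prime 2) := ⟨Nat.prime_two⟩
  have hB : IsPBlock M (principalBlock M G) := ⟨⟨fun _ => 1, isIrrCharacter_one⟩, rfl⟩
  refine (S0925.result 2 M hM).1 ϑ hϑ 1 ⟨0, by simp⟩ ?_ _ hB g 1 ?_ (IsConj.refl 1)
  · intro u z hz hz1
    obtain ⟨y, hy, _, _, hy2⟩ := hz
    have hz1 : z = 1 := by
      obtain ⟨c, hc⟩ := isConj_iff.1 hz1
      rw [← hc]; simp
    subst hz1
    rw [one_mul] at hy
    subst hy
    exact hodd _ (Nat.not_even_iff_odd.1 fun h => hy2 (even_iff_two_dvd.1 h))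
  · refine ⟨g, one_mul g, Commute.one_left g, ⟨0, by simp⟩, ?_⟩
    intro h
    exact (Nat.not_even_iff_odd.2 hg) (even_iff_two_dvd.2 h)

end Part

section Main

variable {G : Type*} [Group G] [Finite G] {t : G} {n : ℕ} [NeZero n]
  {π : (Subgroup.centralizer ({t} : Set G)) →* DihedralGroup n}

theorem signed_one (X : G → ℂ) (hX : SignedIrr X) : ∃ k : ℤ, k ≠ 0 ∧ X 1 = k ∧
    (0 < k → IsIrrCharacter G X) ∧ (k < 0 → IsIrrCharacter G (-X)) := by
  rcases hX with h | h
  · obtain ⟨m, hm, h1⟩ := Characters.Core.isIrr_apply_one h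
    exact ⟨m, by omega, by rw [h1]; norm_cast, fun _ => h, fun h' => by omega⟩
  · obtain ⟨m, hm, h1⟩ := Characters.Core.isIrr_apply_one h
    refine ⟨-m, by omega, ?_, fun h' => by omega, fun _ => h⟩
    rw [Pi.neg_apply] at h1
    rw [← neg_neg (X 1), h1]
    push_cast
    ring

/-- `1 + X` does not vanish on the elements of odd order. -/
theorem one_add_ne (h : BGHyp t n π) (hn : 4 ≤ n) {X : G → ℂ} (hX : SignedIrr X) (hX1 : X ≠ -1)
    (hodd : ∀ g, Odd (orderOf g) → 1 + X g = 0) : False := by
  obtain ⟨k, hk, hk1, _, hneg⟩ := signed_one X hX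
  have h1 := hodd 1 (by simp)
  rw [hk1] at h1
  have h2 : k = -1 := by
    have : (1 + k : ℤ) = 0 := by exact_mod_cast h1
    omega
  refine hX1 ?_
  have h3 := irr_eq_one h hn (hneg (by omega)) (by rw [Pi.neg_apply, hk1, h2]; simp) ?_
  · rw [← neg_neg X, h3]
  · intro g hg
    have := hodd g hg
    rw [Pi.neg_apply]
    linear_combination -this

/-- `1 - T` does not vanish on the elements of odd order. -/
theorem one_sub_ne (h : BGHyp t n π) (hn : 4 ≤ n) {T : G → ℂ} (hT : SignedIrr T) (hT1 : T ≠ 1)
    (hodd : ∀ g, Odd (orderOf g) → 1 - T g = 0) : False := by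
  refine one_add_ne h hn (X := -T) ?_ ?_ ?_
  · rcases hT with h | h
    · exact Or.inr (by rw [neg_neg]; exact h)
    · exact Or.inl h
  · intro h1
    exact hT1 (neg_injective h1)
  · intro g hg
    rw [Pi.neg_apply, ← sub_eq_add_neg]
    exact hodd g hg

/-- Norm three: if `1 + X - T` vanishes on the elements of odd order then `X` and `T` are in the
principal 2-block. -/
theorem inB_three (h : BGHyp t n π) (hn : 4 ≤ n) {M : Ideal AlgInt} (hM : IsPModular 2 M)
    {X T : G → ℂ} (hX : SignedIrr X) (hT : SignedIrr T) (hX1 : X ≠ -1) (hT1 : T ≠ 1)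
    (hodd : ∀ g, Odd (orderOf g) → 1 + X g - T g = 0) :
    InB (principalBlock M G) X ∧ InB (principalBlock M G) T := by
  have hcl : IsClassFunction G (1 + X - T) := by
    intro g k
    have h1 := isClassFunction_signed hX g k
    have h2 := isClassFunction_signed hT g k
    simp only [Pi.sub_apply, Pi.add_apply, Pi.one_apply, h1, h2]
  have key : ∀ g, Odd (orderOf g) → 1 + blockPart (principalBlock M G) X g -
      blockPart (principalBlock M G) T g = 0 := by
    intro g hg
    have h1 := blockPart_odd hM hcl (fun g hg => by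
      simpa using hodd g hg) hg
    rw [blockPart_sub, blockPart_add, blockPart_of_inB (one_inB hM)] at h1
    simpa using h1
  rcases blockPart_cases (principalBlock M G) hX with ⟨hXB, hX'⟩ | ⟨hXB, hX'⟩ <;>
    rcases blockPart_cases (principalBlock M G) hT with ⟨hTB, hT'⟩ | ⟨hTB, hT'⟩
  · exact ⟨hXB, hTB⟩
  · exfalso
    refine one_add_ne h hn hX hX1 fun g hg => ?_
    have := key g hg
    rw [hX', hT'] at this
    simpa using this
  · exfalso
    refine one_sub_ne h hn hT hT1 fun g hg => ?_
    have := key g hg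
    rw [hX', hT'] at this
    simpa using this
  · exfalso
    have := key 1 (by simp)
    rw [hX', hT'] at this
    simp at this

/-- Norm four: if `1 + X - X₂ - X₃` vanishes on the elements of odd order and `X` is in the
principal 2-block, then so are `X₂` and `X₃`. -/
theorem inB_four (h : BGHyp t n π) (hn : 4 ≤ n) {M : Ideal AlgInt} (hM : IsPModular 2 M)
    {X X₂ X₃ : G → ℂ} (hXB : InB (principalBlock M G) X) (hX1 : X ≠ -1)
    (hX₂ : SignedIrr X₂) (hX₃ : SignedIrr X₃)
    (hodd : ∀ g, Odd (orderOf g) → 1 + X g - X₂ g - X₃ g = 0) :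
    InB (principalBlock M G) X₂ ∧ InB (principalBlock M G) X₃ := by
  have hX := hXB.signedIrr
  have hcl : IsClassFunction G (1 + X - X₂ - X₃) := by
    intro g k
    have h1 := isClassFunction_signed hX g k
    have h2 := isClassFunction_signed hX₂ g k
    have h3 := isClassFunction_signed hX₃ g k
    simp only [Pi.sub_apply, Pi.add_apply, Pi.one_apply, h1, h2, h3]
  have key : ∀ g, Odd (orderOf g) → 1 + X g - blockPart (principalBlock M G) X₂ g -
      blockPart (principalBlock M G) X₃ g = 0 := by
    intro g hg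
    have h1 := blockPart_odd hM hcl (fun g hg => by
      simpa using hodd g hg) hg
    rw [blockPart_sub, blockPart_sub, blockPart_add, blockPart_of_inB (one_inB hM),
      blockPart_of_inB hXB] at h1
    simpa using h1
  rcases blockPart_cases (principalBlock M G) hX₂ with ⟨h2B, h2'⟩ | ⟨h2B, h2'⟩ <;>
    rcases blockPart_cases (principalBlock M G) hX₃ with ⟨h3B, h3'⟩ | ⟨h3B, h3'⟩
  · exact ⟨h2B, h3B⟩
  · exfalso
    have e1 := key 1 (by simp)
    have e2 := hodd 1 (by simp)
    rw [h2', h3', Pi.zero_apply, sub_zero] at e1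
    rw [e1, zero_sub, neg_eq_zero] at e2
    exact hX₃.apply_one_ne_zero e2
  · exfalso
    have e1 := key 1 (by simp)
    have e2 := hodd 1 (by simp)
    rw [h2', h3', Pi.zero_apply, sub_zero] at e1
    exact hX₂.apply_one_ne_zero (by linear_combination e1 - e2)
  · exfalso
    refine one_add_ne h hn hX hX1 fun g hg => ?_
    have := key g hg
    rw [h2', h3'] at this
    simpa using this

end Main

end Cfsg.Agent.Classification.BGBlockB0
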