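import Mathlib
import Cfsg.Agent.S0029
import Cfsg.Agent.Solvable.UniqueOrderP
import Cfsg.Agent.Lib.FrattiniPGroup
import Cfsg.Agent.Lib.ProductSet
import Cfsg.Agent.TwoFusion.FpfThree
import Cfsg.Agent.FastGrp
import Cfsg.Agent.Prune
set_option linter.all false
prune_inst 0x7ffcfefbeff8bfffffff7e7fffffdffffbfcffffffdfffcbffffebffffff6b7f7be5fbaf9fecd8ffdef7e2b630fa7b53ffffeeffef6fdc7ffffd5ff45ffbff9fffffbfa951f79c3e1ffe6ffffbf17fffffffffffffffffffffffffffffffffffffffffffffff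
open scoped Cfsg.Agent.FastGrp

/-!
# Two-groups with a fixed-point-free automorphism of three-power order inverted by an involution
whose fixed points contain a single involution

`T` is a 2-subgroup of a finite group, `x` an involution and `r` an element of 3-power order, both
normalising `T`, with `x` inverting `r`; `z` is the only involution of `C_T(x)`, it is central in `T`
and not centralised by `r`.  If `T` has an involution outside the four-group `⟨z, w⟩` then `|T| = 64`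
and `T` is the product of two elementary abelian groups of order 16 swapped by `x`.
-/

set_option autoImplicit false

open scoped commutatorElement Pointwise

namespace Cfsg.Agent.Classification.NonConnFused

open Cfsg.Agent.TwoFusion.FpfThree

/-! ### Automorphisms of 3-power order of small groups -/

/-- A finite group acting freely on a finite type: the order of the group divides the cardinality. -/
theorem card_dvd_of_free {H X : Type*} [Group H] [Finite H] [Finite X] [MulAction H X]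
    (h : ∀ (g : H) (x : X), g • x = x → g = 1) : Nat.card H ∣ Nat.card X := by
  classical
  have : Fintype H := Fintype.ofFinite H
  have : Fintype X := Fintype.ofFinite X
  have hst : ∀ x : X, MulAction.stabilizer H x = ⊥ := by
    intro x
    rw [eq_bot_iff]
    intro g hg
    exact Subgroup.mem_bot.2 (h g x (MulAction.mem_stabilizer_iff.1 hg))
  rw [Nat.card_eq_fintype_card, Nat.card_eq_fintype_card,
    MulAction.card_eq_sum_card_group_div_card_stabilizer H X]
  apply Finset.dvd_sum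
  intro ω _
  have h1 : Fintype.card (MulAction.stabilizer H ω.out) = 1 := by
    rw [← Nat.card_eq_fintype_card, hst]; simp
  rw [h1, Nat.div_one]

theorem pow_nine_aux {M : Type*} [Group M] {τ : M} (h9 : τ ^ 9 = 1) {i : ℤ}
    (hi : τ ^ i ≠ 1) : ∃ j : ℤ, (τ ^ i) ^ j = τ ^ 3 := by
  have key : ∃ j m : ℤ, i * j = 9 * m + 3 := by
    have h0 : i % 9 ≠ 0 := by
      intro h
      apply hi
      obtain ⟨c, hc⟩ := Int.dvd_of_emod_eq_zero h
      rw [hc, zpow_mul]
      have : τ ^ (9 : ℤ) = 1 := by exact_mod_cast h9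
      rw [this, one_zpow]
    have h1 : i % 9 = 1 ∨ i % 9 = 2 ∨ i % 9 = 3 ∨ i % 9 = 4 ∨ i % 9 = 5 ∨ i % 9 = 6 ∨
      i % 9 = 7 ∨ i % 9 = 8 := by omega
    rcases h1 with h1 | h1 | h1 | h1 | h1 | h1 | h1 | h1
    · exact ⟨3, (i * 3 - 3) / 9, by omega⟩
    · exact ⟨6, (i * 6 - 3) / 9, by omega⟩
    · exact ⟨1, (i * 1 - 3) / 9, by omega⟩
    · exact ⟨3, (i * 3 - 3) / 9, by omega⟩
    · exact ⟨6, (i * 6 - 3) / 9, by omega⟩
    · exact ⟨2, (i * 2 - 3) / 9, by omega⟩
    · exact ⟨3, (i * 3 - 3) / 9, by omega⟩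
    · exact ⟨6, (i * 6 - 3) / 9, by omega⟩
  obtain ⟨j, m, hjm⟩ := key
  refine ⟨j, ?_⟩
  rw [← zpow_mul, hjm, zpow_add, zpow_mul]
  have : τ ^ (9 : ℤ) = 1 := by exact_mod_cast h9
  rw [this, one_zpow, one_mul]
  exact_mod_cast rfl

/-- An automorphism of 3-power order of a group of order dividing 16 has order dividing 3. -/
theorem cube_eq_one {V : Type*} [Group V] [Finite V] {n : ℕ} (hn : n ≤ 4) (hV : Nat.card V = 2 ^ n)
    (σ : MulAut V) {k : ℕ} (hσ : σ ^ 3 ^ k = 1) : σ ^ 3 = 1 := by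
  classical
  by_contra hne
  have hex : ∃ k, σ ^ 3 ^ k = 1 := ⟨k, hσ⟩
  obtain ⟨m, hm, hmin⟩ : ∃ m, σ ^ 3 ^ m = 1 ∧ ∀ l < m, σ ^ 3 ^ l ≠ 1 :=
    ⟨Nat.find hex, Nat.find_spec hex, fun l hl => Nat.find_min hex hl⟩
  have hm2 : 2 ≤ m := by
    by_contra hlt
    have : m = 0 ∨ m = 1 := by omega
    rcases this with rfl | rfl
    · apply hne
      rw [pow_zero, pow_one] at hm
      rw [hm, one_pow]
    · apply hne
      rw [pow_one] at hm
      exact hm
  obtain ⟨l, rfl⟩ : ∃ l, m = l + 2 := ⟨m - 2, by omega⟩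
  set τ := σ ^ 3 ^ l with hτ
  have h9 : τ ^ 9 = 1 := by
    rw [hτ, ← pow_mul]
    have : 3 ^ l * 9 = 3 ^ (l + 2) := by ring
    rw [this, hm]
  have h3 : τ ^ 3 ≠ 1 := by
    rw [hτ, ← pow_mul, ← pow_succ]
    exact hmin _ (by omega)
  let C : Subgroup V := (τ ^ 3).toMonoidHom.eqLocus (MonoidHom.id V)
  have hC : ∀ v, v ∈ C ↔ (τ ^ 3) v = v := fun v => Iff.rfl
  have hCtop : C ≠ ⊤ := by
    intro h
    apply h3
    ext v
    exact (hC v).1 (by rw [h]; exact Subgroup.mem_top v)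
  have hinv : ∀ g : Subgroup.zpowers τ, ∀ v : V, v ∉ C → (g : MulAut V) v ∉ C := by
    rintro ⟨g, i, rfl⟩ v hv h
    apply hv
    rw [hC] at h ⊢
    have hcomm : (τ ^ 3) * (τ ^ i) = (τ ^ i) * (τ ^ 3) :=
      ((Commute.refl τ).pow_left 3).zpow_right i
    have h4 : (τ ^ i) ((τ ^ 3) v) = (τ ^ i) v := by
      have := DFunLike.congr_fun hcomm v
      rw [MulAut.mul_apply, MulAut.mul_apply] at this
      rw [← this]
      exact h
    exact (τ ^ i).injective h4
  let act : MulAction (Subgroup.zpowers τ) {v : V // v ∉ C} :=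
    { smul := fun g v => ⟨(g : MulAut V) v.1, hinv g v.1 v.2⟩
      one_smul := fun v => Subtype.ext rfl
      mul_smul := fun g h v => Subtype.ext rfl }
  have hfree : ∀ (g : Subgroup.zpowers τ) (v : {v : V // v ∉ C}), g • v = v → g = 1 := by
    rintro ⟨g, i, rfl⟩ v hv
    by_contra hg
    have hg' : τ ^ i ≠ 1 := fun h => hg (Subtype.ext h)
    obtain ⟨j, hj⟩ := pow_nine_aux h9 hg'
    apply v.2
    rw [hC, ← hj]
    have h5 : (τ ^ i) v.1 = v.1 := congrArg Subtype.val hv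
    have h6 : τ ^ i ∈ MulAction.stabilizer (MulAut V) v.1 := h5
    exact zpow_mem h6 j
  have hdvd := card_dvd_of_free hfree
  have hord : orderOf τ = 9 := by
    have := orderOf_eq_prime_pow (p := 3) (n := 1) (x := τ) (by rw [pow_one]; exact h3)
      (by norm_num; exact h9)
    rw [this]; norm_num
  rw [Nat.card_zpowers, hord] at hdvd
  have hcard : Nat.card {v : V // v ∉ C} = Nat.card V - Nat.card C := by
    have : Fintype V := Fintype.ofFinite V
    rw [Nat.card_eq_fintype_card, Nat.card_eq_fintype_card, Nat.card_eq_fintype_card]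
    exact Fintype.card_subtype_compl _
  obtain ⟨j, hj, hCj⟩ := (Nat.dvd_prime_pow Nat.prime_two).1 (hV ▸ Subgroup.card_subgroup_dvd_card C)
  have hjn : j ≠ n := by
    rintro rfl
    exact hCtop (Subgroup.eq_top_of_card_eq C (by rw [hCj, hV]))
  rw [hcard, hV, hCj] at hdvd
  have hn' : n = 0 ∨ n = 1 ∨ n = 2 ∨ n = 3 ∨ n = 4 := by omega
  have hj' : j < n := by omega
  rcases hn' with rfl | rfl | rfl | rfl | rfl
  · omega
  · have : j = 0 := by omega
    subst this; norm_num at hdvd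
  · have : j = 0 ∨ j = 1 := by omega
    rcases this with rfl | rfl <;> norm_num at hdvd
  · have : j = 0 ∨ j = 1 ∨ j = 2 := by omega
    rcases this with rfl | rfl | rfl <;> norm_num at hdvd
  · have : j = 0 ∨ j = 1 ∨ j = 2 ∨ j = 3 := by omega
    rcases this with rfl | rfl | rfl | rfl <;> norm_num at hdvd

/-- A nontrivial finite 2-group has a central involution. -/
theorem exists_central_involution {P : Type*} [Group P] [Finite P] (hP : IsPGroup 2 P)
    [Nontrivial P] : ∃ c : P, c ≠ 1 ∧ c * c = 1 ∧ ∀ g : P, g * c = c * g := by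
  have : Fact (Nat.Prime 2) := ⟨Nat.prime_two⟩
  have h1 : Nontrivial (Subgroup.center P) := hP.center_nontrivial
  have h2 : 2 ∣ Nat.card (Subgroup.center P) := by
    obtain ⟨n, hn, h⟩ := (hP.to_subgroup (Subgroup.center P)).nontrivial_iff_card.1 h1
    rw [h]
    exact dvd_pow_self 2 (by omega)
  obtain ⟨c, hc⟩ := exists_prime_orderOf_dvd_card' 2 h2
  refine ⟨c, ?_, ?_, fun g => ?_⟩
  · intro h
    have : c = 1 := Subtype.ext h
    rw [this, orderOf_one] at hc
    norm_num at hc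
  · have := pow_orderOf_eq_one c
    rw [hc, pow_two] at this
    exact congrArg Subtype.val this
  · exact Subgroup.mem_center_iff.1 c.2 g

/-- A group of exponent 2 in which every element is `u ^ a * v ^ b` has at most 4 elements. -/
theorem card_le_four {Q : Type*} [Group Q] (hsq : ∀ q : Q, q * q = 1) (u v : Q)
    (hgen : ∀ q : Q, ∃ a b : ℤ, q = u ^ a * v ^ b) : Nat.card Q ≤ 4 := by
  have hpow : ∀ (u : Q) (a : ℤ), u ^ a = 1 ∨ u ^ a = u := by
    intro u a
    rcases Int.even_or_odd' a with ⟨m, rfl | rfl⟩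
    · left
      rw [zpow_mul, zpow_two, hsq, one_zpow]
    · right
      rw [zpow_add, zpow_mul, zpow_two, hsq, one_zpow, one_mul, zpow_one]
  let f : Bool × Bool → Q := fun p => (if p.1 then u else 1) * (if p.2 then v else 1)
  have hf : Function.Surjective f := by
    intro q
    obtain ⟨a, b, rfl⟩ := hgen q
    rcases hpow u a with h1 | h1 <;> rcases hpow v b with h2 | h2 <;> rw [h1, h2]
    · exact ⟨(false, false), by simp [f]⟩
    · exact ⟨(false, true), by simp [f]⟩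
    · exact ⟨(true, false), by simp [f]⟩
    · exact ⟨(true, true), by simp [f]⟩
  have := Nat.card_le_card_of_surjective f hf
  simpa using this


/-! ### The configuration -/

/-- The hypotheses. -/
structure Hyp {G : Type*} [Group G] (T : Subgroup G) (x r z w : G) : Prop where
  hT : IsPGroup 2 T
  x2 : x * x = 1
  xT : ∀ t ∈ T, x * t * x⁻¹ ∈ T
  rT : ∀ t ∈ T, r * t * r⁻¹ ∈ T
  r3 : ∃ k : ℕ, r ^ 3 ^ k = 1
  xr : x * r * x⁻¹ = r⁻¹
  zT : z ∈ T
  wT : w ∈ T
  z2 : z * z = 1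
  w2 : w * w = 1
  z1 : z ≠ 1
  zc : ∀ t ∈ T, t * z = z * t
  wc : ∀ t ∈ T, t * w = w * t
  xz : x * z * x⁻¹ = z
  xw : x * w * x⁻¹ = w * z
  hY : ∀ t ∈ T, t * x = x * t → t * t = 1 → t = 1 ∨ t = z
  rz : r * z * r⁻¹ ≠ z

namespace Hyp

variable {G : Type*} [Group G] {T : Subgroup G} {x r z w : G}

theorem x_inv (h : Hyp T x r z w) : x⁻¹ = x := inv_eq_of_mul_eq_one_right h.x2

theorem conj_conj (h : Hyp T x r z w) (t : G) : x * (x * t * x⁻¹) * x⁻¹ = t := by
  have h1 := h.x2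
  rw [h.x_inv]
  calc x * (x * t * x) * x = (x * x) * t * (x * x) := by simp only [mul_assoc]
    _ = t := by rw [h1, one_mul, mul_one]

theorem fix_iff {a b : G} : a * b * a⁻¹ = b ↔ a * b = b * a := mul_inv_eq_iff_eq_mul

theorem w_ne (h : Hyp T x r z w) : w ≠ 1 := by
  rintro rfl
  apply h.z1
  have := h.xw
  rw [mul_one, mul_inv_cancel, one_mul] at this
  exact this.symm

theorem w_ne_z (h : Hyp T x r z w) : w ≠ z := by
  rintro rfl
  have h1 := h.xw
  rw [h.xz] at h1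
  exact h.z1 (left_eq_mul.1 h1)

/-- an involution of `T` commuting with its conjugate under `x` lies in the four-group -/
theorem mem_four (h : Hyp T x r z w) {t : G} (ht : t ∈ T) (ht2 : t * t = 1)
    (hc : t * (x * t * x⁻¹) = (x * t * x⁻¹) * t) : t = 1 ∨ t = z ∨ t = w ∨ t = w * z := by
  set u := x * t * x⁻¹ with hu
  have huT : u ∈ T := h.xT t ht
  have hu2 : u * u = 1 := by
    rw [hu]
    calc x * t * x⁻¹ * (x * t * x⁻¹) = x * (t * t) * x⁻¹ := by group
      _ = 1 := by rw [ht2]; group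
  have hxu : x * u * x⁻¹ = t := h.conj_conj t
  have hs2 : (t * u) * (t * u) = 1 := by
    calc (t * u) * (t * u) = t * (u * t) * u := by simp only [mul_assoc]
      _ = (t * t) * (u * u) := by rw [← hc]; simp only [mul_assoc]
      _ = 1 := by rw [ht2, hu2, one_mul]
  have hsx : x * (t * u) * x⁻¹ = t * u := by
    calc x * (t * u) * x⁻¹ = (x * t * x⁻¹) * (x * u * x⁻¹) := by group
      _ = u * t := by rw [hxu]
      _ = t * u := hc.symm
  rcases h.hY (t * u) (T.mul_mem ht huT) (fix_iff.1 hsx).symm hs2 with h1 | h1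
  · have h2 : u = t := by
      rw [← inv_eq_of_mul_eq_one_right h1]
      exact inv_eq_of_mul_eq_one_right ht2
    rcases h.hY t ht (fix_iff.1 (by rw [← hu, h2])).symm ht2 with h3 | h3
    · exact Or.inl h3
    · exact Or.inr (Or.inl h3)
  · have h2 : u = t * z := by
      calc u = t * t * u := by rw [ht2, one_mul]
        _ = t * (t * u) := by rw [mul_assoc]
        _ = t * z := by rw [h1]
    have h3 : x * (t * w) * x⁻¹ = t * w := by
      calc x * (t * w) * x⁻¹ = (x * t * x⁻¹) * (x * w * x⁻¹) := by group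
        _ = t * z * (w * z) := by rw [← hu, h2, h.xw]
        _ = t * (z * w) * z := by simp only [mul_assoc]
        _ = t * w * (z * z) := by rw [h.wc z h.zT]; simp only [mul_assoc]
        _ = t * w := by rw [h.z2, mul_one]
    have h4 : (t * w) * (t * w) = 1 := by
      calc (t * w) * (t * w) = t * (w * t) * w := by simp only [mul_assoc]
        _ = (t * t) * (w * w) := by rw [← h.wc t ht]; simp only [mul_assoc]
        _ = 1 := by rw [ht2, h.w2, one_mul]
    have h5 : t = (t * w) * w := by rw [mul_assoc, h.w2, mul_one]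
    rcases h.hY (t * w) (T.mul_mem ht h.wT) (fix_iff.1 h3).symm h4 with h6 | h6
    · right; right; left
      rw [h5, h6, one_mul]
    · right; right; right
      rw [h5, h6, h.wc z h.zT]

theorem rpow_mem {K : Subgroup G} (hrK : ∀ t ∈ K, r * t * r⁻¹ ∈ K) (n : ℕ)
    {t : G} (ht : t ∈ K) : r ^ n * t * (r ^ n)⁻¹ ∈ K := by
  induction n with
  | zero => simpa using ht
  | succ n ih =>
    have := hrK _ ih
    have h1 : r ^ (n + 1) * t * (r ^ (n + 1))⁻¹ = r * (r ^ n * t * (r ^ n)⁻¹) * r⁻¹ := by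
      rw [pow_succ']; group
    rw [h1]; exact this

theorem exists_inv_pow (h : Hyp T x r z w) : ∃ n : ℕ, r⁻¹ = r ^ n := by
  obtain ⟨k, hk⟩ := h.r3
  refine ⟨3 ^ k - 1, ?_⟩
  rw [inv_eq_iff_mul_eq_one, ← pow_succ', Nat.sub_add_cancel (Nat.one_le_pow _ _ (by norm_num)), hk]

theorem rinv_mem (h : Hyp T x r z w) {K : Subgroup G} (hrK : ∀ t ∈ K, r * t * r⁻¹ ∈ K)
    {t : G} (ht : t ∈ K) : r⁻¹ * t * r ∈ K := by
  obtain ⟨n, hn⟩ := h.exists_inv_pow
  have h1 := rpow_mem hrK n ht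
  rw [← hn, inv_inv] at h1
  exact h1

theorem rinvpow_mem (h : Hyp T x r z w) {K : Subgroup G} (hrK : ∀ t ∈ K, r * t * r⁻¹ ∈ K) (n : ℕ)
    {t : G} (ht : t ∈ K) : (r ^ n)⁻¹ * t * r ^ n ∈ K := by
  induction n with
  | zero => simpa using ht
  | succ n ih =>
    have := h.rinv_mem hrK ih
    have h1 : (r ^ (n + 1))⁻¹ * t * r ^ (n + 1) = r⁻¹ * ((r ^ n)⁻¹ * t * r ^ n) * r := by
      rw [pow_succ]; group
    rw [h1]; exact this

/-- central involutions of `T` lie in the four-group -/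
theorem mem_four_of_central (h : Hyp T x r z w) {t : G} (ht : t ∈ T) (ht2 : t * t = 1)
    (hc : ∀ s ∈ T, t * s = s * t) : t = 1 ∨ t = z ∨ t = w ∨ t = w * z :=
  h.mem_four ht ht2 (hc _ (h.xT t ht))

theorem xr_mul (h : Hyp T x r z w) : x * r = r⁻¹ * x := by
  have h1 := h.xr
  exact mul_inv_eq_iff_eq_mul.1 h1

theorem r_mul_x (h : Hyp T x r z w) : r * x = x * r⁻¹ := by
  have h1 := h.xr_mul
  calc r * x = r * (x * r) * r⁻¹ := by group
    _ = x * r⁻¹ := by rw [h1]; group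

/-- `r` acts without fixed points. -/
theorem fpf [Finite G] (h : Hyp T x r z w) {t : G} (ht : t ∈ T) (hrt : r * t = t * r) : t = 1 := by
  by_contra hne
  set T0 : Subgroup G := T ⊓ Subgroup.centralizer {r} with hT0
  have hmem : ∀ s, s ∈ T0 ↔ s ∈ T ∧ s * r = r * s := by
    intro s
    rw [hT0, Subgroup.mem_inf, Subgroup.mem_centralizer_singleton_iff]
  have ht0 : t ∈ T0 := (hmem t).2 ⟨ht, hrt.symm⟩
  have hxT0 : ∀ s ∈ T0, x * s * x⁻¹ ∈ T0 := by
    intro s hs
    rw [hmem] at hs ⊢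
    refine ⟨h.xT s hs.1, ?_⟩
    have h1 : s * r⁻¹ = r⁻¹ * s := by
      calc s * r⁻¹ = r⁻¹ * (r * s) * r⁻¹ := by group
        _ = r⁻¹ * s := by rw [← hs.2]; group
    rw [h.x_inv]
    calc x * s * x * r = x * s * (x * r) := by rw [mul_assoc]
      _ = x * (s * r⁻¹) * x := by rw [h.xr_mul]; simp only [mul_assoc]
      _ = (x * r⁻¹) * s * x := by rw [h1]; simp only [mul_assoc]
      _ = r * (x * s * x) := by rw [← h.r_mul_x]; simp only [mul_assoc]
  have hp : IsPGroup 2 T0 := h.hT.to_le inf_le_left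
  have hnt : Nontrivial T0 := ⟨⟨⟨t, ht0⟩, 1, fun e => hne (congrArg Subtype.val e)⟩⟩
  obtain ⟨⟨c, hc0⟩, hc1, hc2, hcc⟩ := exists_central_involution hp
  have hcT : c ∈ T := ((hmem c).1 hc0).1
  have hcr : c * r = r * c := ((hmem c).1 hc0).2
  have hc2' : c * c = 1 := congrArg Subtype.val hc2
  have hc1' : c ≠ 1 := fun e => hc1 (Subtype.ext e)
  have hcc' : c * (x * c * x⁻¹) = (x * c * x⁻¹) * c :=
    (congrArg Subtype.val (hcc ⟨_, hxT0 c hc0⟩)).symm
  have hzr : z * r ≠ r * z := fun e => h.rz (fix_iff.2 e.symm)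
  have hxc := ((hmem _).1 (hxT0 c hc0)).2
  rcases h.mem_four hcT hc2' hcc' with e | e | e | e
  · exact hc1' e
  · rw [e] at hcr; exact hzr hcr
  · rw [e] at hcr hxc
    rw [h.xw] at hxc
    apply hzr
    have hcr' : w⁻¹ * r = r * w⁻¹ := by
      calc w⁻¹ * r = w⁻¹ * (r * w) * w⁻¹ := by group
        _ = r * w⁻¹ := by rw [← hcr]; group
    calc z * r = w⁻¹ * (w * z * r) := by group
      _ = (w⁻¹ * r) * (w * z) := by rw [hxc]; simp only [mul_assoc]
      _ = r * z := by rw [hcr']; group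
  · rw [e] at hcr hxc
    have h1 : x * (w * z) * x⁻¹ = w := by
      calc x * (w * z) * x⁻¹ = (x * w * x⁻¹) * (x * z * x⁻¹) := by group
        _ = w := by rw [h.xw, h.xz, mul_assoc, h.z2, mul_one]
    rw [h1] at hxc
    apply hzr
    have hcr' : w⁻¹ * r = r * w⁻¹ := by
      calc w⁻¹ * r = w⁻¹ * (r * w) * w⁻¹ := by group
        _ = r * w⁻¹ := by rw [← hxc]; group
    calc z * r = w⁻¹ * (w * z * r) := by group
      _ = (w⁻¹ * r) * (w * z) := by rw [hcr]; simp only [mul_assoc]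
      _ = r * z := by rw [hcr']; group

/-! ### The factorisation -/

/-- Every element of an invariant subgroup is a product of a fixed point of `x` and a fixed point
of the involution `x * r`. -/
theorem exists_factor [Finite G] (h : Hyp T x r z w) {K : Subgroup G} (hKT : K ≤ T)
    (hxK : ∀ t ∈ K, x * t * x⁻¹ ∈ K) (hrK : ∀ t ∈ K, r * t * r⁻¹ ∈ K) {t : G} (ht : t ∈ K) :
    ∃ y ∈ K, ∃ y' ∈ K, t = y * y' ∧ y * x = x * y ∧ y' * (x * r) = (x * r) * y' := by
  have hfm : ∀ s ∈ K, s * (r * s⁻¹ * r⁻¹) ∈ K := fun s hs =>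
    K.mul_mem hs (hrK _ (K.inv_mem hs))
  let f : K → K := fun s => ⟨s * (r * (s : G)⁻¹ * r⁻¹), hfm s s.2⟩
  have hinj : Function.Injective f := by
    rintro ⟨a, ha⟩ ⟨b, hb⟩ hab
    have hab' : a * (r * a⁻¹ * r⁻¹) = b * (r * b⁻¹ * r⁻¹) := congrArg Subtype.val hab
    have h1 : r * (b⁻¹ * a) = (b⁻¹ * a) * r := by
      calc r * (b⁻¹ * a) = b⁻¹ * (b * (r * b⁻¹ * r⁻¹)) * r * a := by group
        _ = b⁻¹ * (a * (r * a⁻¹ * r⁻¹)) * r * a := by rw [hab']
        _ = (b⁻¹ * a) * r := by group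
    have h2 := h.fpf (T.mul_mem (T.inv_mem (hKT hb)) (hKT ha)) h1
    apply Subtype.ext
    exact (inv_mul_eq_one.1 h2).symm
  obtain ⟨⟨s, hs⟩, hfs⟩ := Finite.injective_iff_surjective.1 hinj
    ⟨(x * t * x⁻¹) * (r * t⁻¹ * r⁻¹), K.mul_mem (hxK t ht) (hrK _ (K.inv_mem ht))⟩
  have e0 : s * (r * s⁻¹ * r⁻¹) = (x * t * x⁻¹) * (r * t⁻¹ * r⁻¹) := congrArg Subtype.val hfs
  have e1 : s * r * s⁻¹ = x * t * x⁻¹ * r * t⁻¹ := by
    calc s * r * s⁻¹ = s * (r * s⁻¹ * r⁻¹) * r := by group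
      _ = (x * t * x⁻¹) * (r * t⁻¹ * r⁻¹) * r := by rw [e0]
      _ = _ := by group
  -- conjugating by `x` inverts both sides
  have e2 : x * (s * r * s⁻¹) * x⁻¹ = (s * r * s⁻¹)⁻¹ := by
    rw [e1]
    calc x * (x * t * x⁻¹ * r * t⁻¹) * x⁻¹ = (x * x) * t * (x⁻¹ * r) * t⁻¹ * x⁻¹ := by group
      _ = t * (r⁻¹ * x) * t⁻¹ * x⁻¹ := by rw [h.x2, one_mul, h.x_inv, h.xr_mul]
      _ = (x * t * x⁻¹ * r * t⁻¹)⁻¹ := by group
  have e3 : r * (s⁻¹ * (x * s * x⁻¹)) = (s⁻¹ * (x * s * x⁻¹)) * r := by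
    have h1 : x * (s * r * s⁻¹) * x⁻¹ = (x * s * x⁻¹) * r⁻¹ * (x * s * x⁻¹)⁻¹ := by
      calc x * (s * r * s⁻¹) * x⁻¹ = (x * s * x⁻¹) * (x * r * x⁻¹) * (x * s * x⁻¹)⁻¹ := by group
        _ = _ := by rw [h.xr]
    rw [h1] at e2
    have h2 : s⁻¹ * ((x * s * x⁻¹) * r⁻¹ * (x * s * x⁻¹)⁻¹) * s = r⁻¹ := by
      rw [e2]; group
    generalize x * s * x⁻¹ = u at *
    calc r * (s⁻¹ * u) = r * (s⁻¹ * (u * r⁻¹ * u⁻¹) * s) * s⁻¹ * u * r := by group
      _ = r * r⁻¹ * s⁻¹ * u * r := by rw [h2]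
      _ = s⁻¹ * u * r := by group
  have e4 : s⁻¹ * (x * s * x⁻¹) = 1 :=
    h.fpf (T.mul_mem (T.inv_mem (hKT hs)) (h.xT s (hKT hs))) e3
  have e5 : s * x = x * s := by
    have h1 : s = x * s * x⁻¹ := inv_mul_eq_one.1 e4
    calc s * x = x * s * x⁻¹ * x := by rw [← h1]
      _ = x * s := by group
  refine ⟨s, hs, s⁻¹ * t, K.mul_mem (K.inv_mem hs) ht, by group, e5, ?_⟩
  have e6 : x * s * (x * r) * s⁻¹ = x * t * (x * r) * t⁻¹ := by
    calc x * s * (x * r) * s⁻¹ = x * (s * x) * r * s⁻¹ := by simp only [mul_assoc]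
      _ = (x * x) * (s * r * s⁻¹) := by rw [e5]; simp only [mul_assoc]
      _ = s * r * s⁻¹ := by rw [h.x2, one_mul]
      _ = x * t * x⁻¹ * r * t⁻¹ := e1
      _ = _ := by rw [h.x_inv]; simp only [mul_assoc]
  have e7 : s * (x * r) * s⁻¹ = t * (x * r) * t⁻¹ := by
    have : x * (s * (x * r) * s⁻¹) = x * (t * (x * r) * t⁻¹) := by
      simpa only [mul_assoc] using e6
    exact mul_left_cancel this
  calc s⁻¹ * t * (x * r) = s⁻¹ * (t * (x * r) * t⁻¹) * t := by group
    _ = s⁻¹ * (s * (x * r) * s⁻¹) * t := by rw [e7]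
    _ = x * r * (s⁻¹ * t) := by group

/-- `x * r` is the conjugate of `x` by a power of `r`. -/
theorem exists_conj (h : Hyp T x r z w) : ∃ j : ℕ, r ^ j * x * (r ^ j)⁻¹ = x * r := by
  obtain ⟨k, hk⟩ := h.r3
  have hx : ∀ j : ℕ, r ^ j * x = x * (r ^ j)⁻¹ := by
    intro j
    induction j with
    | zero => simp
    | succ j ih =>
      calc r ^ (j + 1) * x = r ^ j * (r * x) := by rw [pow_succ, mul_assoc]
        _ = (r ^ j * x) * r⁻¹ := by rw [h.r_mul_x, mul_assoc]
        _ = x * (r ^ (j + 1))⁻¹ := by rw [ih, pow_succ']; group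
  have hodd : Odd (3 ^ k) := Odd.pow (by decide)
  obtain ⟨j, hj⟩ := hodd
  refine ⟨j, ?_⟩
  rw [hx]
  have h1 : r ^ j * r ^ j * r = 1 := by
    rw [← pow_add, ← pow_succ, ← hk, hj]; congr 1; ring
  have h2 : (r ^ j)⁻¹ * (r ^ j)⁻¹ = r := by
    have : (r ^ j * r ^ j)⁻¹ = r := inv_eq_of_mul_eq_one_right h1
    rwa [mul_inv_rev] at this
  rw [mul_assoc, h2]

/-- `|K| = |C_K(x)|²` for invariant subgroups. -/
theorem card_eq_sq [Finite G] (h : Hyp T x r z w) {K : Subgroup G} (hKT : K ≤ T)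
    (hxK : ∀ t ∈ K, x * t * x⁻¹ ∈ K) (hrK : ∀ t ∈ K, r * t * r⁻¹ ∈ K) :
    Nat.card K = Nat.card (K ⊓ Subgroup.centralizer {x} : Subgroup G) *
      Nat.card (K ⊓ Subgroup.centralizer {x} : Subgroup G) := by
  obtain ⟨j, hj⟩ := h.exists_conj
  have hA : ∀ s, s ∈ K ⊓ Subgroup.centralizer {x} ↔ s ∈ K ∧ s * x = x * s := by
    intro s
    rw [Subgroup.mem_inf, Subgroup.mem_centralizer_singleton_iff]
  have hB : ∀ s ∈ K ⊓ Subgroup.centralizer {x}, r ^ j * s * (r ^ j)⁻¹ * (x * r) =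
      (x * r) * (r ^ j * s * (r ^ j)⁻¹) := by
    intro s hs
    have := ((hA s).1 hs).2
    rw [← hj]
    calc r ^ j * s * (r ^ j)⁻¹ * (r ^ j * x * (r ^ j)⁻¹) = r ^ j * (s * x) * (r ^ j)⁻¹ := by group
      _ = r ^ j * (x * s) * (r ^ j)⁻¹ := by rw [this]
      _ = _ := by group
  rw [← Nat.card_prod]
  symm
  refine Nat.card_congr (Equiv.ofBijective (fun p : (K ⊓ Subgroup.centralizer {x} : Subgroup G) ×
    (K ⊓ Subgroup.centralizer {x} : Subgroup G) =>
      (⟨(p.1 : G) * (r ^ j * p.2 * (r ^ j)⁻¹), K.mul_mem ((hA _).1 p.1.2).1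
        (rpow_mem hrK j ((hA _).1 p.2.2).1)⟩ : K)) ⟨?_, ?_⟩)
  · rintro ⟨⟨a, ha⟩, ⟨b, hb⟩⟩ ⟨⟨c, hc⟩, ⟨d, hd⟩⟩ he
    have he' : a * (r ^ j * b * (r ^ j)⁻¹) = c * (r ^ j * d * (r ^ j)⁻¹) :=
      congrArg Subtype.val he
    have hb' := hB b hb
    have hd' := hB d hd
    set b' := r ^ j * b * (r ^ j)⁻¹ with hbd
    set d' := r ^ j * d * (r ^ j)⁻¹ with hdd
    have e1 : c⁻¹ * a = d' * b'⁻¹ := by
      calc c⁻¹ * a = c⁻¹ * (a * b') * b'⁻¹ := by group
        _ = d' * b'⁻¹ := by rw [he']; group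
    have e2 : (c⁻¹ * a) * x = x * (c⁻¹ * a) := by
      have h1 : Commute c x := ((hA c).1 hc).2
      have h2 : Commute a x := ((hA a).1 ha).2
      exact h1.inv_left.mul_left h2
    have e3 : (c⁻¹ * a) * (x * r) = (x * r) * (c⁻¹ * a) := by
      rw [e1]
      have h1 : Commute d' (x * r) := hd'
      have h2 : Commute b' (x * r) := hb'
      exact h1.mul_left h2.inv_left
    have e4 : r * (c⁻¹ * a) = (c⁻¹ * a) * r := by
      have : x * (r * (c⁻¹ * a)) = x * ((c⁻¹ * a) * r) := by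
        calc x * (r * (c⁻¹ * a)) = (x * r) * (c⁻¹ * a) := by rw [mul_assoc]
          _ = (c⁻¹ * a) * x * r := by rw [← e3]; simp only [mul_assoc]
          _ = x * ((c⁻¹ * a) * r) := by rw [e2]; simp only [mul_assoc]
      exact mul_left_cancel this
    have e5 := h.fpf (hKT (K.mul_mem (K.inv_mem ((hA c).1 hc).1) ((hA a).1 ha).1)) e4
    have e6 : c = a := inv_mul_eq_one.1 e5
    subst e6
    have e7 : b' = d' := mul_left_cancel he'
    have e8 : b = d := by
      have : (r ^ j)⁻¹ * b' * r ^ j = (r ^ j)⁻¹ * d' * r ^ j := by rw [e7]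
      rw [hbd, hdd] at this
      simpa [mul_assoc] using this
    subst e8
    rfl
  · rintro ⟨t, ht⟩
    obtain ⟨y, hy, y', hy', e, e1, e2⟩ := h.exists_factor hKT hxK hrK ht
    refine ⟨(⟨y, (hA y).2 ⟨hy, e1⟩⟩, ⟨(r ^ j)⁻¹ * y' * r ^ j, (hA _).2
      ⟨h.rinvpow_mem hrK j hy', ?_⟩⟩), ?_⟩
    · rw [← hj] at e2
      calc (r ^ j)⁻¹ * y' * r ^ j * x = (r ^ j)⁻¹ * (y' * (r ^ j * x * (r ^ j)⁻¹)) * r ^ j := by group
        _ = (r ^ j)⁻¹ * ((r ^ j * x * (r ^ j)⁻¹) * y') * r ^ j := by rw [e2]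
        _ = x * ((r ^ j)⁻¹ * y' * r ^ j) := by group
    · apply Subtype.ext
      change y * (r ^ j * ((r ^ j)⁻¹ * y' * r ^ j) * (r ^ j)⁻¹) = t
      rw [e]; group

/-- the fixed points of `x` in `T` -/
abbrev Y (T : Subgroup G) (x : G) : Subgroup G := T ⊓ Subgroup.centralizer {x}

theorem mem_Y {s : G} : s ∈ Y T x ↔ s ∈ T ∧ s * x = x * s := by
  rw [Subgroup.mem_inf, Subgroup.mem_centralizer_singleton_iff]

/-- `Y` is cyclic or generalized quaternion. -/
theorem cyclic_or_quaternion [Finite G] (h : Hyp T x r z w) :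
    IsCyclic (Y T x) ∨ ∃ m : ℕ, m ≠ 0 ∧ Nonempty (Y T x ≃* QuaternionGroup (2 ^ m)) := by
  have : Fact (Nat.Prime 2) := ⟨Nat.prime_two⟩
  have hp : IsPGroup 2 (Y T x) := h.hT.to_le inf_le_left
  have hU : Cfsg.Agent.Solvable.UniqueOrderP.UniqueP 2 (Y T x) := by
    rintro ⟨a, ha⟩ ⟨b, hb⟩ ha1 ha2 hb2
    rw [mem_Y] at ha hb
    have ha2' : a * a = 1 := by
      have := congrArg Subtype.val ha2
      rw [Subgroup.coe_pow, pow_two] at this
      exact this
    have hb2' : b * b = 1 := by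
      have := congrArg Subtype.val hb2
      rw [Subgroup.coe_pow, pow_two] at this
      exact this
    have haz : a = z := by
      rcases h.hY a ha.1 ha.2 ha2' with e | e
      · exact absurd (Subtype.ext e) ha1
      · exact e
    rcases h.hY b hb.1 hb.2 hb2' with e | e
    · have : (⟨b, mem_Y.2 hb⟩ : Y T x) = 1 := Subtype.ext e
      rw [this]; exact one_mem _
    · have : (⟨b, mem_Y.2 hb⟩ : Y T x) = ⟨a, mem_Y.2 ha⟩ := Subtype.ext (e.trans haz.symm)
      rw [this]; exact Subgroup.mem_zpowers _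
  rcases Cfsg.Agent.Solvable.UniqueOrderP.cyclic_or_quaternion hp hU with h1 | ⟨-, m, hm, e⟩
  · exact Or.inl h1
  · exact Or.inr ⟨m, hm, e⟩

/-- `Y` is generated by two elements. -/
theorem exists_gen [Finite G] (h : Hyp T x r z w) :
    ∃ u v : Y T x, ∀ q : Y T x, ∃ a b : ℤ, q = u ^ a * v ^ b := by
  rcases h.cyclic_or_quaternion with ⟨u, hu⟩ | ⟨m, hm, ⟨e⟩⟩
  · refine ⟨u, 1, fun q => ?_⟩
    obtain ⟨a, ha⟩ := Subgroup.mem_zpowers_iff.1 (hu q)
    exact ⟨a, 0, by rw [ha, zpow_zero, mul_one]⟩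
  · refine ⟨e.symm (QuaternionGroup.a 1), e.symm (QuaternionGroup.xa 0), fun q => ?_⟩
    have hm0 : NeZero (2 ^ m) := ⟨pow_ne_zero _ (by norm_num)⟩
    have hq : ∃ a b : ℤ, e q = (QuaternionGroup.a 1) ^ a * (QuaternionGroup.xa 0) ^ b := by
      rcases e q with i | i
      · refine ⟨(i.val : ℤ), 0, ?_⟩
        rw [zpow_zero, mul_one, zpow_natCast, QuaternionGroup.a_one_pow, ZMod.natCast_zmod_val]
      · refine ⟨-(i.val : ℤ), 1, ?_⟩
        rw [zpow_neg, zpow_one, zpow_natCast, QuaternionGroup.a_one_pow, ZMod.natCast_zmod_val,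
          eq_inv_mul_iff_mul_eq, QuaternionGroup.a_mul_xa]
        simp
    obtain ⟨a, b, hab⟩ := hq
    refine ⟨a, b, ?_⟩
    apply e.injective
    rw [hab, map_mul, map_zpow, map_zpow, e.apply_symm_apply, e.apply_symm_apply]

/-- the subgroup generated by the squares of `T` -/
def F (T : Subgroup G) : Subgroup G := Subgroup.closure {s | ∃ t ∈ T, s = t * t}

theorem sq_mem_F {t : G} (ht : t ∈ T) : t * t ∈ F T := Subgroup.subset_closure ⟨t, ht, rfl⟩

theorem F_le : F T ≤ T := by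
  rw [F, Subgroup.closure_le]
  rintro s ⟨t, ht, rfl⟩
  exact T.mul_mem ht ht

theorem conj_mem_F {g : G} (hg : ∀ t ∈ T, g * t * g⁻¹ ∈ T) {s : G} (hs : s ∈ F T) :
    g * s * g⁻¹ ∈ F T := by
  have h1 : F T ≤ (F T).comap (MulAut.conj g).toMonoidHom := by
    conv_lhs => rw [F]
    rw [Subgroup.closure_le]
    rintro s ⟨t, ht, rfl⟩
    change g * (t * t) * g⁻¹ ∈ F T
    have : g * (t * t) * g⁻¹ = (g * t * g⁻¹) * (g * t * g⁻¹) := by group
    rw [this]
    exact sq_mem_F (hg t ht)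
  exact h1 hs

theorem card_Y_le [Finite G] (h : Hyp T x r z w) :
    Nat.card (Y T x) ≤ 4 * Nat.card (F T ⊓ Subgroup.centralizer {x} : Subgroup G) := by
  set N : Subgroup (Y T x) := (F T).subgroupOf (Y T x) with hN
  have hNn : N.Normal := by
    constructor
    rintro ⟨n, hn⟩ hn' ⟨g, hg⟩
    change g * n * g⁻¹ ∈ F T
    have hgT : g ∈ T := (mem_Y.1 hg).1
    exact conj_mem_F (fun t ht => T.mul_mem (T.mul_mem hgT ht) (T.inv_mem hgT)) hn'
  have hsq : ∀ q : (Y T x ⧸ N), q * q = 1 := by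
    intro q
    induction q using QuotientGroup.induction_on with
    | H q =>
      rw [← QuotientGroup.mk_mul, QuotientGroup.eq_one_iff]
      exact sq_mem_F (mem_Y.1 q.2).1
  obtain ⟨u, v, huv⟩ := h.exists_gen
  have h4 : Nat.card (Y T x ⧸ N) ≤ 4 := by
    refine card_le_four hsq (u : Y T x ⧸ N) (v : Y T x ⧸ N) ?_
    intro q
    induction q using QuotientGroup.induction_on with
    | H q =>
      obtain ⟨a, b, hab⟩ := huv q
      exact ⟨a, b, by rw [hab]; rfl⟩
  have hNc : Nat.card N = Nat.card (F T ⊓ Subgroup.centralizer {x} : Subgroup G) := by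
    have h1 : F T ⊓ Subgroup.centralizer {x} = F T ⊓ Y T x := by
      apply le_antisymm
      · exact le_inf inf_le_left (le_inf (inf_le_left.trans F_le) inf_le_right)
      · exact le_inf inf_le_left (inf_le_right.trans inf_le_right)
    rw [h1, hN, ← Subgroup.inf_subgroupOf_right]
    exact Nat.card_congr (Subgroup.subgroupOfEquivOfLe inf_le_right).toEquiv
  have h5 := Subgroup.card_eq_card_quotient_mul_card_subgroup N
  rw [h5, hNc]
  exact Nat.mul_le_mul_right _ h4

/-- `|T| ≤ 16 |F|`. -/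
theorem card_T_le [Finite G] (h : Hyp T x r z w) : Nat.card T ≤ 16 * Nat.card (F T) := by
  have h1 := h.card_eq_sq le_rfl h.xT h.rT
  have h2 := h.card_eq_sq F_le (fun t ht => conj_mem_F h.xT ht) (fun t ht => conj_mem_F h.rT ht)
  have h3 := h.card_Y_le
  rw [h1, h2]
  calc _ ≤ (4 * Nat.card (F T ⊓ Subgroup.centralizer {x} : Subgroup G)) *
        (4 * Nat.card (F T ⊓ Subgroup.centralizer {x} : Subgroup G)) := Nat.mul_le_mul h3 h3
    _ = _ := by ring

/-! ### The cube of `r` centralises `T` -/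

theorem F_normal : ((F T).subgroupOf T).Normal := by
  constructor
  rintro ⟨n, hn⟩ hn' ⟨g, hg⟩
  change g * n * g⁻¹ ∈ F T
  exact conj_mem_F (fun t ht => T.mul_mem (T.mul_mem hg ht) (T.inv_mem hg)) hn'

theorem F_le_frattini [Finite G] (hT : IsPGroup 2 T) : F T ≤ (frattini T).map T.subtype := by
  have : Fact (Nat.Prime 2) := ⟨Nat.prime_two⟩
  rw [F, Subgroup.closure_le]
  rintro s ⟨t, ht, rfl⟩
  refine ⟨⟨t, ht⟩ * ⟨t, ht⟩, ?_, rfl⟩
  have := Cfsg.Agent.Lib.FrattiniPGroup.pow_mem_frattini hT (⟨t, ht⟩ : T)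
  rwa [pow_two] at this

theorem cube_mem_F [Finite G] (h : Hyp T x r z w) {t : G} (ht : t ∈ T) :
    r ^ 3 * t * (r ^ 3)⁻¹ * t⁻¹ ∈ F T := by
  have hN := F_normal (T := T)
  set N : Subgroup T := (F T).subgroupOf T with hNdef
  -- the automorphism of `T` induced by `r`
  have hinvm : ∀ t ∈ T, r⁻¹ * t * r ∈ T := fun t ht => h.rinv_mem h.rT ht
  let e : T ≃* T :=
    { toFun := fun t => ⟨r * t * r⁻¹, h.rT t t.2⟩
      invFun := fun t => ⟨r⁻¹ * t * r, hinvm t t.2⟩
      left_inv := fun t => Subtype.ext (by change r⁻¹ * (r * (t : G) * r⁻¹) * r = t; group)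
      right_inv := fun t => Subtype.ext (by change r * (r⁻¹ * (t : G) * r) * r⁻¹ = t; group)
      map_mul' := fun a b => Subtype.ext (by
        change r * ((a : G) * b) * r⁻¹ = (r * a * r⁻¹) * (r * b * r⁻¹); group) }
  have hmap : N.map (e : T →* T) = N := by
    apply le_antisymm
    · rintro _ ⟨⟨a, ha⟩, ha', rfl⟩
      exact conj_mem_F h.rT ha'
    · rintro ⟨a, ha⟩ ha'
      refine ⟨⟨r⁻¹ * a * r, hinvm a ha⟩, ?_, ?_⟩
      · have : r⁻¹ * a * (r⁻¹)⁻¹ ∈ F T :=
          conj_mem_F (g := r⁻¹) (fun t ht => by rw [inv_inv]; exact hinvm t ht) ha'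
        rw [inv_inv] at this
        exact this
      · exact Subtype.ext (by change r * (r⁻¹ * a * r) * r⁻¹ = a; group)
  let σ : MulAut (T ⧸ N) := QuotientGroup.congr N N e hmap
  have hσ1 : ∀ t : T, σ (t : T ⧸ N) = ((e t : T) : T ⧸ N) := fun t => rfl
  have hσ : ∀ (n : ℕ) (t : T), (σ ^ n) (t : T ⧸ N) =
      ((⟨r ^ n * t * (r ^ n)⁻¹, rpow_mem h.rT n t.2⟩ : T) : T ⧸ N) := by
    intro n
    induction n with
    | zero =>
      intro t
      rw [pow_zero, MulAut.one_apply]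
      congr 1
      apply Subtype.ext
      simp
    | succ n ih =>
      intro t
      rw [pow_succ', MulAut.mul_apply, ih, hσ1]
      congr 1
      apply Subtype.ext
      change r * (r ^ n * t * (r ^ n)⁻¹) * r⁻¹ = r ^ (n + 1) * t * (r ^ (n + 1))⁻¹
      rw [pow_succ']; group
  obtain ⟨k, hk⟩ := h.r3
  have hσk : σ ^ 3 ^ k = 1 := by
    ext q
    induction q using QuotientGroup.induction_on with
    | H q =>
      rw [hσ, MulAut.one_apply]
      congr 1
      apply Subtype.ext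
      change r ^ 3 ^ k * (q : G) * (r ^ 3 ^ k)⁻¹ = q
      rw [hk]; simp
  have : Fact (Nat.Prime 2) := ⟨Nat.prime_two⟩
  obtain ⟨n, hn⟩ := (h.hT.to_quotient N).exists_card_eq
  have hn4 : n ≤ 4 := by
    have h1 := Subgroup.card_eq_card_quotient_mul_card_subgroup N
    have h2 : Nat.card N = Nat.card (F T) :=
      Nat.card_congr (Subgroup.subgroupOfEquivOfLe F_le).toEquiv
    have h3 := h.card_T_le
    rw [h1, h2] at h3
    have h4 : Nat.card (T ⧸ N) ≤ 16 := Nat.le_of_mul_le_mul_right h3 Nat.card_pos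
    rw [hn] at h4
    by_contra hlt
    have : 2 ^ 5 ≤ 2 ^ n := Nat.pow_le_pow_right (by norm_num) (by omega)
    omega
  have h3 := cube_eq_one hn4 hn σ hσk
  have h4 := hσ 3 ⟨t, ht⟩
  rw [h3, MulAut.one_apply, eq_comm, QuotientGroup.eq] at h4
  -- `(r³tr⁻³)⁻¹ t ∈ F`
  have h5 : (r ^ 3 * t * (r ^ 3)⁻¹)⁻¹ * t ∈ F T := h4
  have h6 := (F T).inv_mem h5
  have h7 : t * ((r ^ 3 * t * (r ^ 3)⁻¹)⁻¹ * t)⁻¹ * t⁻¹ ∈ F T :=
    conj_mem_F (fun s hs => T.mul_mem (T.mul_mem ht hs) (T.inv_mem ht)) h6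
  have h8 : t * ((r ^ 3 * t * (r ^ 3)⁻¹)⁻¹ * t)⁻¹ * t⁻¹ = r ^ 3 * t * (r ^ 3)⁻¹ * t⁻¹ := by
    group
  rwa [h8] at h7

theorem cube_comm [Finite G] (h : Hyp T x r z w) {t : G} (ht : t ∈ T) :
    r ^ 3 * t = t * r ^ 3 := by
  have : Fact (Nat.Prime 2) := ⟨Nat.prime_two⟩
  -- commutators with powers of `r³`
  have key : ∀ (n : ℕ), ∀ t ∈ T, (r ^ 3) ^ n * t * ((r ^ 3) ^ n)⁻¹ * t⁻¹ ∈ F T := by
    intro n
    induction n with
    | zero => intro t ht; simp
    | succ n ih =>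
      intro t ht
      have h1 : (r ^ 3) ^ n * t * ((r ^ 3) ^ n)⁻¹ ∈ T := by
        rw [← pow_mul]; exact rpow_mem h.rT _ ht
      have h2 := h.cube_mem_F h1
      have h3 := ih t ht
      have h4 := (F T).mul_mem h2 h3
      have h5 : (r ^ 3) ^ (n + 1) * t * ((r ^ 3) ^ (n + 1))⁻¹ * t⁻¹ =
          r ^ 3 * ((r ^ 3) ^ n * t * ((r ^ 3) ^ n)⁻¹) * (r ^ 3)⁻¹ *
            ((r ^ 3) ^ n * t * ((r ^ 3) ^ n)⁻¹)⁻¹ *
            ((r ^ 3) ^ n * t * ((r ^ 3) ^ n)⁻¹ * t⁻¹) := by
        rw [pow_succ']; group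
      rw [h5]; exact h4
  have hA : ∀ a ∈ Subgroup.zpowers (r ^ 3), ∃ n : ℕ, a = (r ^ 3) ^ n := by
    intro a ha
    obtain ⟨n, hn⟩ := (mem_powers_iff_mem_zpowers (x := r ^ 3)).2 ha
    exact ⟨n, hn.symm⟩
  have hle : Subgroup.zpowers (r ^ 3) ≤ Subgroup.centralizer (T : Set G) := by
    refine Cfsg.Agent.S0029.result (Subgroup.zpowers (r ^ 3)) T ?_ ?_ ?_
    · rw [Subgroup.zpowers_le, Subgroup.mem_normalizer_iff]
      intro s
      constructor
      · intro hs; exact rpow_mem h.rT 3 hs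
      · intro hs
        have := h.rinvpow_mem h.rT 3 hs
        have h1 : (r ^ 3)⁻¹ * (r ^ 3 * s * (r ^ 3)⁻¹) * r ^ 3 = s := by group
        rwa [h1] at this
    · obtain ⟨k, hk⟩ := h.r3
      obtain ⟨m, hm⟩ := (h.hT.to_subgroup (frattini T)).exists_card_eq
      rw [hm, Nat.card_zpowers]
      have h1 : orderOf (r ^ 3) ∣ 3 ^ k := by
        apply orderOf_dvd_of_pow_eq_one
        rw [← pow_mul, mul_comm, pow_mul, hk, one_pow]
      exact Nat.Coprime.coprime_dvd_left h1 (Nat.Coprime.pow _ _ (by decide))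
    · intro a ha s hs
      obtain ⟨n, rfl⟩ := hA a ha
      exact F_le_frattini h.hT (key n s hs)
  have h1 := hle (Subgroup.mem_zpowers (r ^ 3))
  rw [Subgroup.mem_centralizer_iff] at h1
  exact (h1 t ht).symm

/-- the automorphism induced by `r` -/
def α (h : Hyp T x r z w) : T →* T where
  toFun t := ⟨r * t * r⁻¹, h.rT t t.2⟩
  map_one' := Subtype.ext (by change r * 1 * r⁻¹ = 1; group)
  map_mul' a b := Subtype.ext (by
    change r * ((a : G) * b) * r⁻¹ = (r * a * r⁻¹) * (r * b * r⁻¹); group)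

theorem coe_α (h : Hyp T x r z w) (t : T) : (h.α t : G) = r * t * r⁻¹ := rfl

theorem fpf3 [Finite G] (h : Hyp T x r z w) : Fpf3 h.α where
  cube t := by
    apply Subtype.ext
    rw [coe_α, coe_α, coe_α]
    have h1 := h.cube_comm t.2
    calc r * (r * (r * (t : G) * r⁻¹) * r⁻¹) * r⁻¹ = r ^ 3 * t * (r ^ 3)⁻¹ := by
          simp only [pow_succ, pow_zero]; group
      _ = t := by rw [h1, mul_inv_cancel_right]
  fpf t ht := by
    apply Subtype.ext
    have h1 : r * (t : G) * r⁻¹ = t := congrArg Subtype.val ht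
    exact h.fpf t.2 (fix_iff.1 h1)

/-! ### The order of `T` -/

theorem coe_iter (h : Hyp T x r z w) (j : ℕ) (t : T) :
    ((h.α^[j] t : T) : G) = r ^ j * t * (r ^ j)⁻¹ := by
  induction j with
  | zero => simp
  | succ j ih =>
    rw [Function.iterate_succ_apply', coe_α, ih, pow_succ']
    group

/-- every element of `T` commutes with its conjugates under `⟨r⟩` -/
theorem comm_iter [Finite G] (h : Hyp T x r z w) (j : ℕ) {t : G} (ht : t ∈ T) :
    t * (r ^ j * t * (r ^ j)⁻¹) = (r ^ j * t * (r ^ j)⁻¹) * t := by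
  have hα := h.fpf3
  have key : ∀ j : ℕ, ∀ t : T, t * h.α^[j] t = h.α^[j] t * t := by
    intro j
    induction j using Nat.strong_induction_on with
    | _ j ih =>
      intro t
      match j, ih with
      | 0, _ => rfl
      | 1, _ => exact hα.comm t
      | 2, _ => exact hα.comm' t
      | j + 3, ih =>
        have h1 : h.α^[j + 3] t = h.α^[j] t := by
          rw [Function.iterate_add_apply]
          congr 1
          exact hα.cube t
        rw [h1]
        exact ih j (by omega) t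
  have h1 := congrArg Subtype.val (key j ⟨t, ht⟩)
  rw [Subgroup.coe_mul, Subgroup.coe_mul, h.coe_iter] at h1
  exact h1

/-- If `T` has an involution outside the four-group, then `|T| = 64`. -/
theorem card_T [Finite G] (h : Hyp T x r z w) {e : G} (he : e ∈ T) (he2 : e * e = 1)
    (hne : ¬ (e = 1 ∨ e = z ∨ e = w ∨ e = w * z)) : Nat.card T = 64 := by
  obtain ⟨j, hj⟩ := h.exists_conj
  have hsq := h.card_eq_sq le_rfl h.xT h.rT
  rcases h.cyclic_or_quaternion with ⟨u, hu⟩ | ⟨m, hm, ⟨f⟩⟩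
  · exfalso
    apply hne
    have huT : (u : G) ∈ T := (mem_Y.1 u.2).1
    set u' : G := r ^ j * (u : G) * (r ^ j)⁻¹ with hu'
    have hcomm : Commute (u : G) u' := h.comm_iter j huT
    have hform : ∀ t ∈ T, ∃ a b : ℤ, t = (u : G) ^ a * u' ^ b := by
      intro t ht
      obtain ⟨y, hy, y', hy', e0, e1, e2⟩ := h.exists_factor le_rfl h.xT h.rT ht
      obtain ⟨a, ha⟩ := Subgroup.mem_zpowers_iff.1 (hu ⟨y, mem_Y.2 ⟨hy, e1⟩⟩)
      have hy'' : (r ^ j)⁻¹ * y' * r ^ j ∈ Y T x := by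
        rw [mem_Y]
        refine ⟨h.rinvpow_mem h.rT j hy', ?_⟩
        rw [← hj] at e2
        calc (r ^ j)⁻¹ * y' * r ^ j * x =
            (r ^ j)⁻¹ * (y' * (r ^ j * x * (r ^ j)⁻¹)) * r ^ j := by group
          _ = (r ^ j)⁻¹ * ((r ^ j * x * (r ^ j)⁻¹) * y') * r ^ j := by rw [e2]
          _ = x * ((r ^ j)⁻¹ * y' * r ^ j) := by group
      obtain ⟨b, hb⟩ := Subgroup.mem_zpowers_iff.1 (hu ⟨_, hy''⟩)
      have ha' : (u : G) ^ a = y := congrArg Subtype.val ha
      have hb' : (u : G) ^ b = (r ^ j)⁻¹ * y' * r ^ j := congrArg Subtype.val hb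
      refine ⟨a, b, ?_⟩
      rw [e0, ha', hu', conj_zpow, hb']
      group
    obtain ⟨a, b, hab⟩ := hform e he
    obtain ⟨c, d, hcd⟩ := hform (x * e * x⁻¹) (h.xT e he)
    apply h.mem_four he he2
    rw [hcd, hab]
    have h1 : Commute ((u : G) ^ a * u' ^ b) ((u : G) ^ c * u' ^ d) :=
      Commute.mul_left
        (Commute.mul_right ((Commute.refl _).zpow_zpow _ _) (hcomm.zpow_zpow _ _))
        (Commute.mul_right (hcomm.symm.zpow_zpow _ _) ((Commute.refl _).zpow_zpow _ _))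
    exact h1.eq
  · -- the quaternion case: `Y` has order 8
    have hm0 : NeZero (2 ^ m) := ⟨pow_ne_zero _ (by norm_num)⟩
    have hα := h.fpf3
    set u : Y T x := f.symm (QuaternionGroup.a 1) with hu
    set v : Y T x := f.symm (QuaternionGroup.xa 0) with hv
    have huT : (u : G) ∈ T := (mem_Y.1 u.2).1
    have hvT : (v : G) ∈ T := (mem_Y.1 v.2).1
    have h1 := (hα.comm_right ⟨u, huT⟩ ⟨v, hvT⟩).eq
    have h2 : (u : G) * v * (u : G)⁻¹ * v = v * u * v * (u : G)⁻¹ := by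
      have h3 := congrArg Subtype.val h1
      simp only [commutatorElement_def, Subgroup.coe_mul, Subgroup.coe_inv] at h3
      calc (u : G) * v * (u : G)⁻¹ * v = ((u : G) * v * (u : G)⁻¹ * (v : G)⁻¹ * v) * v := by group
        _ = (v * (u * v * (u : G)⁻¹ * (v : G)⁻¹)) * v := by rw [h3]
        _ = _ := by group
    have h3 : u * v * u⁻¹ * v = v * u * v * u⁻¹ := Subtype.ext h2
    have h4 := congrArg f h3
    simp only [map_mul, map_inv, hu, hv, MulEquiv.apply_symm_apply] at h4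
    have h5 : (QuaternionGroup.a 1 : QuaternionGroup (2 ^ m))⁻¹ = QuaternionGroup.a (-1) := rfl
    rw [h5] at h4
    simp only [QuaternionGroup.a_mul_xa, QuaternionGroup.xa_mul_a, QuaternionGroup.xa_mul_xa,
      QuaternionGroup.a_mul_a, QuaternionGroup.a.injEq] at h4
    have h6 : ((4 : ℕ) : ZMod (2 * 2 ^ m)) = 0 := by
      have h7 : (4 : ZMod (2 * 2 ^ m)) = 0 := by linear_combination h4
      exact_mod_cast h7
    rw [ZMod.natCast_eq_zero_iff] at h6
    have hm1 : m = 1 := by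
      have h8 := Nat.le_of_dvd (by norm_num) h6
      by_contra hlt
      have : 2 ^ 2 ≤ 2 ^ m := Nat.pow_le_pow_right (by norm_num) (by omega)
      omega
    have h9 : Nat.card (Y T x) = 8 := by
      rw [Nat.card_congr f.toEquiv, Nat.card_eq_fintype_card, QuaternionGroup.card, hm1]
      norm_num
    rw [hsq, h9]

end Hyp

/-! ### Adjoining involutions -/

section Adjoin

variable {G : Type*} [Group G]

/-- adjoin an involution commuting with `E` -/
def adj (E : Subgroup G) (e : G) (he : e * e = 1) (hc : ∀ a ∈ E, a * e = e * a) : Subgroup G where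
  carrier := {a | a ∈ E ∨ a * e ∈ E}
  one_mem' := Or.inl E.one_mem
  mul_mem' := by
    have hcomm : ∀ a, a * e ∈ E → a * e = e * a := by
      intro a ha
      have h1 := hc _ ha
      have h2 : a * e * e = e * (a * e) := h1
      rw [mul_assoc, he, mul_one] at h2
      calc a * e = e * (a * e) * e := by rw [← h2]
        _ = e * a * (e * e) := by simp only [mul_assoc]
        _ = e * a := by rw [he, mul_one]
    rintro a b (ha | ha) (hb | hb)
    · exact Or.inl (E.mul_mem ha hb)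
    · right
      rw [mul_assoc]; exact E.mul_mem ha hb
    · right
      have : a * b * e = a * e * b := by rw [mul_assoc, hc b hb, mul_assoc]
      rw [this]; exact E.mul_mem ha hb
    · left
      have h1 := hcomm b hb
      have : a * b = a * e * (b * e) := by
        calc a * b = a * (e * e) * b := by rw [he, mul_one]
          _ = a * e * (e * b) := by simp only [mul_assoc]
          _ = a * e * (b * e) := by rw [h1]
      rw [this]; exact E.mul_mem ha hb
  inv_mem' := by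
    rintro a (ha | ha)
    · exact Or.inl (E.inv_mem ha)
    · right
      have h1 := E.inv_mem ha
      have he' : e⁻¹ = e := inv_eq_of_mul_eq_one_right he
      have h2 : (a * e)⁻¹ * e = e * (a * e)⁻¹ := hc _ h1
      have h3 : a⁻¹ * e = (a * e)⁻¹ := by
        calc a⁻¹ * e = (e * (a * e)⁻¹) * e := by rw [mul_inv_rev]; simp only [← mul_assoc]; rw [he']; rw [he, one_mul]
          _ = (a * e)⁻¹ * e * e := by rw [h2]
          _ = (a * e)⁻¹ := by rw [mul_assoc, he, mul_one]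
      rw [h3]; exact h1

variable {E : Subgroup G} {e : G} {he : e * e = 1} {hc : ∀ a ∈ E, a * e = e * a}

theorem mem_adj {a : G} : a ∈ adj E e he hc ↔ a ∈ E ∨ a * e ∈ E := Iff.rfl

theorem le_adj : E ≤ adj E e he hc := fun _ ha => Or.inl ha

theorem self_mem_adj : e ∈ adj E e he hc := by
  right
  rw [he]; exact E.one_mem

theorem sq_adj (hE : ∀ a ∈ E, a * a = 1) : ∀ a ∈ adj E e he hc, a * a = 1 := by
  rintro a (ha | ha)
  · exact hE a ha
  · have h1 := hE _ ha
    have h2 : a * e * e = e * (a * e) := hc _ ha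
    rw [mul_assoc, he, mul_one] at h2
    calc a * a = a * (e * (a * e)) := by rw [← h2]
      _ = a * e * (a * e) := by simp only [mul_assoc]
      _ = 1 := h1

theorem adj_le {H : Subgroup G} (h1 : E ≤ H) (h2 : e ∈ H) : adj E e he hc ≤ H := by
  rintro a (ha | ha)
  · exact h1 ha
  · have := H.mul_mem (h1 ha) (H.inv_mem h2)
    rwa [mul_inv_cancel_right] at this

theorem card_adj [Finite G] (hn : e ∉ E) : Nat.card (adj E e he hc) = 2 * Nat.card E := by
  have h1 : (E.subgroupOf (adj E e he hc)).index = 2 := by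
    rw [Subgroup.index_eq_two_iff]
    refine ⟨⟨e, self_mem_adj⟩, ?_⟩
    rintro ⟨b, hb⟩
    simp only [Subgroup.mem_subgroupOf, Subgroup.coe_mul]
    rcases hb with hb | hb
    · right
      refine ⟨hb, fun h => hn ?_⟩
      have := E.mul_mem (E.inv_mem hb) h
      rwa [inv_mul_cancel_left] at this
    · left
      refine ⟨hb, fun h => hn ?_⟩
      have := E.mul_mem (E.inv_mem h) hb
      rwa [inv_mul_cancel_left] at this
  have h2 := Subgroup.card_mul_index (E.subgroupOf (adj E e he hc))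
  rw [h1, Nat.card_congr (Subgroup.subgroupOfEquivOfLe le_adj).toEquiv] at h2
  omega

theorem comm_of_sq (hE : ∀ a ∈ E, a * a = 1) {a b : G} (ha : a ∈ E) (hb : b ∈ E) :
    a * b = b * a := by
  have h1 := hE _ (E.mul_mem ha hb)
  have h2 : (a * b)⁻¹ = a * b := inv_eq_of_mul_eq_one_right h1
  rw [← h2, mul_inv_rev, inv_eq_of_mul_eq_one_right (hE a ha), inv_eq_of_mul_eq_one_right (hE b hb)]

end Adjoin

/-! ### The elementary abelian subgroup of order 16 -/

/-- The conclusions. -/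
structure Out {G : Type*} [Group G] (T : Subgroup G) (x r z w : G) (E : Subgroup G) : Prop where
  le : E ≤ T
  card : Nat.card E = 16
  sq : ∀ a ∈ E, a * a = 1
  z_mem : z ∈ E
  w_mem : w ∈ E
  rE : ∀ a ∈ E, r * a * r⁻¹ ∈ E
  inf : ∀ a ∈ E, x * a * x⁻¹ ∈ E → a = 1 ∨ a = z ∨ a = w ∨ a = w * z
  normal : ∀ t ∈ T, ∀ a ∈ E, t * a * t⁻¹ ∈ E
  prod : ∀ t ∈ T, ∃ a ∈ E, ∃ b ∈ E, t = a * (x * b * x⁻¹)
  cardT : Nat.card T = 64

namespace Hyp

variable {G : Type*} [Group G] {T : Subgroup G} {x r z w : G}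

/-- the four-group `⟨z, w⟩` -/
def W (h : Hyp T x r z w) : Subgroup G :=
  adj (adj ⊥ z h.z2 (by intro a ha; rw [Subgroup.mem_bot.1 ha, one_mul, mul_one])) w h.w2 (by
    have hz : z * w = w * z := h.wc z h.zT
    rintro a (ha | ha)
    · rw [Subgroup.mem_bot.1 ha, one_mul, mul_one]
    · have : a = z := by
        rw [eq_inv_of_mul_eq_one_left (Subgroup.mem_bot.1 ha)]
        exact inv_eq_of_mul_eq_one_right h.z2
      rw [this, hz])

theorem mem_W (h : Hyp T x r z w) {a : G} :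
    a ∈ h.W ↔ (a = 1 ∨ a = z ∨ a = w ∨ a = w * z) := by
  have hzi : z⁻¹ = z := inv_eq_of_mul_eq_one_right h.z2
  have hwi : w⁻¹ = w := inv_eq_of_mul_eq_one_right h.w2
  have hz : z * w = w * z := h.wc z h.zT
  have h1 : a * w = z⁻¹ ↔ a = w * z := by
    rw [← eq_mul_inv_iff_mul_eq, hzi, hwi, hz]
  rw [W, mem_adj, mem_adj, mem_adj, Subgroup.mem_bot, Subgroup.mem_bot, Subgroup.mem_bot,
    Subgroup.mem_bot, mul_eq_one_iff_eq_inv, mul_eq_one_iff_eq_inv, mul_eq_one_iff_eq_inv, h1,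
    hzi, hwi, or_assoc]

theorem W_le (h : Hyp T x r z w) : h.W ≤ T := by
  intro a ha
  rcases h.mem_W.1 ha with e | e | e | e <;> rw [e]
  · exact T.one_mem
  · exact h.zT
  · exact h.wT
  · exact T.mul_mem h.wT h.zT

theorem W_sq (h : Hyp T x r z w) : ∀ a ∈ h.W, a * a = 1 :=
  sq_adj (sq_adj (by intro a ha; rw [Subgroup.mem_bot.1 ha, one_mul]))

theorem W_central (h : Hyp T x r z w) : ∀ a ∈ h.W, ∀ t ∈ T, a * t = t * a := by
  intro a ha t ht
  have h1 := h.zc t ht
  have h2 := h.wc t ht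
  rcases h.mem_W.1 ha with e | e | e | e <;> rw [e]
  · rw [one_mul, mul_one]
  · exact h1.symm
  · exact h2.symm
  · rw [mul_assoc, ← h1, ← mul_assoc, ← h2, mul_assoc]

theorem card_W [Finite G] (h : Hyp T x r z w) : Nat.card h.W = 4 := by
  have h1 : w ∉ adj ⊥ z h.z2 (by intro a ha; rw [Subgroup.mem_bot.1 ha, one_mul, mul_one]) := by
    rintro (e | e)
    · exact h.w_ne (Subgroup.mem_bot.1 e)
    · apply h.w_ne_z
      rw [eq_inv_of_mul_eq_one_left (Subgroup.mem_bot.1 e)]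
      exact inv_eq_of_mul_eq_one_right h.z2
  have h2 : z ∉ (⊥ : Subgroup G) := fun e => h.z1 (Subgroup.mem_bot.1 e)
  rw [W, card_adj h1, card_adj h2, Subgroup.card_bot]

theorem rW (h : Hyp T x r z w) : ∀ a ∈ h.W, r * a * r⁻¹ ∈ h.W := by
  intro a ha
  rw [mem_W]
  apply h.mem_four_of_central (h.rT a (h.W_le ha))
  · have := h.W_sq a ha
    calc r * a * r⁻¹ * (r * a * r⁻¹) = r * (a * a) * r⁻¹ := by group
      _ = 1 := by rw [this]; group
  · intro s hs
    have h1 := h.W_central a ha _ (h.rinv_mem h.rT hs)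
    calc r * a * r⁻¹ * s = r * (a * (r⁻¹ * s * r)) * r⁻¹ := by group
      _ = r * (r⁻¹ * s * r * a) * r⁻¹ := by rw [h1]
      _ = s * (r * a * r⁻¹) := by group

theorem rW' (h : Hyp T x r z w) {a : G} (ha : r * a * r⁻¹ ∈ h.W) : a ∈ h.W := by
  have h1 := h.rinv_mem h.rW ha
  have h2 : r⁻¹ * (r * a * r⁻¹) * r = a := by group
  rwa [h2] at h1

/-- **Main result**: the structure of `T`. -/
theorem main [Finite G] (h : Hyp T x r z w) {e : G} (he : e ∈ T) (he2 : e * e = 1)
    (hne : ¬ (e = 1 ∨ e = z ∨ e = w ∨ e = w * z)) : ∃ E : Subgroup G, e ∈ E ∧ Out T x r z w E := by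
  have hα := h.fpf3
  have hcardT := h.card_T he he2 hne
  have heW : e ∉ h.W := fun hh => hne (h.mem_W.1 hh)
  set e' : G := r * e * r⁻¹ with he'
  have he'T : e' ∈ T := h.rT e he
  have he'2 : e' * e' = 1 := by
    rw [he']
    calc r * e * r⁻¹ * (r * e * r⁻¹) = r * (e * e) * r⁻¹ := by group
      _ = 1 := by rw [he2]; group
  have hee' : e * e' = e' * e := congrArg Subtype.val (hα.comm ⟨e, he⟩)
  -- `e * e' * e'' = 1`
  have he'' : r * e' * r⁻¹ = e * e' := by
    have h1 := congrArg Subtype.val (hα.map_map ⟨e, he⟩)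
    rw [coe_α, coe_α, Subgroup.coe_inv, Subgroup.coe_mul, coe_α] at h1
    change r * e' * r⁻¹ = (e * e')⁻¹ at h1
    rw [h1]
    apply inv_eq_of_mul_eq_one_right
    calc e * e' * (e * e') = e * (e' * e) * e' := by simp only [mul_assoc]
      _ = (e * e) * (e' * e') := by rw [← hee']; simp only [mul_assoc]
      _ = 1 := by rw [he2, he'2, one_mul]
  let E2 : Subgroup G := adj h.W e he2 (fun a ha => h.W_central a ha e he)
  have hE2c : ∀ a ∈ E2, a * e' = e' * a := by
    rintro a (ha | ha)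
    · exact h.W_central a ha e' he'T
    · have h1 := h.W_central _ ha e' he'T
      have h2 : a = (a * e) * e := by rw [mul_assoc, he2, mul_one]
      rw [h2]
      calc a * e * e * e' = (a * e) * (e * e') := by simp only [mul_assoc]
        _ = (a * e * e') * e := by rw [hee']; simp only [mul_assoc]
        _ = e' * (a * e * e) := by rw [h1]; simp only [mul_assoc]
  have he'E2 : e' ∉ E2 := by
    rintro (hh | hh)
    · exact heW (h.rW' hh)
    · -- `e' * e ∈ W`, the image of `e'` under `r`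
      rw [← hee', ← he''] at hh
      exact heW (h.rW' (h.rW' hh))
  let E : Subgroup G := adj E2 e' he'2 hE2c
  have hEc : Nat.card E = 16 := by
    have h1 : Nat.card E = 2 * Nat.card E2 := card_adj he'E2
    have h2 : Nat.card E2 = 2 * Nat.card h.W := card_adj heW
    rw [h1, h2, h.card_W]
  have hEsq : ∀ a ∈ E, a * a = 1 := sq_adj (sq_adj h.W_sq)
  have hE2T : E2 ≤ T := adj_le h.W_le he
  have hET : E ≤ T := adj_le hE2T he'T
  have hWE : h.W ≤ E := le_adj.trans le_adj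
  have heE : e ∈ E := le_adj (E := E2) self_mem_adj
  have he'E : e' ∈ E := self_mem_adj
  have hrE : ∀ a ∈ E, r * a * r⁻¹ ∈ E := by
    have hW2 : ∀ a ∈ E2, r * a * r⁻¹ ∈ E := by
      rintro a (ha | ha)
      · exact hWE (h.rW a ha)
      · have h1 := hWE (h.rW _ ha)
        have h2 : r * a * r⁻¹ = r * (a * e) * r⁻¹ * e' := by
          rw [he']
          calc r * a * r⁻¹ = r * (a * (e * e)) * r⁻¹ := by rw [he2, mul_one]
            _ = _ := by group
        rw [h2]
        exact E.mul_mem h1 he'E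
    rintro a (ha | ha)
    · exact hW2 a ha
    · have h1 := hW2 _ ha
      have h2 : r * a * r⁻¹ = r * (a * e') * r⁻¹ * (e * e') := by
        rw [← he'']
        calc r * a * r⁻¹ = r * (a * (e' * e')) * r⁻¹ := by rw [he'2, mul_one]
          _ = _ := by group
      rw [h2]
      exact E.mul_mem h1 (E.mul_mem heE he'E)
  have hinf : ∀ a ∈ E, x * a * x⁻¹ ∈ E → a ∈ h.W := by
    intro a ha hxa
    rw [mem_W]
    exact h.mem_four (hET ha) (hEsq a ha) (comm_of_sq hEsq ha hxa)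
  -- the product
  let Ex : Subgroup G := E.map (MulAut.conj x).toMonoidHom
  have hmemx : ∀ a, a ∈ Ex ↔ ∃ b ∈ E, a = x * b * x⁻¹ := by
    intro a
    constructor
    · rintro ⟨b, hb, rfl⟩
      exact ⟨b, hb, rfl⟩
    · rintro ⟨b, hb, rfl⟩
      exact ⟨b, hb, rfl⟩
  have hExc : Nat.card Ex = 16 := by
    rw [← hEc]
    exact (Nat.card_congr (E.equivMapOfInjective _ (MulAut.conj x).injective).toEquiv).symm
  have hinfc : Nat.card (E ⊓ Ex : Subgroup G) ≤ 4 := by
    rw [← h.card_W]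
    apply Subgroup.card_le_of_le
    rintro a ⟨ha, hax⟩
    obtain ⟨b, hb, rfl⟩ := (hmemx a).1 hax
    have h1 : x * (x * b * x⁻¹) * x⁻¹ ∈ E := by rw [h.conj_conj]; exact hb
    exact hinf _ ha h1
  have hprod : ∀ t ∈ T, ∃ a ∈ E, ∃ b ∈ E, t = a * (x * b * x⁻¹) := by
    have h1 := Cfsg.Agent.Lib.ProductSet.card_mul_card_inf E Ex
    rw [hEc, hExc] at h1
    have hsub : ((E : Set G) * (Ex : Set G) : Set G) ⊆ (T : Set G) := by
      rintro _ ⟨a, ha, b, hb, rfl⟩
      obtain ⟨c, hc, rfl⟩ := (hmemx b).1 hb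
      exact T.mul_mem (hET ha) (h.xT c (hET hc))
    have h2 : 64 ≤ Nat.card ((E : Set G) * (Ex : Set G) : Set G) := by
      by_contra hlt
      have h3 : Nat.card ((E : Set G) * (Ex : Set G) : Set G) *
          Nat.card (E ⊓ Ex : Subgroup G) ≤ 63 * 4 := Nat.mul_le_mul (by omega) hinfc
      omega
    have h3 : ((E : Set G) * (Ex : Set G) : Set G) = (T : Set G) := by
      apply Set.eq_of_subset_of_ncard_le hsub _ (Set.toFinite _)
      rw [← Nat.card_coe_set_eq, ← Nat.card_coe_set_eq]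
      change Nat.card T ≤ _
      rw [hcardT]
      exact h2
    intro t ht
    have h4 : t ∈ ((E : Set G) * (Ex : Set G) : Set G) := by rw [h3]; exact ht
    obtain ⟨a, ha, b, hb, rfl⟩ := h4
    obtain ⟨c, hc, rfl⟩ := (hmemx b).1 hb
    exact ⟨a, ha, c, hc, rfl⟩
  -- `E` is self-centralising
  have hself : ∀ t ∈ T, (∀ a ∈ E, t * a = a * t) → t ∈ E := by
    intro t ht hcent
    obtain ⟨a, ha, b, hb, rfl⟩ := hprod t ht
    have h1 : b * (x * b * x⁻¹) = (x * b * x⁻¹) * b := by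
      have h2 := hcent b hb
      have h3 := comm_of_sq hEsq ha hb
      have h4 : a * (b * (x * b * x⁻¹)) = a * ((x * b * x⁻¹) * b) := by
        calc a * (b * (x * b * x⁻¹)) = (a * b) * (x * b * x⁻¹) := by simp only [mul_assoc]
          _ = b * (a * (x * b * x⁻¹)) := by rw [h3]; simp only [mul_assoc]
          _ = a * ((x * b * x⁻¹) * b) := by rw [← h2]; simp only [mul_assoc]
      exact mul_left_cancel h4
    have h5 := h.mem_four (hET hb) (hEsq b hb) h1
    have h6 : x * b * x⁻¹ ∈ E := by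
      rcases h5 with e1 | e1 | e1 | e1 <;> rw [e1]
      · rw [mul_one, mul_inv_cancel]; exact E.one_mem
      · rw [h.xz]; exact hWE (h.mem_W.2 (Or.inr (Or.inl rfl)))
      · rw [h.xw]; exact hWE (h.mem_W.2 (Or.inr (Or.inr (Or.inr rfl))))
      · have h7 : x * (w * z) * x⁻¹ = w := by
          calc x * (w * z) * x⁻¹ = (x * w * x⁻¹) * (x * z * x⁻¹) := by group
            _ = w := by rw [h.xw, h.xz, mul_assoc, h.z2, mul_one]
        rw [h7]; exact hWE (h.mem_W.2 (Or.inr (Or.inr (Or.inl rfl))))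
    exact E.mul_mem ha h6
  have hnormal : ∀ t ∈ T, ∀ a ∈ E, t * a * t⁻¹ ∈ E := by
    -- conjugates of `e` and `e'`
    have hconj : ∀ a ∈ E, ∀ t ∈ T, ∀ c : G, c ∈ T → r * a * r⁻¹ = c →
        (t * a * t⁻¹) * a = a * (t * a * t⁻¹) ∧ (t * a * t⁻¹) * c = c * (t * a * t⁻¹) := by
      intro a ha t ht c hc hac
      have haT := hET ha
      have h1 := congrArg Subtype.val (hα.comm_conj ⟨a, haT⟩ ⟨t⁻¹, T.inv_mem ht⟩)
      have h2 := congrArg Subtype.val (hα.comm_conj_map ⟨a, haT⟩ ⟨t⁻¹, T.inv_mem ht⟩)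
      simp only [Subgroup.coe_mul, Subgroup.coe_inv, inv_inv, coe_α] at h1 h2
      rw [hac] at h2
      exact ⟨h1, h2⟩
    have hcent : ∀ a ∈ E, ∀ u ∈ T, u * e = e * u → u * e' = e' * u → u * a = a * u := by
      intro a ha u hu h1 h2
      have c1 : Commute u e := h1
      have c2 : Commute u e' := h2
      have hE2 : ∀ b ∈ E2, Commute u b := by
        rintro b (hb | hb)
        · exact (h.W_central b hb u hu).symm
        · have h3 : Commute u (b * e) := (h.W_central _ hb u hu).symm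
          have h4 : b = (b * e) * e⁻¹ := by group
          rw [h4]
          exact h3.mul_right c1.inv_right
      rcases ha with ha | ha
      · exact hE2 a ha
      · have h3 := hE2 _ ha
        have h4 : a = (a * e') * e'⁻¹ := by group
        rw [h4]
        exact h3.mul_right c2.inv_right
    have hconjE : ∀ t ∈ T, t * e * t⁻¹ ∈ E := by
      intro t ht
      have h1 := hconj e heE t ht e' he'T rfl
      exact hself _ (T.mul_mem (T.mul_mem ht he) (T.inv_mem ht))
        (fun a ha => hcent a ha _ (T.mul_mem (T.mul_mem ht he) (T.inv_mem ht)) h1.1 h1.2)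
    have hconjE' : ∀ t ∈ T, t * e' * t⁻¹ ∈ E := by
      intro t ht
      have h1 := hconj e' he'E t ht (e * e') (T.mul_mem he he'T) he''
      have h2 : Commute (t * e' * t⁻¹) e' := h1.1
      have h3 : Commute (t * e' * t⁻¹) (e * e') := h1.2
      have h4 : Commute (t * e' * t⁻¹) e := by
        have : e = (e * e') * e'⁻¹ := by group
        rw [this]
        exact h3.mul_right h2.inv_right
      exact hself _ (T.mul_mem (T.mul_mem ht he'T) (T.inv_mem ht))
        (fun a ha => hcent a ha _ (T.mul_mem (T.mul_mem ht he'T) (T.inv_mem ht)) h4.eq h2.eq)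
    intro t ht
    have hW1 : ∀ a ∈ h.W, t * a * t⁻¹ ∈ E := by
      intro a ha
      rw [← h.W_central a ha t ht, mul_inv_cancel_right]
      exact hWE ha
    have hW2 : ∀ a ∈ E2, t * a * t⁻¹ ∈ E := by
      rintro a (ha | ha)
      · exact hW1 a ha
      · have h1 := E.mul_mem (hW1 _ ha) (E.inv_mem (hconjE t ht))
        have h2 : t * (a * e) * t⁻¹ * (t * e * t⁻¹)⁻¹ = t * a * t⁻¹ := by group
        rwa [h2] at h1
    rintro a (ha | ha)
    · exact hW2 a ha
    · have h1 := E.mul_mem (hW2 _ ha) (E.inv_mem (hconjE' t ht))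
      have h2 : t * (a * e') * t⁻¹ * (t * e' * t⁻¹)⁻¹ = t * a * t⁻¹ := by group
      rwa [h2] at h1
  refine ⟨E, heE, ⟨hET, hEc, hEsq, ?_, ?_, hrE, ?_, hnormal, hprod, hcardT⟩⟩
  · exact hWE (h.mem_W.2 (Or.inr (Or.inl rfl)))
  · exact hWE (h.mem_W.2 (Or.inr (Or.inr (Or.inl rfl))))
  · intro a ha hxa
    exact h.mem_W.1 (hinf a ha hxa)

end Hyp

end Cfsg.Agent.Classification.NonConnFused

private theorem dce_0e38d3c99a55 : _root_.True := by
  try have : _root_.True := by simp only [_root_.Cfsg.Agent.Classification.NonConnFused.Hyp.α.congr_simp]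
  try have : _root_.True := by simp only [_root_.Cfsg.Agent.Classification.NonConnFused.Hyp.F.eq_1]
  try have : _root_.True := by simp only [_root_.Cfsg.Agent.Classification.NonConnFused.Hyp.W.eq_1]
  exact _root_.True.intro
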