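import Mathlib
import Cfsg.Agent.Classification.DihedralCentral
import Cfsg.Agent.Classification.BGBasic
set_option linter.all false

/-!
# Bender–Glauberman: existence of the structure `BGHyp`

If `G` has a dihedral Sylow 2-subgroup and one class of involutions, then the centralizer of an involution `t` maps
onto the dihedral group with odd kernel, and `t` is mapped to the central rotation.
-/

set_option autoImplicit false

namespace Cfsg.Agent.Classification.BGStructure

open DihedralGroup Cfsg.Agent.Classification.BGDefs Cfsg.Agent.Classification.BGBasic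
  Cfsg.Agent.Classification.TransferSign Cfsg.Agent.Classification.DihedralCentral

theorem r_half_comm {n : ℕ} [NeZero n] (h2 : 2 ∣ n) (x : DihedralGroup n) :
    x * r ((n / 2 : ℕ) : ZMod n) = r ((n / 2 : ℕ) : ZMod n) * x := by
  have h := half_add_half (n := n) h2
  cases x with
  | r i => rw [r_mul_r, r_mul_r, add_comm]
  | sr i =>
    rw [sr_mul_r, r_mul_sr]
    congr 1
    rw [eq_sub_iff_add_eq, add_assoc, h, add_zero]

theorem exists_hyp {G : Type*} [Group G] [Finite G] (S : Sylow 2 G) (m : ℕ) (hm : 1 ≤ m)
    (eS : Nonempty ((S : Subgroup G) ≃* DihedralGroup (2 ^ m)))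
    (hone : ∀ x y : G, orderOf x = 2 → orderOf y = 2 → IsConj x y) (t : G)
    (ht : orderOf t = 2) :
    ∃ π : (Subgroup.centralizer ({t} : Set G)) →* DihedralGroup (2 ^ m), BGHyp t (2 ^ m) π := by
  obtain ⟨e⟩ := eS
  obtain ⟨n, hn⟩ : ∃ n, n = 2 ^ m := ⟨_, rfl⟩
  rw [← hn] at e ⊢
  have : NeZero n := ⟨by rw [hn]; positivity⟩
  have h2n : 2 ∣ n := by rw [hn]; exact dvd_pow_self 2 (by omega)
  set z : DihedralGroup n := r ((n / 2 : ℕ) : ZMod n) with hz
  have hz1 : z ≠ 1 := by
    rw [hz, DihedralGroup.one_def]
    intro h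
    exact half_ne_zero h2n (r.inj h)
  have hzz : z * z = 1 := by
    rw [hz, r_mul_r, half_add_half h2n, DihedralGroup.one_def]
  have hzc : ∀ x : DihedralGroup n, x * z = z * x := fun x => r_half_comm h2n x
  -- embedding of the dihedral group in `G`
  set φ1 : DihedralGroup n →* G := (S : Subgroup G).subtype.comp e.symm.toMonoidHom with hφ1
  have hφ1inj : Function.Injective φ1 :=
    (Subgroup.subtype_injective _).comp e.symm.injective
  have hz2 : orderOf (φ1 z) = 2 := by
    rw [orderOf_injective φ1 hφ1inj]
    exact orderOf_eq_prime (by rw [sq, hzz]) hz1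
  obtain ⟨g, hg⟩ := isConj_iff.1 (hone _ t hz2 ht)
  set φ0 : DihedralGroup n →* G := (MulAut.conj g).toMonoidHom.comp φ1 with hφ0
  have hφ0inj : Function.Injective φ0 := (MulAut.conj g).injective.comp hφ1inj
  have hφ0z : φ0 z = t := hg
  have hmem : ∀ x, φ0 x ∈ Subgroup.centralizer ({t} : Set G) := by
    intro x
    rw [Subgroup.mem_centralizer_singleton_iff, ← hφ0z, ← map_mul, ← map_mul, hzc]
  set φ : DihedralGroup n →* (Subgroup.centralizer ({t} : Set G)) := φ0.codRestrict _ hmem with hφ
  have hφinj : Function.Injective φ := fun a b hab => hφ0inj (congrArg Subtype.val hab)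
  have hφz : φ z = tt t := Subtype.ext hφ0z
  -- the normal complement
  have hsub : SubDihedral (Subgroup.centralizer ({t} : Set G)) :=
    subDihedral_of_injective (Subgroup.subtype _) (Subgroup.subtype_injective _)
      (subDihedral_of_sylow S n e)
  have htne : tt t ≠ 1 := by
    intro h
    have : t = 1 := congrArg Subtype.val h
    rw [this, orderOf_one] at ht
    omega
  have htmul : tt t * tt t = 1 := by
    apply Subtype.ext
    show t * t = 1
    have := pow_orderOf_eq_one t
    rwa [ht, sq] at this
  have hodd := oddClosed_of_subDihedral _ le_rfl hsub (tt t) htne htmul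
    (fun x => ((tt_comm x).eq).symm)
  obtain ⟨N, hNn, hNodd, k, hk⟩ := exists_of_oddClosed hodd
  -- the map to the quotient is bijective
  set ψ : DihedralGroup n →* (Subgroup.centralizer ({t} : Set G)) ⧸ N := (QuotientGroup.mk' N).comp φ
    with hψ
  have hψinj : Function.Injective ψ := by
    rw [injective_iff_map_eq_one]
    intro x hx
    have hxN : φ x ∈ N := (QuotientGroup.eq_one_iff _).1 hx
    have h1 : Odd (orderOf x) := by
      rw [← orderOf_injective φ hφinj x]
      have h3 : orderOf (⟨φ x, hxN⟩ : N) ∣ Nat.card N := orderOf_dvd_natCard _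
      rw [← Subgroup.orderOf_coe] at h3
      exact Odd.of_dvd_nat hNodd h3
    have h2 : orderOf x ∣ 2 ^ (m + 1) := by
      have h3 := orderOf_dvd_natCard x
      rw [DihedralGroup.nat_card] at h3
      rw [pow_succ, mul_comm]
      exact h3.trans (dvd_of_eq (by rw [hn]))
    obtain ⟨c, -, hc⟩ := (Nat.dvd_prime_pow Nat.prime_two).1 h2
    rw [hc] at h1
    have hc0 : c = 0 := by
      by_contra hc0
      exact (Nat.not_odd_iff_even.2 (Nat.even_pow.2 ⟨even_two, hc0⟩)) h1
    rw [hc0, pow_zero, orderOf_eq_one_iff] at hc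
    exact hc
  have hcard : Nat.card ((Subgroup.centralizer ({t} : Set G)) ⧸ N) ≤ Nat.card (DihedralGroup n) := by
    have h1 : Nat.card ((Subgroup.centralizer ({t} : Set G)) ⧸ N) = 2 ^ k := hk
    rw [h1, ← Nat.card_congr e.toEquiv]
    have h2 : 2 ^ k ∣ Nat.card G := by
      rw [← hk]
      exact (Subgroup.index_dvd_card N).trans (Subgroup.card_subgroup_dvd_card _)
    rw [S.card_eq_multiplicity]
    exact Nat.pow_le_pow_right (by norm_num)
      ((Nat.prime_two.pow_dvd_iff_le_factorization Nat.card_pos.ne').1 h2)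
  have hbij : Function.Bijective ψ := by
    have := Fintype.ofFinite ((Subgroup.centralizer ({t} : Set G)) ⧸ N)
    rw [Fintype.bijective_iff_injective_and_card]
    refine ⟨hψinj, le_antisymm ?_ ?_⟩
    · exact Fintype.card_le_of_injective _ hψinj
    · rw [← Nat.card_eq_fintype_card, ← Nat.card_eq_fintype_card]
      exact hcard
  set E := MulEquiv.ofBijective ψ hbij with hE
  refine ⟨E.symm.toMonoidHom.comp (QuotientGroup.mk' N), ?_⟩
  constructor
  · exact ht
  · intro x hx
    exact hone t x ht hx
  · exact ⟨m, hm, hn⟩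
  · exact E.symm.surjective.comp (QuotientGroup.mk'_surjective N)
  · have hker : (E.symm.toMonoidHom.comp (QuotientGroup.mk' N)).ker = N := by
      ext x
      rw [MonoidHom.mem_ker, MonoidHom.comp_apply]
      show E.symm (QuotientGroup.mk' N x) = 1 ↔ _
      rw [EmbeddingLike.map_eq_one_iff]
      exact QuotientGroup.eq_one_iff x
    rw [hker]
    exact hNodd
  · intro h
    show E.symm (QuotientGroup.mk' N ⟨t, h⟩) = r ((n / 2 : ℕ) : ZMod n)
    rw [MulEquiv.symm_apply_eq]
    show _ = QuotientGroup.mk' N (φ z)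
    rw [hφz]
    rfl

end Cfsg.Agent.Classification.BGStructure
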