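import Mathlib
import Cfsg.Prelude.Def_CaseTheorems
import Cfsg.Agent.S0502
import Cfsg.Agent.Involutions.RankThree
import Cfsg.Agent.FastGrp
import Cfsg.Agent.Prune
set_option linter.all false
prune_inst 0x7f00000000000000000000000000000000000000000000000000000000000000000000000000000000000000000000000000000000000000000000000000000000000000000000000000000000000000003fffffffffffffffffffffffffffbeffbdffffffff
open scoped Cfsg.Agent.FastGrp

-- part: Classification/NonConnBase
section
/-!
# 2-groups whose graph of four-groups is disconnected: the basic data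

`P` is (a Sylow 2-subgroup viewed as) a finite 2-group, `⟨z, w⟩` a normal four-group with `z`
central, `T = C_P(w)` of index 2, `x` an involution outside `T` such that `Y = C_T(x)` has the
only involution `z` and contains an element `f` with `f ^ 2 = z`.
-/

set_option autoImplicit false

namespace Cfsg.Agent.Classification.NonConnBase

open Subgroup

/-- the local data: `W = ⟨z, w⟩` normal four-group, `z` central, `x` an isolated involution -/
structure Data (P : Type*) [Group P] where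
  z : P
  w : P
  x : P
  z_ne : z ≠ 1
  z_sq : z * z = 1
  z_comm : ∀ g : P, g * z = z * g
  w_ne : w ≠ 1
  w_ne_z : w ≠ z
  w_sq : w * w = 1
  w_conj : ∀ g : P, g * w * g⁻¹ = w ∨ g * w * g⁻¹ = w * z
  x_sq : x * x = 1
  x_w : x * w * x⁻¹ = w * z
  hY : ∀ t : P, t * w = w * t → t * x = x * t → t * t = 1 → t = 1 ∨ t = z
  hf : ∃ f : P, f * w = w * f ∧ f * x = x * f ∧ f * f = z

variable {P : Type*} [Group P]

namespace Data

variable (D : Data P)

/-- `T = C_P(w)` -/
def T : Subgroup P := centralizer {D.w}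

theorem mem_T {g : P} : g ∈ D.T ↔ g * D.w = D.w * g := by
  unfold T
  rw [mem_centralizer_singleton_iff]

theorem z_inv : D.z⁻¹ = D.z := inv_eq_of_mul_eq_one_right D.z_sq

theorem w_inv : D.w⁻¹ = D.w := inv_eq_of_mul_eq_one_right D.w_sq

theorem x_inv : D.x⁻¹ = D.x := inv_eq_of_mul_eq_one_right D.x_sq

theorem commute_z (g : P) : Commute g D.z := D.z_comm g

/-- conjugation of `w` by an element outside `T` -/
theorem conj_w_of_not {g : P} (hg : ¬ Commute g D.w) : g * D.w * g⁻¹ = D.w * D.z := by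
  rcases D.w_conj g with h | h
  · exact absurd (show g * D.w = D.w * g from (mul_inv_eq_iff_eq_mul.1 h)) hg
  · exact h

theorem mul_w_of_not {g : P} (hg : ¬ Commute g D.w) : g * D.w = D.w * D.z * g :=
  mul_inv_eq_iff_eq_mul.1 (D.conj_w_of_not hg)

theorem wz_ne_w : D.w * D.z ≠ D.w := by
  intro h
  exact D.z_ne (mul_eq_left.1 h)

theorem not_commute_x : ¬ Commute D.x D.w := by
  intro h
  have h1 : D.x * D.w * D.x⁻¹ = D.w := by rw [h.eq, mul_inv_cancel_right]
  rw [D.x_w] at h1
  exact D.wz_ne_w h1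

/-- the product of two elements outside `T` lies in `T` -/
theorem commute_mul_of_not {g h : P} (hg : ¬ Commute g D.w) (hh : ¬ Commute h D.w) :
    Commute (g * h) D.w := by
  have h1 := D.mul_w_of_not hg
  have h2 := D.mul_w_of_not hh
  show g * h * D.w = D.w * (g * h)
  calc g * h * D.w = g * (h * D.w) := by rw [mul_assoc]
    _ = g * D.w * (D.z * h) := by rw [h2]; simp only [mul_assoc]
    _ = D.w * D.z * g * (D.z * h) := by rw [h1]
    _ = D.w * D.z * (g * D.z) * h := by simp only [mul_assoc]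
    _ = D.w * (D.z * D.z) * g * h := by rw [D.z_comm g]; simp only [mul_assoc]
    _ = D.w * (g * h) := by rw [D.z_sq, mul_one, mul_assoc]

theorem not_commute_mul {g h : P} (hg : Commute g D.w) (hh : ¬ Commute h D.w) :
    ¬ Commute (g * h) D.w := by
  intro h1
  apply hh
  have : h = g⁻¹ * (g * h) := by group
  rw [this]
  exact hg.inv_left.mul_left h1

theorem not_commute_mul' {g h : P} (hg : ¬ Commute g D.w) (hh : Commute h D.w) :
    ¬ Commute (g * h) D.w := by
  intro h1
  apply hg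
  have : g = (g * h) * h⁻¹ := by group
  rw [this]
  exact h1.mul_left hh.inv_left

/-- `T` is normal: membership in `T` is invariant under conjugation -/
theorem commute_conj {g : P} (s : P) (hg : Commute g D.w) : Commute (s * g * s⁻¹) D.w := by
  have h0 : Commute (s * g * s⁻¹) (s * D.w * s⁻¹) := by
    show s * g * s⁻¹ * (s * D.w * s⁻¹) = s * D.w * s⁻¹ * (s * g * s⁻¹)
    have := hg.eq
    calc s * g * s⁻¹ * (s * D.w * s⁻¹) = s * (g * D.w) * s⁻¹ := by group
      _ = s * (D.w * g) * s⁻¹ := by rw [this]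
      _ = s * D.w * s⁻¹ * (s * g * s⁻¹) := by group
  rcases D.w_conj s with h | h
  · rwa [h] at h0
  · rw [h] at h0
    have h1 : Commute (s * g * s⁻¹) (D.w * D.z * D.z) := h0.mul_right (D.commute_z _)
    have h2 : D.w * D.z * D.z = D.w := by rw [mul_assoc, D.z_sq, mul_one]
    rwa [h2] at h1

/-- an element whose square lies in `Y` conditions: if `t` commutes with `w` and `x` and
`t * t = 1`, then `t = 1` or `t = z` (restatement with `Commute`) -/
theorem eq_of_sq {t : P} (h1 : Commute t D.w) (h2 : Commute t D.x) (h3 : t * t = 1) :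
    t = 1 ∨ t = D.z := D.hY t h1 h2 h3

end Data

end Cfsg.Agent.Classification.NonConnBase
end

-- part: Classification/NonConnStep
section
/-!
# Disconnected 2-groups: the element `c = [x, e]` and the action of `Y` on `⟨x, e⟩`
-/

set_option autoImplicit false

namespace Cfsg.Agent.Classification.NonConnStep

open Subgroup Cfsg.Agent.Classification.NonConnBase

variable {P : Type*} [Group P]

/-- in a 2-group: `a ∈ ⟨d⟩` implies `a ∈ ⟨d²⟩` or `d ∈ ⟨a⟩` -/
theorem mem_zpowers_or [Finite P] (hP : IsPGroup 2 P) {a d : P} (h : a ∈ zpowers d) :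
    a ∈ zpowers (d * d) ∨ d ∈ zpowers a := by
  rw [← mem_powers_iff_mem_zpowers] at h
  obtain ⟨k, hk⟩ := h
  simp only at hk
  rcases Nat.even_or_odd' k with ⟨j, hj | hj⟩
  · left
    rw [← hk, hj, pow_mul, sq]
    exact pow_mem (mem_zpowers _) _
  · right
    rw [← hk, mem_zpowers_pow_iff]
    obtain ⟨l, hl⟩ := IsPGroup.iff_orderOf.1 hP d
    have h2 : Nat.Coprime (2 ^ l) k := by
      apply Nat.Coprime.pow_left
      rw [Nat.coprime_two_left, hj]
      exact ⟨j, rfl⟩
    rw [hl]
    first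
      | exact h2
      | exact h2.symm

/-- a 2-element all whose involutory powers equal `z` has a power with square `z` -/
theorem exists_pow_sq [Finite P] (hP : IsPGroup 2 P) {z d : P}
    (h : ∀ n : ℕ, d ^ n * d ^ n = 1 → d ^ n = 1 ∨ d ^ n = z) (hd : d * d ≠ 1) :
    ∃ k : ℕ, d ^ k * d ^ k = z := by
  obtain ⟨l, hl⟩ := IsPGroup.iff_orderOf.1 hP d
  have hl2 : 2 ≤ l := by
    by_contra hlt
    apply hd
    have h1 : orderOf d ∣ 2 := by
      rw [hl]
      calc 2 ^ l ∣ 2 ^ 1 := pow_dvd_pow 2 (by omega)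
        _ = 2 := by norm_num
    have h2 := orderOf_dvd_iff_pow_eq_one.1 h1
    rwa [sq] at h2
  obtain ⟨m, rfl⟩ : ∃ m, l = m + 2 := ⟨l - 2, by omega⟩
  have e1 : d ^ 2 ^ m * d ^ 2 ^ m = d ^ 2 ^ (m + 1) := by
    rw [← pow_add]
    congr 1
    ring
  have e2 : d ^ 2 ^ (m + 1) * d ^ 2 ^ (m + 1) = 1 := by
    rw [← pow_add, ← pow_orderOf_eq_one d, hl]
    congr 1
    ring
  refine ⟨2 ^ m, ?_⟩
  rw [e1]
  rcases h _ e2 with h1 | h1
  · exfalso
    have h3 := orderOf_dvd_of_pow_eq_one h1
    rw [hl, Nat.pow_dvd_pow_iff_le_right (by norm_num)] at h3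
    omega
  · exact h1

/-- `Y = C_T(x)` -/
def Y (D : Data P) : Subgroup P := centralizer {D.w} ⊓ centralizer {D.x}

theorem mem_Y {D : Data P} {y : P} : y ∈ Y D ↔ Commute y D.w ∧ Commute y D.x := by
  unfold Y
  rw [mem_inf, mem_centralizer_singleton_iff, mem_centralizer_singleton_iff]
  rfl

variable (D : Data P)

theorem eq_of_mem_Y {y : P} (hy : y ∈ Y D) (h : y * y = 1) : y = 1 ∨ y = D.z :=
  D.hY y (mem_Y.1 hy).1 (mem_Y.1 hy).2 h

/-- two elements of `T` inverted by `x` with the same square -/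
theorem mem_Y_of_sq_eq {g1 g2 : P} (h1w : Commute g1 D.w) (h2w : Commute g2 D.w)
    (h1x : D.x * g1 * D.x = g1⁻¹) (h2x : D.x * g2 * D.x = g2⁻¹) (h : g1 * g1 = g2 * g2) :
    g1 * g2⁻¹ ∈ Y D ∧ g2⁻¹ * (g1 * g2⁻¹) * g2 = (g1 * g2⁻¹)⁻¹ := by
  have h3 : g1⁻¹ * g2 = g1 * g2⁻¹ := by
    have : g2 * g2 = g1 * g1 := h.symm
    calc g1⁻¹ * g2 = g1⁻¹ * (g2 * g2) * g2⁻¹ := by group
      _ = g1⁻¹ * (g1 * g1) * g2⁻¹ := by rw [this]
      _ = g1 * g2⁻¹ := by group
  refine ⟨mem_Y.2 ⟨h1w.mul_left h2w.inv_left, ?_⟩, ?_⟩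
  · have h4 : D.x * (g1 * g2⁻¹) * D.x = g1 * g2⁻¹ := by
      have h5 : D.x * g2⁻¹ * D.x = g2 := by
        have := congrArg (fun t => t⁻¹) h2x
        simp only [mul_inv_rev, D.x_inv, inv_inv] at this
        rw [mul_assoc]
        exact this
      calc D.x * (g1 * g2⁻¹) * D.x = (D.x * g1 * D.x) * (D.x * D.x)⁻¹ * (D.x * g2⁻¹ * D.x) := by
            group
        _ = g1⁻¹ * g2 := by rw [h1x, h5, D.x_sq, inv_one, mul_one]
        _ = g1 * g2⁻¹ := h3
    show g1 * g2⁻¹ * D.x = D.x * (g1 * g2⁻¹)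
    calc g1 * g2⁻¹ * D.x = D.x * (g1 * g2⁻¹) * D.x * D.x := by rw [h4]
      _ = D.x * (g1 * g2⁻¹) * (D.x * D.x) := by group
      _ = D.x * (g1 * g2⁻¹) := by rw [D.x_sq, mul_one]
  · calc g2⁻¹ * (g1 * g2⁻¹) * g2 = g2⁻¹ * g1 := by group
      _ = (g1⁻¹ * g2)⁻¹ := by group
      _ = (g1 * g2⁻¹)⁻¹ := by rw [h3]

/-- a power of `y ∈ Y`, `y ∉ ⟨z⟩`, with square `z`; if `y` commutes with `f`, it is `f^{±1}` -/
theorem exists_pow_eq [Finite P] (hP : IsPGroup 2 P) {y f : P} (hy : y ∈ Y D) (hf : f ∈ Y D)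
    (hff : f * f = D.z) (hyf : Commute y f) (h1 : y ≠ 1) (hz : y ≠ D.z) :
    ∃ k : ℕ, y ^ k = f ∨ y ^ k = f⁻¹ := by
  have hyy : y * y ≠ 1 := fun h => (eq_of_mem_Y D hy h).elim h1 hz
  obtain ⟨k, hk⟩ := exists_pow_sq hP (z := D.z)
    (fun n hn => eq_of_mem_Y D (pow_mem hy n) hn) hyy
  refine ⟨k, ?_⟩
  have hc : Commute (y ^ k) f := hyf.pow_left k
  have h2 : y ^ k * f⁻¹ ∈ Y D := mul_mem (pow_mem hy k) (inv_mem hf)
  have h3 : (y ^ k * f⁻¹) * (y ^ k * f⁻¹) = 1 := by
    have := hc.inv_right.eq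
    calc (y ^ k * f⁻¹) * (y ^ k * f⁻¹) = y ^ k * (f⁻¹ * y ^ k) * f⁻¹ := by group
      _ = y ^ k * (y ^ k * f⁻¹) * f⁻¹ := by rw [this]
      _ = (y ^ k * y ^ k) * (f * f)⁻¹ := by group
      _ = 1 := by rw [hk, hff, mul_inv_cancel]
  have hfi : f⁻¹ = D.z * f := by
    rw [← hff]
    have : f * f * (f * f) = 1 := by rw [hff]; exact D.z_sq
    calc f⁻¹ = f⁻¹ * 1 := by group
      _ = f⁻¹ * (f * f * (f * f)) := by rw [this]
      _ = f * f * f := by group
  rcases eq_of_mem_Y D h2 h3 with h | h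
  · left
    exact (mul_inv_eq_one.1 h)
  · right
    rw [hfi]
    exact mul_inv_eq_iff_eq_mul.1 h

theorem inv_eq_z_mul {f : P} (hff : f * f = D.z) : f⁻¹ = D.z * f := by
  rw [← hff]
  have : f * f * (f * f) = 1 := by rw [hff]; exact D.z_sq
  calc f⁻¹ = f⁻¹ * 1 := by group
    _ = f⁻¹ * (f * f * (f * f)) := by rw [this]
    _ = f * f * f := by group

theorem eq_one_or_z_of_inverted [Finite P] (hP : IsPGroup 2 P) {y f u : P} (hy : y ∈ Y D)
    (hf : f ∈ Y D) (hff : f * f = D.z) (hyf : Commute y f) (huf : Commute u f)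
    (hu : u⁻¹ * y * u = y⁻¹) : y = 1 ∨ y = D.z := by
  by_contra hcon
  push Not at hcon
  obtain ⟨k, hk⟩ := exists_pow_eq D hP hy hf hff hyf hcon.1 hcon.2
  have h1 : u⁻¹ * y ^ k * u = (y ^ k)⁻¹ := by
    have := conj_pow (i := k) (a := u⁻¹) (b := y)
    rw [inv_inv] at this
    rw [← this, hu, inv_pow]
  have h2 : f⁻¹ = f := by
    rcases hk with hk | hk
    · rw [hk, mul_assoc, ← huf.eq, inv_mul_cancel_left] at h1
      exact h1.symm
    · rw [hk, inv_inv, mul_assoc, ← huf.inv_right.eq, inv_mul_cancel_left] at h1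
      exact h1
  apply D.z_ne
  rw [← hff]
  calc f * f = f * f⁻¹ := by rw [h2]
    _ = 1 := mul_inv_cancel f

/-- the data attached to an involution `e ∈ T ∖ W` -/
structure EData (D : Data P) where
  e : P
  c : P
  k : ℕ
  e_sq : e * e = 1
  e_w : Commute e D.w
  c_eq : c = D.x * e * D.x * e
  c_k : c ^ k * c ^ k = D.z

namespace EData

variable {D} (E : EData D)

/-- the element of order 4 of `Y` attached to `e` -/
def f : P := D.w * E.c ^ E.k

theorem e_inv : E.e⁻¹ = E.e := inv_eq_of_mul_eq_one_right E.e_sq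

theorem xex : D.x * E.e * D.x = E.c * E.e := by
  rw [E.c_eq, mul_assoc (D.x * E.e * D.x), E.e_sq, mul_one]

theorem xcx : D.x * E.c * D.x = E.c⁻¹ := by
  rw [E.c_eq]
  simp only [mul_inv_rev, D.x_inv, E.e_inv]
  calc D.x * (D.x * E.e * D.x * E.e) * D.x = (D.x * D.x) * E.e * D.x * E.e * D.x := by group
    _ = E.e * (D.x * (E.e * D.x)) := by rw [D.x_sq]; group

theorem ece : E.e * E.c * E.e = E.c⁻¹ := by
  rw [E.c_eq]
  simp only [mul_inv_rev, D.x_inv, E.e_inv]
  calc E.e * (D.x * E.e * D.x * E.e) * E.e = E.e * D.x * E.e * D.x * (E.e * E.e) := by group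
    _ = E.e * (D.x * (E.e * D.x)) := by rw [E.e_sq]; group

theorem c_w : Commute E.c D.w := by
  rw [E.c_eq]
  have h1 : Commute (D.x * E.e * D.x) D.w := by
    have := D.commute_conj D.x E.e_w
    rwa [D.x_inv] at this
  exact h1.mul_left E.e_w

theorem c_sq_ne : E.c * E.c ≠ 1 := by
  intro h
  have h1 : E.c ^ E.k * E.c ^ E.k = 1 := by
    rw [← (Commute.refl E.c).mul_pow, h, one_pow]
  exact D.z_ne (E.c_k.symm.trans h1)

theorem c_f : Commute E.c E.f := by
  unfold f
  exact E.c_w.mul_right ((Commute.refl E.c).pow_right _)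

theorem f_w : Commute E.f D.w := by
  unfold f
  exact (Commute.refl D.w).mul_left (E.c_w.pow_left _)

theorem f_sq : E.f * E.f = D.z := by
  unfold f
  have h := (E.c_w.pow_left E.k).eq
  calc D.w * E.c ^ E.k * (D.w * E.c ^ E.k) = D.w * (E.c ^ E.k * D.w) * E.c ^ E.k := by group
    _ = D.w * (D.w * E.c ^ E.k) * E.c ^ E.k := by rw [h]
    _ = (D.w * D.w) * (E.c ^ E.k * E.c ^ E.k) := by group
    _ = D.z := by rw [D.w_sq, one_mul, E.c_k]

theorem x_pow_x (n : ℕ) : D.x * E.c ^ n * D.x = (E.c ^ n)⁻¹ := by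
  have h := conj_pow (i := n) (a := D.x) (b := E.c)
  rw [D.x_inv, E.xcx] at h
  rw [← h, inv_pow]

theorem x_zpow_x (n : ℤ) : D.x * E.c ^ n * D.x = E.c ^ (-n) := by
  have h := conj_zpow (i := n) (a := D.x) (b := E.c)
  rw [D.x_inv, E.xcx] at h
  rw [← h, inv_zpow, zpow_neg]

theorem e_zpow_e (n : ℤ) : E.e * E.c ^ n * E.e = E.c ^ (-n) := by
  have h := conj_zpow (i := n) (a := E.e) (b := E.c)
  rw [E.e_inv, E.ece] at h
  rw [← h, inv_zpow, zpow_neg]

theorem xwx : D.x * D.w * D.x = D.w * D.z := by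
  have := D.x_w
  rwa [D.x_inv] at this

theorem f_x : Commute E.f D.x := by
  have h : D.x * E.f * D.x = E.f := by
    unfold f
    calc D.x * (D.w * E.c ^ E.k) * D.x
        = (D.x * D.w * D.x) * (D.x * D.x)⁻¹ * (D.x * E.c ^ E.k * D.x) := by group
      _ = D.w * D.z * (E.c ^ E.k)⁻¹ := by rw [xwx, D.x_sq, E.x_pow_x]; group
      _ = D.w * (E.c ^ E.k * E.c ^ E.k) * (E.c ^ E.k)⁻¹ := by rw [E.c_k]
      _ = D.w * E.c ^ E.k := by group
  show E.f * D.x = D.x * E.f
  calc E.f * D.x = D.x * E.f * D.x * D.x := by rw [h]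
    _ = D.x * E.f * (D.x * D.x) := by group
    _ = D.x * E.f := by rw [D.x_sq, mul_one]

theorem f_mem : E.f ∈ Y D := mem_Y.2 ⟨E.f_w, E.f_x⟩

theorem f_inv : E.f⁻¹ = D.z * E.f := inv_eq_z_mul D E.f_sq

theorem f_ne_inv : E.f ≠ E.f⁻¹ := by
  intro h
  apply D.z_ne
  rw [← E.f_sq]
  calc E.f * E.f = E.f * E.f⁻¹ := by rw [← h]
    _ = 1 := mul_inv_cancel _

theorem efe : E.e * E.f * E.e = E.f⁻¹ := by
  unfold f
  have h1 := E.e_zpow_e E.k
  rw [zpow_natCast, zpow_neg, zpow_natCast] at h1
  calc E.e * (D.w * E.c ^ E.k) * E.e = (E.e * D.w) * E.c ^ E.k * E.e := by group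
    _ = D.w * (E.e * E.c ^ E.k * E.e) := by rw [E.e_w.eq]; group
    _ = D.w * (E.c ^ E.k)⁻¹ := by rw [h1]
    _ = (E.c ^ E.k)⁻¹ * D.w := by rw [((E.c_w.pow_left E.k).inv_left).eq]
    _ = (D.w * E.c ^ E.k)⁻¹ := by rw [mul_inv_rev, D.w_inv]

/-- `c ^ k = w f` -/
theorem c_k_eq : E.c ^ E.k = D.w * E.f := by
  unfold f
  rw [← mul_assoc, D.w_sq, one_mul]

end EData

/-- existence of the data -/
theorem exists_eData [Finite P] (hP : IsPGroup 2 P) {e : P} (he : e * e = 1)
    (hew : Commute e D.w) (h1 : e ≠ 1) (hz : e ≠ D.z) (hw : e ≠ D.w) (hwz : e ≠ D.w * D.z) :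
    ∃ E : EData D, E.e = e := by
  set c : P := D.x * e * D.x * e with hc
  have hei : e⁻¹ = e := inv_eq_of_mul_eq_one_right he
  have hxcx : D.x * c * D.x = c⁻¹ := by
    rw [hc]
    simp only [mul_inv_rev, D.x_inv, hei]
    calc D.x * (D.x * e * D.x * e) * D.x = (D.x * D.x) * e * D.x * e * D.x := by group
      _ = e * (D.x * (e * D.x)) := by rw [D.x_sq]; group
  have hcw : Commute c D.w := by
    have := D.commute_conj D.x hew
    rw [D.x_inv] at this
    exact this.mul_left hew
  have hpow : ∀ n : ℕ, c ^ n * c ^ n = 1 → c ^ n = 1 ∨ c ^ n = D.z := by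
    intro n hn
    have h2 : D.x * c ^ n * D.x = c ^ n := by
      have h := conj_pow (i := n) (a := D.x) (b := c)
      rw [D.x_inv, hxcx] at h
      rw [← h, inv_pow]
      exact inv_eq_of_mul_eq_one_right hn
    refine D.hY _ (hcw.pow_left n) ?_ hn
    calc c ^ n * D.x = D.x * c ^ n * D.x * D.x := by rw [h2]
      _ = D.x * c ^ n * (D.x * D.x) := by group
      _ = D.x * c ^ n := by rw [D.x_sq, mul_one]
  have hcc : c * c ≠ 1 := by
    intro hcc
    rcases hpow 1 (by rwa [pow_one]) with h | h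
    · rw [pow_one] at h
      have h3 : Commute e D.x := by
        have h4 : D.x * e * D.x = e := by
          have h5 : D.x * e * D.x * e = 1 := by rw [← hc]; exact h
          have := eq_inv_of_mul_eq_one_left h5
          rwa [hei] at this
        show e * D.x = D.x * e
        calc e * D.x = D.x * e * D.x * D.x := by rw [h4]
          _ = D.x * e * (D.x * D.x) := by group
          _ = D.x * e := by rw [D.x_sq, mul_one]
      rcases D.hY e hew h3 he with h5 | h5
      · exact h1 h5
      · exact hz h5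
    · rw [pow_one] at h
      have h4 : D.x * e * D.x = D.z * e := by
        have h5 : D.x * e * D.x * e = D.z := by rw [← hc]; exact h
        calc D.x * e * D.x = D.x * e * D.x * (e * e) := by rw [he, mul_one]
          _ = D.x * e * D.x * e * e := by group
          _ = D.z * e := by rw [h5]
      have h6 : D.x * (e * D.w) * D.x = e * D.w := by
        calc D.x * (e * D.w) * D.x
            = (D.x * e * D.x) * (D.x * D.x)⁻¹ * (D.x * D.w * D.x) := by group
          _ = D.z * e * (D.w * D.z) := by rw [h4, EData.xwx, D.x_sq]; group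
          _ = e * D.z * (D.w * D.z) := by rw [← D.z_comm e]
          _ = e * (D.w * D.z * D.z) := by
              rw [mul_assoc e, ← mul_assoc D.z D.w, ← D.z_comm D.w]
          _ = e * D.w := by rw [mul_assoc D.w, D.z_sq, mul_one]
      have h7 : e * D.w * D.x = D.x * (e * D.w) := by
        calc e * D.w * D.x = D.x * (e * D.w) * D.x * D.x := by rw [h6]
          _ = D.x * (e * D.w) * (D.x * D.x) := by group
          _ = D.x * (e * D.w) := by rw [D.x_sq, mul_one]
      have h8 : e * D.w * (e * D.w) = 1 := by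
        calc e * D.w * (e * D.w) = e * (D.w * e) * D.w := by group
          _ = e * (e * D.w) * D.w := by rw [hew.eq]
          _ = (e * e) * (D.w * D.w) := by group
          _ = 1 := by rw [he, D.w_sq, mul_one]
      rcases D.hY _ (hew.mul_left (Commute.refl _)) h7 h8 with h9 | h9
      · apply hw
        calc e = e * D.w * D.w⁻¹ := by group
          _ = D.w := by rw [h9, one_mul, D.w_inv]
      · apply hwz
        calc e = e * D.w * D.w⁻¹ := by group
          _ = D.z * D.w := by rw [h9, D.w_inv]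
          _ = D.w * D.z := (D.z_comm _).symm
  obtain ⟨k, hk⟩ := exists_pow_sq hP hpow hcc
  exact ⟨⟨e, c, k, he, hew, hc, hk⟩, rfl⟩

end Cfsg.Agent.Classification.NonConnStep
end

-- part: Classification/NonConnSetup
section
/-!
# Disconnected 2-groups of 2-rank at least 3: existence of the data
-/

set_option autoImplicit false

namespace Cfsg.Agent.Classification.NonConnSetup

open Subgroup Cfsg.Agent.Classification.NonConnBase

variable {P : Type*} [Group P]

theorem ncard_pair_le {α : Type*} (a b : α) : Set.ncard ({a, b} : Set α) ≤ 2 := by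
  have h := Set.ncard_insert_le a ({b} : Set α)
  rw [Set.ncard_singleton] at h
  exact h

/-- the adjacency relation -/
def Rel (A B : Subgroup P) : Prop := IsKleinFour A ∧ IsKleinFour B ∧ ∀ a ∈ A, ∀ b ∈ B, a * b = b * a

theorem rel_symm {A B : Subgroup P} (h : Rel A B) : Rel B A :=
  ⟨h.2.1, h.1, fun b hb a ha => (h.2.2 a ha b hb).symm⟩

theorem reflTransGen_symm {A B : Subgroup P} (h : Relation.ReflTransGen Rel A B) :
    Relation.ReflTransGen Rel B A := by
  induction h with
  | refl => exact Relation.ReflTransGen.refl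
  | tail _ h ih => exact Relation.ReflTransGen.head (rel_symm h) ih

/-- `z` central involution, `w` a further involution with two conjugates `w, wz` -/
structure Pre (z w : P) : Prop where
  z_ne : z ≠ 1
  z_sq : z * z = 1
  z_comm : ∀ g : P, g * z = z * g
  w_ne : w ≠ 1
  w_ne_z : w ≠ z
  w_sq : w * w = 1
  w_conj : ∀ g : P, g * w * g⁻¹ = w ∨ g * w * g⁻¹ = w * z

namespace Pre

variable {z w : P} (h : Pre z w)

include h

theorem mul_w_of_not {g : P} (hg : g * w ≠ w * g) : g * w = w * z * g := by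
  rcases h.w_conj g with h1 | h1
  · exact absurd (mul_inv_eq_iff_eq_mul.1 h1) hg
  · exact mul_inv_eq_iff_eq_mul.1 h1

theorem mul_comm_of_not {g k : P} (hg : g * w ≠ w * g) (hk : k * w ≠ w * k) :
    (g * k) * w = w * (g * k) := by
  have h1 := h.mul_w_of_not hg
  have h2 := h.mul_w_of_not hk
  calc g * k * w = g * (k * w) := by rw [mul_assoc]
    _ = g * w * (z * k) := by rw [h2]; simp only [mul_assoc]
    _ = w * z * g * (z * k) := by rw [h1]
    _ = w * z * (g * z) * k := by simp only [mul_assoc]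
    _ = w * (z * z) * g * k := by rw [h.z_comm g]; simp only [mul_assoc]
    _ = w * (g * k) := by rw [h.z_sq, mul_one, mul_assoc]

/-- the four-group `W` -/
theorem exists_W : ∃ W : Subgroup P, IsKleinFour W ∧ ∀ v, v ∈ W ↔ (v = 1 ∨ v = z ∨ v = w ∨
    v = z * w) :=
  S0502.exists_klein (by rw [pow_two, h.z_sq]) (by rw [pow_two, h.w_sq]) h.z_ne h.w_ne
    h.w_ne_z.symm (h.z_comm w).symm

/-- if no involution outside `T` is bad, `P` is four-connected -/
theorem connected (hgood : ∀ x : P, x * x = 1 → x * w ≠ w * x →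
    ∃ t, t * w = w * t ∧ t * x = x * t ∧ t * t = 1 ∧ t ≠ 1 ∧ t ≠ z) : Cfsg.IsFourConnected P := by
  obtain ⟨W, hW, hWm⟩ := h.exists_W
  -- elements commuting with `w` commute with `W`
  have hcW : ∀ t, t * w = w * t → ∀ v ∈ W, t * v = v * t := by
    intro t ht v hv
    rcases (hWm v).1 hv with rfl | rfl | rfl | rfl
    · simp
    · exact h.z_comm t
    · exact ht
    · rw [← mul_assoc, h.z_comm t, mul_assoc, ht, mul_assoc]
  -- the four-group `⟨t, z⟩` for an involution `t` of `T` other than `z`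
  have hX : ∀ t, t * w = w * t → t * t = 1 → t ≠ 1 → t ≠ z → ∃ X : Subgroup P, IsKleinFour X ∧
      Rel X W ∧ ∀ v ∈ X, v = 1 ∨ v = t ∨ v = z ∨ v = t * z := by
    intro t htw ht2 ht1 htz
    obtain ⟨X, hX, hXm⟩ := S0502.exists_klein (a := t) (b := z) (by rw [pow_two, ht2])
      (by rw [pow_two, h.z_sq]) ht1 h.z_ne htz (h.z_comm t)
    refine ⟨X, hX, ⟨hX, hW, ?_⟩, fun v hv => (hXm v).1 hv⟩
    intro a ha b hb
    have hzb : z * b = b * z := (h.z_comm b).symm
    rcases (hXm a).1 ha with rfl | rfl | rfl | rfl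
    · simp
    · exact hcW a htw b hb
    · exact hzb
    · rw [mul_assoc, hzb, ← mul_assoc, hcW t htw b hb, mul_assoc]
  have key : ∀ A : Subgroup P, IsKleinFour A → Relation.ReflTransGen Rel A W := by
    intro A hA
    by_cases hAT : ∀ a ∈ A, a * w = w * a
    · exact Relation.ReflTransGen.single ⟨hA, hW, fun a ha b hb => hcW a (hAT a ha) b hb⟩
    push Not at hAT
    obtain ⟨a, haA, haw⟩ := hAT
    have ha2 : a * a = 1 := by rw [← pow_two]; exact S0502.sq_of_klein hA haA
    have hcomm : ∀ u ∈ A, ∀ v ∈ A, u * v = v * u := fun u hu v hv => S0502.comm_of_klein hA hu hv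
    -- an element of `A ∩ T`
    have hex : ∃ c ∈ A, c ≠ 1 ∧ c * w = w * c := by
      have h3 : ∃ c ∈ A, c ≠ 1 ∧ c ≠ a := by
        by_contra hcon
        push Not at hcon
        have h4 : Nat.card A ≤ 2 := by
          have hsub : (A : Set P) ⊆ {1, a} := by
            intro c hc
            by_cases h5 : c = 1
            · left; exact h5
            · right; exact hcon c hc h5
          calc Nat.card A = Set.ncard (A : Set P) := rfl
            _ ≤ Set.ncard ({1, a} : Set P) := Set.ncard_le_ncard hsub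
            _ ≤ 2 := ncard_pair_le _ _
        rw [hA.card_four] at h4
        omega
      obtain ⟨c, hc, hc1, hca⟩ := h3
      by_cases hcw : c * w = w * c
      · exact ⟨c, hc, hc1, hcw⟩
      · refine ⟨a * c, A.mul_mem haA hc, ?_, h.mul_comm_of_not haw hcw⟩
        intro h4
        apply hca
        calc c = a * a * c := by rw [ha2, one_mul]
          _ = a * (a * c) := by rw [mul_assoc]
          _ = a := by rw [h4, mul_one]
    -- it suffices to find an involution `t ≠ z` of `T` commuting with `A`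
    have hsuff : ∀ t, t * w = w * t → t * t = 1 → t ≠ 1 → t ≠ z → (∀ u ∈ A, u * t = t * u) →
        Relation.ReflTransGen Rel A W := by
      intro t htw ht2 ht1 htz htA
      obtain ⟨X, hXk, hXW, hXm⟩ := hX t htw ht2 ht1 htz
      refine Relation.ReflTransGen.tail (Relation.ReflTransGen.single ⟨hA, hXk, ?_⟩) hXW
      intro u hu v hv
      rcases hXm v hv with rfl | rfl | rfl | rfl
      · simp
      · exact htA u hu
      · exact h.z_comm u
      · rw [← mul_assoc, htA u hu, mul_assoc, h.z_comm u, mul_assoc]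
    obtain ⟨c, hcA, hc1, hcw⟩ := hex
    by_cases hcz : c = z
    · subst hcz
      obtain ⟨t, htw, hta, ht2, ht1, htz⟩ := hgood a ha2 haw
      refine hsuff t htw ht2 ht1 htz ?_
      -- `A = {1, a, c, a c}`
      intro u hu
      have h4 : u = 1 ∨ u = a ∨ u = c ∨ u = a * c := by
        by_contra hcon
        push Not at hcon
        have hac : a ≠ c := by rintro rfl; exact haw hcw
        have ha1 : a ≠ 1 := by rintro rfl; exact haw (by simp)
        have hac1 : a * c ≠ 1 := by
          intro h5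
          apply hac
          calc a = a * (c * c) := by rw [h.z_sq, mul_one]
            _ = (a * c) * c := by rw [mul_assoc]
            _ = c := by rw [h5, one_mul]
        have hsub : ({1, a, c, a * c, u} : Set P) ⊆ (A : Set P) := by
          intro y hy
          simp only [Set.mem_insert_iff, Set.mem_singleton_iff] at hy
          rcases hy with rfl | rfl | rfl | rfl | rfl
          · exact A.one_mem
          · exact haA
          · exact hcA
          · exact A.mul_mem haA hcA
          · exact hu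
        have hfin : Finite A := Nat.finite_of_card_ne_zero (by rw [hA.card_four]; norm_num)
        have hfin' : (A : Set P).Finite := Set.toFinite _
        have h5 := Set.ncard_le_ncard hsub hfin'
        have h6 : Set.ncard (A : Set P) = 4 := hA.card_four
        have h7 : Set.ncard ({1, a, c, a * c, u} : Set P) = 5 := by
          rw [Set.ncard_insert_of_notMem, Set.ncard_insert_of_notMem, Set.ncard_insert_of_notMem,
            Set.ncard_pair]
          · exact fun h8 => hcon.2.2.2 h8.symm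
          · simp only [Set.mem_insert_iff, Set.mem_singleton_iff, not_or]
            refine ⟨fun h8 => ha1 ?_, fun h8 => hcon.2.2.1 h8.symm⟩
            exact (right_eq_mul.1 h8)
          · simp only [Set.mem_insert_iff, Set.mem_singleton_iff, not_or]
            exact ⟨hac, fun h8 => hc1 (left_eq_mul.1 h8), fun h8 => hcon.2.1 h8.symm⟩
          · simp only [Set.mem_insert_iff, Set.mem_singleton_iff, not_or]
            exact ⟨ha1.symm, hc1.symm, hac1.symm, fun h8 => hcon.1 h8.symm⟩
        omega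
      rcases h4 with rfl | rfl | rfl | rfl
      · simp
      · exact hta.symm
      · exact (h.z_comm t).symm
      · rw [mul_assoc, ← h.z_comm t, ← mul_assoc, ← hta, mul_assoc]
    · refine hsuff c hcw ?_ hc1 hcz (fun u hu => hcomm u hu c hcA)
      rw [← pow_two]; exact S0502.sq_of_klein hA hcA
  intro U V hU hV
  exact (key U hU).trans (reflTransGen_symm (key V hV))

/-- an involution of `T` outside `W` -/
theorem exists_e [Finite P] (E : Subgroup P) (hE : Nat.card E = 8) (hE2 : ∀ e ∈ E, e ^ 2 = 1) :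
    ∃ e : P, e * e = 1 ∧ e * w = w * e ∧ e ≠ 1 ∧ e ≠ z ∧ e ≠ w ∧ e ≠ w * z := by
  by_contra hcon
  push Not at hcon
  have hcard : ∀ a b c d : P, (∀ e ∈ E, e = a ∨ e = b ∨ e = c ∨ e = d) → False := by
    intro a b c d hh
    have hsub : (E : Set P) ⊆ {a, b, c, d} := by
      intro e he
      simp only [Set.mem_insert_iff, Set.mem_singleton_iff]
      exact hh e he
    have h1 : Set.ncard (E : Set P) ≤ 4 := by
      refine (Set.ncard_le_ncard hsub).trans ?_
      refine (Set.ncard_insert_le _ _).trans ?_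
      have h2 := Set.ncard_insert_le b ({c, d} : Set P)
      have h3 := ncard_pair_le c d
      omega
    have h2 : Set.ncard (E : Set P) = 8 := hE
    omega
  have hall : ∀ e ∈ E, e * w = w * e → e = 1 ∨ e = z ∨ e = w ∨ e = w * z := by
    intro e he hew
    by_contra hc
    push Not at hc
    exact hc.2.2.2 (hcon e (by rw [← pow_two]; exact hE2 e he) hew hc.1 hc.2.1 hc.2.2.1)
  by_cases hT : ∀ e ∈ E, e * w = w * e
  · exact hcard 1 z w (w * z) (fun e he => hall e he (hT e he))
  push Not at hT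
  obtain ⟨a, haE, haw⟩ := hT
  have hEc : ∀ u ∈ E, ∀ v ∈ E, u * v = v * u := fun u hu v hv =>
    S0502.comm_of_sq (hE2 u hu) (hE2 v hv) (hE2 _ (E.mul_mem hu hv))
  have hw' : w ∉ E := fun hw => haw (hEc a haE w hw)
  have hwz' : w * z ∉ E := by
    intro hw
    apply haw
    have h1 := hEc a haE _ hw
    have h2 : a * w * z = w * a * z := by
      rw [mul_assoc, h1, mul_assoc, ← h.z_comm a, mul_assoc]
    exact mul_right_cancel h2
  have hall2 : ∀ e ∈ E, e * w = w * e → e = 1 ∨ e = z := by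
    intro e he hew
    rcases hall e he hew with h1 | h1 | h1 | h1
    · exact Or.inl h1
    · exact Or.inr h1
    · exact absurd (h1 ▸ he) hw'
    · exact absurd (h1 ▸ he) hwz'
  apply hcard 1 z a (a * z)
  intro e he
  by_cases hew : e * w = w * e
  · rcases hall2 e he hew with h1 | h1
    · exact Or.inl h1
    · exact Or.inr (Or.inl h1)
  · have ha2 : a * a = 1 := by rw [← pow_two]; exact hE2 a haE
    have h1 : e = a * (a * e) := by rw [← mul_assoc, ha2, one_mul]
    rcases hall2 (a * e) (E.mul_mem haE he) (h.mul_comm_of_not haw hew) with h2 | h2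
    · right; right; left
      rw [h1, h2, mul_one]
    · right; right; right
      rw [h1, h2]

/-- the element `f` -/
theorem exists_f [Finite P] (hP : IsPGroup 2 P) {x e : P} (hx2 : x * x = 1)
    (hxw : x * w * x⁻¹ = w * z)
    (hY : ∀ t : P, t * w = w * t → t * x = x * t → t * t = 1 → t = 1 ∨ t = z)
    (he2 : e * e = 1) (hew : e * w = w * e) (he1 : e ≠ 1) (hez : e ≠ z) (heww : e ≠ w)
    (hewz : e ≠ w * z) : ∃ f : P, f * w = w * f ∧ f * x = x * f ∧ f * f = z := by
  have hxi : x⁻¹ = x := inv_eq_of_mul_eq_one_left hx2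
  have hei : e⁻¹ = e := inv_eq_of_mul_eq_one_left he2
  have hzi : z⁻¹ = z := inv_eq_of_mul_eq_one_left h.z_sq
  -- conjugation by `x` preserves `T`
  have hTx : ∀ t, t * w = w * t → (x * t * x⁻¹) * w = w * (x * t * x⁻¹) := by
    intro t ht
    have h1 : x * t * x⁻¹ * (w * z) = w * z * (x * t * x⁻¹) := by
      rw [← hxw]
      calc x * t * x⁻¹ * (x * w * x⁻¹) = x * (t * w) * x⁻¹ := by group
        _ = x * (w * t) * x⁻¹ := by rw [ht]
        _ = x * w * x⁻¹ * (x * t * x⁻¹) := by group
    have h2 : x * t * x⁻¹ * w * z = w * (x * t * x⁻¹) * z := by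
      rw [mul_assoc _ w z, h1, mul_assoc w z, ← h.z_comm, mul_assoc w]
    exact mul_right_cancel h2
  set c := x * e * x⁻¹ * e⁻¹ with hc
  have hcw : c * w = w * c := by
    have h1 := hTx e hew
    have h2 : e⁻¹ * w = w * e⁻¹ := by rw [hei, hew]
    rw [hc, mul_assoc, h2, ← mul_assoc, h1, mul_assoc]
  have hcx : x * c * x⁻¹ = c⁻¹ := by
    rw [hc]
    simp only [mul_inv_rev, hxi, hei]
    calc x * (x * e * x * e) * x = (x * x) * e * x * e * x := by group
      _ = e * (x * (e * x)) := by rw [hx2]; group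
  have hcnw : ∀ n : ℕ, c ^ n * w = w * c ^ n := fun n => (Commute.pow_left (show Commute c w from hcw) n).eq
  have hcnx : ∀ n : ℕ, x * c ^ n * x⁻¹ = (c ^ n)⁻¹ := by
    intro n
    rw [← conj_pow, hcx, inv_pow]
  have hpow : ∀ n : ℕ, c ^ n * c ^ n = 1 → c ^ n = 1 ∨ c ^ n = z := by
    intro n hn
    have h1 : (c ^ n)⁻¹ = c ^ n := inv_eq_of_mul_eq_one_left hn
    have h2 := hcnx n
    rw [h1] at h2
    exact hY _ (hcnw n) (mul_inv_eq_iff_eq_mul.1 h2).symm hn
  by_cases hcc : c * c = 1
  · exfalso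
    have h1 := hpow 1 (by rw [pow_one]; exact hcc)
    rw [pow_one] at h1
    rcases h1 with h1 | h1
    · -- `x` commutes with `e`
      have h2 : x * e * x⁻¹ = e := mul_inv_eq_one.1 h1
      rcases hY e hew (mul_inv_eq_iff_eq_mul.1 h2).symm he2 with h3 | h3
      · exact he1 h3
      · exact hez h3
    · have h2 : x * e * x⁻¹ = z * e := mul_inv_eq_iff_eq_mul.1 h1
      have h3 : x * (e * w) * x⁻¹ = e * w := by
        calc x * (e * w) * x⁻¹ = (x * e * x⁻¹) * (x * w * x⁻¹) := by group
          _ = z * e * (w * z) := by rw [h2, hxw]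
          _ = z * (e * w * z) := by group
          _ = (z * z) * (e * w) := by rw [h.z_comm]; group
          _ = e * w := by rw [h.z_sq, one_mul]
      have h4 : e * w * w = w * (e * w) := by rw [hew, mul_assoc, hew]
      have h5 : (e * w) * (e * w) = 1 := by
        calc e * w * (e * w) = e * (w * e) * w := by group
          _ = (e * e) * (w * w) := by rw [← hew]; group
          _ = 1 := by rw [he2, h.w_sq, one_mul]
      have h6 : ∀ u, e * w = u → e = u * w := by
        intro u hu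
        rw [← hu, mul_assoc, h.w_sq, mul_one]
      rcases hY (e * w) h4 (mul_inv_eq_iff_eq_mul.1 h3).symm h5 with h7 | h7
      · apply heww; rw [h6 _ h7, one_mul]
      · apply hewz; rw [h6 _ h7, h.z_comm]
  · obtain ⟨k, hk⟩ := Cfsg.Agent.Classification.NonConnStep.exists_pow_sq hP hpow hcc
    refine ⟨w * c ^ k, ?_, ?_, ?_⟩
    · rw [mul_assoc, hcnw, ← mul_assoc]
    · have h1 : x * (w * c ^ k) * x⁻¹ = w * c ^ k := by
        calc x * (w * c ^ k) * x⁻¹ = (x * w * x⁻¹) * (x * c ^ k * x⁻¹) := by group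
          _ = w * (z * (c ^ k)⁻¹) := by rw [hxw, hcnx, mul_assoc]
          _ = w * c ^ k := by rw [← hk]; group
      exact (mul_inv_eq_iff_eq_mul.1 h1).symm
    · calc w * c ^ k * (w * c ^ k) = w * (c ^ k * w) * c ^ k := by group
        _ = (w * w) * (c ^ k * c ^ k) := by rw [hcnw]; group
        _ = z := by rw [h.w_sq, hk, one_mul]

end Pre

/-- **Existence of the data.** -/
theorem exists_data [Finite P] (hP : IsPGroup 2 P)
    (h3 : ∃ E : Subgroup P, Nat.card E = 8 ∧ ∀ e ∈ E, e ^ 2 = 1) (hd : ¬ Cfsg.IsFourConnected P) :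
    ∃ D : Data P, ∃ e : P, e * e = 1 ∧ Commute e D.w ∧ e ≠ 1 ∧ e ≠ D.z ∧ e ≠ D.w ∧
      e ≠ D.w * D.z := by
  obtain ⟨E, hE, hE2⟩ := h3
  obtain ⟨U, hUn, hU, hU2⟩ := Cfsg.Agent.Involutions.NormalFour.exists_normal_four hP E hE hE2
  obtain ⟨z, w, hzU, hwU, hzc, hz1, hw1, hwz, hall, hconj⟩ :=
    Cfsg.Agent.Involutions.RankThree.four_desc hP U hU hU2
  have hzc' : ∀ g : P, g * z = z * g := fun g => (mem_center_iff.1 hzc g)
  have hpre : Pre z w :=
    { z_ne := hz1
      z_sq := by rw [← pow_two]; exact hU2 z hzU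
      z_comm := hzc'
      w_ne := hw1
      w_ne_z := hwz
      w_sq := by rw [← pow_two]; exact hU2 w hwU
      w_conj := by
        intro g
        rcases hconj g with h1 | h1
        · exact Or.inl h1
        · right; rw [h1, hzc'] }
  obtain ⟨e, he2, hew, he1, hez, heww, hewz⟩ := hpre.exists_e E hE hE2
  have hx : ∃ x : P, x * x = 1 ∧ x * w ≠ w * x ∧
      ∀ t : P, t * w = w * t → t * x = x * t → t * t = 1 → t = 1 ∨ t = z := by
    by_contra hcon
    push Not at hcon
    exact hd (hpre.connected fun x hx2 hxw => by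
      obtain ⟨t, h1, h2, h3, h4, h5⟩ := hcon x hx2 hxw
      exact ⟨t, h1, h2, h3, h4, h5⟩)
  obtain ⟨x, hx2, hxw, hY⟩ := hx
  have hxw' : x * w * x⁻¹ = w * z := mul_inv_eq_iff_eq_mul.2 (hpre.mul_w_of_not hxw)
  let D : Data P :=
    { z := z
      w := w
      x := x
      z_ne := hz1
      z_sq := hpre.z_sq
      z_comm := hzc'
      w_ne := hw1
      w_ne_z := hwz
      w_sq := hpre.w_sq
      w_conj := hpre.w_conj
      x_sq := hx2
      x_w := hxw'
      hY := hY
      hf := hpre.exists_f hP hx2 hxw' hY he2 hew he1 hez heww hewz }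
  exact ⟨D, e, he2, hew, he1, hez, heww, hewz⟩

/-- 2-rank at least 3 passes to a Sylow 2-subgroup -/
theorem exists_eight {G : Type*} [Group G] [Finite G] (h3 : ¬ Cfsg.PRankLE 2 2 G) (S : Sylow 2 G) :
    ∃ E : Subgroup ↥(S : Subgroup G), Nat.card E = 8 ∧ ∀ e ∈ E, e ^ 2 = 1 := by
  unfold Cfsg.PRankLE at h3
  push Not at h3
  obtain ⟨A, hAc, hA2, hA4⟩ := h3
  have hAp : IsPGroup 2 A := by
    intro a
    exact ⟨1, by rw [pow_one]; exact Subtype.ext (hA2 a a.2)⟩
  obtain ⟨k, hk⟩ := IsPGroup.iff_card.1 hAp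
  have hk3 : 3 ≤ k := by
    by_contra h4
    rw [hk] at hA4
    interval_cases k <;> omega
  have hdvd : 2 ^ 3 ∣ Nat.card A := by rw [hk]; exact pow_dvd_pow 2 hk3
  obtain ⟨B, hB⟩ := Sylow.exists_subgroup_card_pow_prime 2 hdvd
  -- conjugate `A` into `S`
  obtain ⟨Q, hQ⟩ := hAp.exists_le_sylow
  obtain ⟨g, hg⟩ := MulAction.exists_smul_eq G Q S
  have hconj : ∀ a ∈ A, g * a * g⁻¹ ∈ (S : Subgroup G) := by
    intro a ha
    rw [← hg]
    rw [Sylow.coe_subgroup_smul]
    exact ⟨a, hQ ha, rfl⟩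
  let f : B →* ↥(S : Subgroup G) :=
    { toFun := fun b => ⟨g * ((b : A) : G) * g⁻¹, hconj _ (b : A).2⟩
      map_one' := Subtype.ext (by simp)
      map_mul' := fun a b => Subtype.ext (by simp) }
  have hf : Function.Injective f := by
    intro a b hab
    have h1 : g * ((a : A) : G) * g⁻¹ = g * ((b : A) : G) * g⁻¹ := congrArg Subtype.val hab
    exact Subtype.ext (Subtype.ext (mul_left_cancel (mul_right_cancel h1)))
  refine ⟨f.range, ?_, ?_⟩
  · rw [Nat.card_congr (MonoidHom.ofInjective hf).toEquiv.symm, hB]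
    norm_num
  · rintro _ ⟨b, rfl⟩
    rw [← map_pow]
    have : b ^ 2 = 1 := Subtype.ext (Subtype.ext (hA2 _ (b : A).2))
    rw [this, map_one]

/-- **N1.** The data on a disconnected Sylow 2-subgroup of a group of 2-rank at least 3. -/
theorem main {G : Type*} [Group G] [Finite G] (h3 : ¬ Cfsg.PRankLE 2 2 G) (S : Sylow 2 G)
    (hS : ¬ Cfsg.IsFourConnected (S : Subgroup G)) :
    ∃ D : Data ↥(S : Subgroup G), ∃ e : ↥(S : Subgroup G), e * e = 1 ∧ Commute e D.w ∧ e ≠ 1 ∧
      e ≠ D.z ∧ e ≠ D.w ∧ e ≠ D.w * D.z :=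
  exists_data S.isPGroup' (exists_eight h3 S) hS

end Cfsg.Agent.Classification.NonConnSetup
end
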