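import Mathlib
import Cfsg.Prelude.Def_Blocks
import Cfsg.Agent.Classification.BGBasic
import Cfsg.Agent.Classification.BGOrder
import Cfsg.Agent.Classification.BGIsometry
import Cfsg.Agent.Classification.BGValues
import Cfsg.Agent.Classification.BGBlockB0
import Cfsg.Agent.Blocks.ExistsModular
import Cfsg.Agent.Classification.BGSplit
set_option linter.all false

/-!
# The Bender–Glauberman characters: final assembly
-/

set_option autoImplicit false
set_option linter.unusedSectionVars false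

open Cfsg
open scoped ComplexConjugate

namespace Cfsg.Agent.Classification.BGBlock

open Cfsg.Agent.Classification.BGDefs Cfsg.Agent.Classification.BGOrder
  Cfsg.Agent.Classification.BGBasic Cfsg.Agent.Classification.BGValues
  Cfsg.Agent.Classification.BGBlockB0 Cfsg.Agent.Classification.BGSplit DihedralGroup

universe u

variable {G : Type u} [Group G] [Fintype G] {t : G} {n : ℕ} [NeZero n]
  {π : (Subgroup.centralizer ({t} : Set G)) →* DihedralGroup n}

/-- Final assembly: values and degrees from the decomposition. -/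
theorem assemble (h : BGHyp t n π) (hn : 4 ≤ n) (X₁ X₂ X₃ : G → ℂ) (T : ZMod n → G → ℂ)
    (s₁ : SignedIrr X₁) (s₂ : SignedIrr X₂) (s₃ : SignedIrr X₃)
    (sT : ∀ i, i + i ≠ 0 → SignedIrr (T i))
    (hT : ∀ i, i + i ≠ 0 → indFun (Subgroup.centralizer ({t} : Set G)) (fun x => bth i (π x)) =
      1 + X₁ - T i)
    (hmu : indFun (Subgroup.centralizer ({t} : Set G)) (fun x => bmu (π x)) = 1 + X₁ - X₂ - X₃)
    (ho : Ortho n X₁ X₂ X₃ T) :
    ∃ f : ℤ, X₁ 1 = f ∧ f ≠ 1 ∧ (2 * n : ℤ) ∣ f - 1 ∧ (∀ i, i + i ≠ 0 → T i 1 = 1 + f) ∧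
      X₂ 1 + X₃ 1 = 1 + f ∧
      (∀ (x : Subgroup.centralizer ({t} : Set G)) (j : ZMod n), j ≠ 0 → π x = r j →
        X₁ x = 1 ∧ X₂ x = mu (r j) ∧ X₃ x = mu (r j) ∧ ∀ i, i + i ≠ 0 → T i x = theta i (r j)) := by
  classical
  have h2 := two_dvd h
  have ht := h.orderOf_t
  obtain ⟨M, hM⟩ := Blocks.ExistsModular.exists_isPModular Nat.prime_two
  have hone : SignedIrr (1 : G → ℂ) := signedIrr_one
  have hoddT : ∀ i, i + i ≠ 0 → ∀ g : G, Odd (orderOf g) → 1 + X₁ g - T i g = 0 := by
    intro i hi g hg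
    have h1 := congrFun (hT i hi) g
    rw [BGIsometry.indFun_eq_zero_of_odd ht (BGIsometry.supp_bth h i) hg] at h1
    simpa using h1.symm
  have hoddX : ∀ g : G, Odd (orderOf g) → 1 + X₁ g - X₂ g - X₃ g = 0 := by
    intro g hg
    have h1 := congrFun hmu g
    rw [BGIsometry.indFun_eq_zero_of_odd ht (BGIsometry.supp_bmu h) hg] at h1
    simpa using h1.symm
  have hX₁ne : X₁ ≠ -1 := ne_neg_of_inner_zero hone ho.one₁
  -- an index `i` with `i + i ≠ 0`
  have hi0 : (1 : ZMod n) + 1 ≠ 0 := by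
    intro h0
    have h1 : ((2 : ℕ) : ZMod n) = 0 := by rw [← h0]; norm_num
    rw [ZMod.natCast_eq_zero_iff] at h1
    have := Nat.le_of_dvd (by norm_num) h1
    omega
  have hB1 := inB_three h hn hM s₁ (sT 1 hi0) hX₁ne (ne_of_inner_zero hone (ho.one_T 1 hi0))
    (hoddT 1 hi0)
  have hBT : ∀ i, i + i ≠ 0 → InB (principalBlock M G) (T i) := fun i hi =>
    (inB_three h hn hM s₁ (sT i hi) hX₁ne (ne_of_inner_zero hone (ho.one_T i hi)) (hoddT i hi)).2
  have hBX := inB_four h hn hM hB1.1 hX₁ne s₂ s₃ hoddX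
  -- the decomposition of all the functions `bth k`, `k ≠ 0`
  have hneg : ∀ i, i + i ≠ 0 → T (-i) = T i := by
    intro i hi
    have hi' : -i + -i ≠ 0 := by
      intro h0
      apply hi
      rw [← neg_add, neg_eq_zero] at h0
      exact h0
    have h1 := hT (-i) hi'
    rw [BGFourier.bth_neg, hT i hi] at h1
    have h3 := sub_right_injective h1
    exact h3.symm
  have hhalf : ∀ k : ZMod n, k ≠ 0 → ¬ k + k ≠ 0 → k = ((n / 2 : ℕ) : ZMod n) := by
    intro k hk hkk
    rcases eq_zero_or_half (not_not.1 hkk) with h0 | h0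
    · exact absurd h0 hk
    · exact h0
  have hdec : ∀ k : ZMod n, k ≠ 0 → ∀ X : G → ℂ,
      classInner (indFun (Subgroup.centralizer ({t} : Set G)) (fun x => bth k (π x))) X =
        classInner 1 X + classInner X₁ X -
          if k + k ≠ 0 then classInner (T k) X else classInner X₂ X + classInner X₃ X := by
    intro k hk X
    by_cases hkk : k + k ≠ 0
    · rw [if_pos hkk, hT k hkk, Characters.Core.classInner_sub_left,
        Characters.Core.classInner_add_left]
    · rw [if_neg hkk, hhalf k hk hkk, BGFourier.bth_half h2, hmu,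
        Characters.Core.classInner_sub_left, Characters.Core.classInner_sub_left,
        Characters.Core.classInner_add_left]
      ring
  have hhh : ¬ (((n / 2 : ℕ) : ZMod n) + ((n / 2 : ℕ) : ZMod n) ≠ 0) := by
    rw [half_add_half h2]; simp
  -- values
  have v₁ := values_one h M hM X₁ hB1.1 (by
    intro k hk
    rw [hdec k hk, inner_symm_zero ho.one₁, signed_self s₁]
    split_ifs with hkk
    · rw [ho.T_x₁ k hkk]; ring
    · rw [inner_symm_zero ho.x₁₂, inner_symm_zero ho.x₁₃]; ring)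
  have v₂ := values_mu h M hM X₂ hBX.1 (by
    intro k hk
    rw [hdec k hk, inner_symm_zero ho.one₂, ho.x₁₂]
    by_cases hkk : k + k ≠ 0
    · rw [if_pos hkk, ho.T_x₂ k hkk, if_neg]
      · ring
      · rintro rfl; exact hhh hkk
    · rw [if_neg hkk, if_pos (hhalf k hk hkk), signed_self s₂, inner_symm_zero ho.x₂₃]
      ring)
  have v₃ := values_mu h M hM X₃ hBX.2 (by
    intro k hk
    rw [hdec k hk, inner_symm_zero ho.one₃, ho.x₁₃]
    by_cases hkk : k + k ≠ 0
    · rw [if_pos hkk, ho.T_x₃ k hkk, if_neg]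
      · ring
      · rintro rfl; exact hhh hkk
    · rw [if_neg hkk, if_pos (hhalf k hk hkk), signed_self s₃, ho.x₂₃]
      ring)
  have vT : ∀ i, i + i ≠ 0 → ∀ (x : Subgroup.centralizer ({t} : Set G)) (j : ZMod n), j ≠ 0 →
      π x = r j → T i x = theta i (r j) := by
    intro i hi
    have hi1 : i ≠ 0 := by rintro rfl; exact hi (add_zero 0)
    refine values_theta h M hM (T i) (hBT i hi) i hi1 ?_
    intro k hk
    rw [hdec k hk, inner_symm_zero (ho.one_T i hi), inner_symm_zero (ho.T_x₁ i hi)]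
    by_cases hkk : k + k ≠ 0
    · rw [if_pos hkk]
      by_cases e1 : k = i
      · subst e1
        rw [if_pos rfl, if_neg, signed_self (sT k hkk)]
        · ring
        · intro e2
          apply hi
          nth_rewrite 1 [e2]
          exact neg_add_cancel k
      · by_cases e2 : k = -i
        · rw [if_neg e1, if_pos e2, e2, hneg i hi, signed_self (sT i hi)]
          ring
        · rw [if_neg e1, if_neg e2, ho.T_T k i hkk hi e1 e2]
          ring
    · rw [if_neg hkk, inner_symm_zero (ho.T_x₂ i hi), inner_symm_zero (ho.T_x₃ i hi), if_neg,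
        if_neg]
      · ring
      · rintro rfl
        apply hkk
        intro h0
        apply hi
        rw [← neg_add, neg_eq_zero] at h0
        exact h0
      · rintro rfl; exact hkk hi
  -- degrees
  obtain ⟨f, hf0, hf, -, -⟩ := signed_one X₁ s₁
  have hdT : ∀ i, i + i ≠ 0 → T i 1 = 1 + f := by
    intro i hi
    have h1 := hoddT i hi 1 (by simp)
    rw [← hf]
    linear_combination -h1
  have hdX : X₂ 1 + X₃ 1 = 1 + f := by
    have h1 := hoddX 1 (by simp)
    rw [← hf]
    linear_combination -h1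
  have hX₁t : X₁ t = 1 := v₁ (tt t) _ (half_ne_zero h2) (map_tt h)
  have hTt : (T 1 t) ^ 2 = 4 := by
    have h1 : T 1 t = theta 1 (r ((n / 2 : ℕ) : ZMod n)) :=
      vT 1 hi0 (tt t) _ (half_ne_zero h2) (map_tt h)
    rw [theta_r, one_mul] at h1
    have h3 : e n (-((n / 2 : ℕ) : ZMod n)) = -1 := by
      rw [BGIsometry.neg_half h2, e_half h2]
    rw [h1, h3, e_half h2]
    norm_num
  refine ⟨f, hf, ?_, two_n_dvd h X₁ s₁ v₁ f hf, hdT, hdX, fun x j hj hx =>
    ⟨v₁ x j hj hx, v₂ x j hj hx, v₃ x j hj hx, fun i hi => vT i hi x j hj hx⟩⟩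
  rintro rfl
  have hord := order_formula (h := h) (i := 1) hi0 s₁ (sT 1 hi0) (by
    rw [hT 1 hi0]; rfl) hf (hdT 1 hi0) hX₁t hTt
  have hk := kcount_pos h h2
  have : (0 : ℤ) < (kcount (two_dvd h) π 0 + kcount (two_dvd h) π 1 : ℤ) := by
    have := hk.1
    have h0 : (0 : ℤ) < kcount (two_dvd h) π 0 := by exact_mod_cast hk.1
    have h1 : (0 : ℤ) < kcount (two_dvd h) π 1 := by exact_mod_cast hk.2
    omega
  have h5 : (0 : ℤ) < 2 * (kcount (two_dvd h) π 0 + kcount (two_dvd h) π 1 : ℤ) ^ 2 * (1 * (1 + 1)) := by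
    positivity
  rw [← hord] at h5
  simp at h5

/-- **Bender–Glauberman characters**: the main theorem of (C3)–(C5). -/
theorem bg_characters (h : BGHyp t n π) (hn : 4 ≤ n) :
    ∃ (X₁ X₂ X₃ : G → ℂ) (T : ZMod n → G → ℂ) (f : ℤ),
      SignedIrr X₁ ∧ SignedIrr X₂ ∧ SignedIrr X₃ ∧ (∀ i, i + i ≠ 0 → SignedIrr (T i)) ∧
      (∀ i, i + i ≠ 0 →
        indFun (Subgroup.centralizer ({t} : Set G)) (fun x => bth i (π x)) = 1 + X₁ - T i) ∧
      indFun (Subgroup.centralizer ({t} : Set G)) (fun x => bmu (π x)) = 1 + X₁ - X₂ - X₃ ∧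
      Ortho n X₁ X₂ X₃ T ∧
      X₁ 1 = f ∧ f ≠ 1 ∧ (2 * n : ℤ) ∣ f - 1 ∧ (∀ i, i + i ≠ 0 → T i 1 = 1 + f) ∧
      X₂ 1 + X₃ 1 = 1 + f ∧
      (∀ (x : Subgroup.centralizer ({t} : Set G)) (j : ZMod n), j ≠ 0 → π x = r j →
        X₁ x = 1 ∧ X₂ x = mu (r j) ∧ X₃ x = mu (r j) ∧ ∀ i, i + i ≠ 0 → T i x = theta i (r j)) := by
  classical
  let _ : Fintype (DihedralGroup n) := Fintype.ofFinite _
  have h2 := two_dvd h
  have hcl : ∀ i : ZMod n, IsClassFunction (DihedralGroup n) (bth i) := fun i =>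
    BGIsometry.isClassFunction_of_generalized (BGIsometry.isGeneralized_bth i)
  have hclmu : IsClassFunction (DihedralGroup n) bmu :=
    BGIsometry.isClassFunction_of_generalized (BGIsometry.isGeneralized_bmu h2)
  have hne : ∀ i : ZMod n, i + i ≠ 0 → i ≠ 0 := fun i hi => BGIsometry.ne_zero_of_add hi
  obtain ⟨X₁, X₂, X₃, T, s₁, s₂, s₃, sT, hT, hmu, ho⟩ := split (G := G) hn
    (by obtain ⟨m, -, hm⟩ := h.pow; exact ⟨m, hm⟩)
    (fun i => indFun (Subgroup.centralizer ({t} : Set G)) (fun x => bth i (π x)))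
    (indFun (Subgroup.centralizer ({t} : Set G)) (fun x => bmu (π x)))
    (fun i _ => BGIsometry.isGeneralized_ind_comp (BGIsometry.isGeneralized_bth i))
    (BGIsometry.isGeneralized_ind_comp (BGIsometry.isGeneralized_bmu h2))
    (fun i => by simp only [BGFourier.bth_neg])
    (fun i hi => by
      rw [BGIsometry.classInner_ind_comp h (hcl i) (hcl i) (bth_one i) (bth_sr i) (bth_one i)
        (bth_sr i), BGIsometry.classInner_bth_self hi])
    (fun i j hi hj hij hij' => by
      rw [BGIsometry.classInner_ind_comp h (hcl i) (hcl j) (bth_one i) (bth_sr i) (bth_one j)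
        (bth_sr j), BGIsometry.classInner_bth_ne (hne i hi) (hne j hj) hij hij'])
    (fun i hi => by
      rw [BGIsometry.classInner_ind_comp h (hcl i) hclmu (bth_one i) (bth_sr i) bmu_one
        bmu_sr, BGIsometry.classInner_bth_bmu h2 hi])
    (by
      rw [BGIsometry.classInner_ind_comp h hclmu hclmu bmu_one bmu_sr bmu_one
        bmu_sr, BGIsometry.classInner_bmu_self h2])
    (fun i hi => by
      rw [BGIsometry.classInner_ind_comp_one h (bth_one i) (bth_sr i),
        BGIsometry.classInner_bth_one (hne i hi)])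
    (by
      rw [BGIsometry.classInner_ind_comp_one h bmu_one bmu_sr,
        BGIsometry.classInner_bmu_one h2])
    (fun i _ => BGIsometry.indFun_one h.orderOf_t (BGIsometry.supp_bth h i))
    (BGIsometry.indFun_one h.orderOf_t (BGIsometry.supp_bmu h))
  obtain ⟨f, h1, h2, h3, h4, h5, h6⟩ := assemble h hn X₁ X₂ X₃ T s₁ s₂ s₃ sT hT hmu ho
  exact ⟨X₁, X₂, X₃, T, f, s₁, s₂, s₃, sT, hT, hmu, ho, h1, h2, h3, h4, h5, h6⟩

end Cfsg.Agent.Classification.BGBlock
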