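import Mathlib
import Cfsg.Agent.Classification.DihStructure
set_option linter.all false

/-!
# Minimal counterexample set-up for the Gorenstein–Walter theorem (S0483)

* `GWConcl Y`: `Y ≅ PSL(2, F)`, `|F| > 3` odd, or `Y ≅ A₇`;
* `GWBelow m`: the theorem holds for simple groups of order `< m`;
* `reduction`: it suffices to prove `GWConcl G` for simple `G` with `GWBelow (Nat.card G)`;
* `structure_of_below`: structure of `H / O(H)` for `SubDihedral` groups `H` of order `< m`.
-/

set_option autoImplicit false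

namespace Cfsg.Agent.Classification.DihMinimal

open Subgroup Cfsg.Agent.Classification.DihedralCentral Cfsg.Agent.Classification.TransferSign
open Cfsg.Agent.Classification.DihReduction Cfsg.Agent.Classification.DihStructure

universe u

/-- The conclusion of the Gorenstein–Walter theorem. -/
def GWConcl (Y : Type u) [Group Y] : Prop :=
  (∃ (F : Type) (_ : Field F) (_ : Fintype F), Odd (Fintype.card F) ∧ 3 < Fintype.card F ∧
      Nonempty (Y ≃* Matrix.ProjectiveSpecialLinearGroup (Fin 2) F)) ∨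
    Nonempty (Y ≃* alternatingGroup (Fin 7))

theorem gwConcl_def (Y : Type u) [Group Y] : GWConcl Y ↔
    ((∃ (F : Type) (_ : Field F) (_ : Fintype F), Odd (Fintype.card F) ∧ 3 < Fintype.card F ∧
      Nonempty (Y ≃* Matrix.ProjectiveSpecialLinearGroup (Fin 2) F)) ∨
    Nonempty (Y ≃* alternatingGroup (Fin 7))) := Iff.rfl

/-- The Gorenstein–Walter theorem for simple groups of order `< m`. -/
def GWBelow (m : ℕ) : Prop :=
  ∀ (L : Type u) [Group L] [Finite L] [IsSimpleGroup L] (S : Sylow 2 L) (n : ℕ), 2 ≤ n →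
    Nonempty ((S : Subgroup L) ≃* DihedralGroup n) → Nat.card L < m → GWConcl L

/-- The Gorenstein–Walter theorem follows from the theorem for simple groups, by induction on the
order. -/
theorem simple_of_minimal
    (hmain : ∀ (G : Type u) [Group G] [Finite G] [IsSimpleGroup G] (S : Sylow 2 G) (n : ℕ),
      2 ≤ n → Nonempty ((S : Subgroup G) ≃* DihedralGroup n) → GWBelow.{u} (Nat.card G) →
      GWConcl G) (m : ℕ) : GWBelow.{u} m := by
  induction m with
  | zero => intro L _ _ _ S n _ _ h; exact absurd h (Nat.not_lt_zero _)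
  | succ m ih =>
    intro L _ _ _ S n hn hS h
    apply hmain L S n hn hS
    intro L' _ _ _ S' n' hn' hS' h'
    exact ih L' S' n' hn' hS' (by omega)

/-- **Reduction of S0483** to the minimal simple case. -/
theorem reduction (hFT : OddOrder.{u})
    (hmain : ∀ (G : Type u) [Group G] [Finite G] [IsSimpleGroup G] (S : Sylow 2 G) (n : ℕ),
      2 ≤ n → Nonempty ((S : Subgroup G) ≃* DihedralGroup n) → GWBelow.{u} (Nat.card G) →
      GWConcl G)
    {X : Type u} [Group X] [Finite X] [Group.IsPerfect X]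
    (S : Sylow 2 X) (n : ℕ) (hn : 2 ≤ n) (hS : Nonempty ((S : Subgroup X) ≃* DihedralGroup n)) :
    (∃ (F : Type) (_ : Field F) (_ : Fintype F), Odd (Fintype.card F) ∧ 3 < Fintype.card F ∧
        Nonempty (X ⧸ Cfsg.oddCore X ≃* Matrix.ProjectiveSpecialLinearGroup (Fin 2) F)) ∨
      Nonempty (X ⧸ Cfsg.oddCore X ≃* alternatingGroup (Fin 7)) := by
  obtain ⟨hs, S', hS'⟩ := isSimpleGroup_quotient hFT S n hn hS
  exact simple_of_minimal hmain (Nat.card (X ⧸ Cfsg.oddCore X) + 1) (X ⧸ Cfsg.oddCore X) S' n hn hS'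
    (Nat.lt_succ_self _)

/-- The alternatives for `Y = H / O(H)`. -/
def DihAlt (Y : Type u) [Group Y] : Prop :=
  IsPGroup 2 Y ∨
    (∃ V : Subgroup Y, V.Normal ∧ IsKleinFour V ∧ centralizer (V : Set Y) = V ∧
      (V.index = 3 ∨ V.index = 6)) ∨
    (∃ L : Subgroup Y, L.Normal ∧ IsSimpleGroup L ∧ centralizer (L : Set Y) = ⊥ ∧
      ¬ 4 ∣ L.index ∧ GWConcl L ∧
      ∃ (S : Sylow 2 L) (m : ℕ), 2 ≤ m ∧ Nonempty ((S : Subgroup L) ≃* DihedralGroup m))

theorem dihAlt_def (Y : Type u) [Group Y] : DihAlt Y ↔ (IsPGroup 2 Y ∨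
    (∃ V : Subgroup Y, V.Normal ∧ IsKleinFour V ∧ centralizer (V : Set Y) = V ∧
      (V.index = 3 ∨ V.index = 6)) ∨
    (∃ L : Subgroup Y, L.Normal ∧ IsSimpleGroup L ∧ centralizer (L : Set Y) = ⊥ ∧
      ¬ 4 ∣ L.index ∧ GWConcl L ∧
      ∃ (S : Sylow 2 L) (m : ℕ), 2 ≤ m ∧ Nonempty ((S : Subgroup L) ≃* DihedralGroup m))) := Iff.rfl

theorem odd_card_oddCore (H : Type u) [Group H] [Finite H] :
    Odd (Nat.card (Cfsg.oddCore H)) := by
  rw [← Nat.coprime_two_right]
  exact Cfsg.Agent.Lib.Cores.pPrimeCore_coprime 2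

/-- Structure of `H / O(H)` for a proper subgroup `H` of a minimal counterexample. -/
theorem structure_of_below (hFT : OddOrder.{u}) {m : ℕ} (hB : GWBelow.{u} m) {H : Type u} [Group H]
    [Finite H] (hH : SubDihedral H) (hm : Nat.card H < m) : DihAlt (H ⧸ Cfsg.oddCore H) := by
  have hY : SubDihedral (H ⧸ Cfsg.oddCore H) :=
    subDihedral_quotient hH _ (odd_card_oddCore H)
  have hO : Cfsg.oddCore (H ⧸ Cfsg.oddCore H) = ⊥ :=
    Cfsg.Agent.Lib.Cores.pPrimeCore_quotient_pPrimeCore 2
  rcases structure_of_core_free hFT hY hO with h | h | ⟨L, h1, h2, h3, h4, S, k, hk, hS⟩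
  · exact Or.inl h
  · exact Or.inr (Or.inl h)
  · refine Or.inr (Or.inr ⟨L, h1, h2, h3, h4, ?_, S, k, hk, hS⟩)
    apply hB L S k hk hS
    have h5 : Nat.card L ≤ Nat.card (H ⧸ Cfsg.oddCore H) := Subgroup.card_le_card_group L
    have h6 : Nat.card (H ⧸ Cfsg.oddCore H) ≤ Nat.card H :=
      Nat.card_le_card_of_surjective _ (QuotientGroup.mk'_surjective (Cfsg.oddCore H))
    omega

/-- The same for proper subgroups of `G`. -/
theorem structure_of_subgroup (hFT : OddOrder.{u}) {G : Type u} [Group G] [Finite G]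
    (hG : SubDihedral G) (hB : GWBelow.{u} (Nat.card G)) (H : Subgroup G) (hH : H ≠ ⊤) :
    DihAlt (H ⧸ Cfsg.oddCore H) := by
  refine structure_of_below hFT hB
    (subDihedral_of_injective H.subtype H.subtype_injective hG) ?_
  exact lt_of_le_of_ne (Subgroup.card_le_card_group H)
    (fun h => hH (Subgroup.eq_top_of_card_eq H h))

end Cfsg.Agent.Classification.DihMinimal
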