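import Mathlib
import Cfsg.Agent.Classification.DihMinimal
set_option linter.all false

/-!
# Interface predicates for the Gorenstein–Walter theorem (S0483) and its `N`-group version

* `SubAlt G`: every proper subgroup `H` of `G` satisfies `DihAlt (H / O(H))`;
* `LocSol G`: the normaliser of a nontrivial subgroup of prime power order is solvable, if proper.
-/

set_option autoImplicit false

namespace Cfsg.Agent.Classification.GWDefs

open Subgroup Cfsg.Agent.Classification.DihedralCentral Cfsg.Agent.Classification.TransferSign
open Cfsg.Agent.Classification.DihReduction Cfsg.Agent.Classification.DihStructure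
open Cfsg.Agent.Classification.DihMinimal

universe u

/-- Every proper subgroup has the structure given by the Gorenstein–Walter theorem. -/
def SubAlt (G : Type u) [Group G] : Prop :=
  ∀ H : Subgroup G, H ≠ ⊤ → DihAlt (H ⧸ Cfsg.oddCore H)

theorem subAlt_def (G : Type u) [Group G] :
    SubAlt G ↔ ∀ H : Subgroup G, H ≠ ⊤ → DihAlt (H ⧸ Cfsg.oddCore H) := Iff.rfl

theorem subAlt_of_below (hFT : OddOrder.{u}) {G : Type u} [Group G] [Finite G]
    (hG : SubDihedral G) (hB : GWBelow.{u} (Nat.card G)) : SubAlt G :=
  fun H hH => structure_of_subgroup hFT hG hB H hH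

/-- All local subgroups are solvable. -/
def LocSol (G : Type u) [Group G] : Prop :=
  ∀ (p : ℕ) (P : Subgroup G), p.Prime → IsPGroup p P → P ≠ ⊥ →
    Group.IsSolvable (normalizer (P : Set G))

theorem locSol_def (G : Type u) [Group G] : LocSol G ↔ ∀ (p : ℕ) (P : Subgroup G), p.Prime →
    IsPGroup p P → P ≠ ⊥ → Group.IsSolvable (normalizer (P : Set G)) := Iff.rfl

end Cfsg.Agent.Classification.GWDefs
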