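import Cfsg.Agent.MinSimple.EmptyE.Plug
import Cfsg.Agent.MinSimple.OddNatEnd_mg_m3
import Mathlib
import Cfsg.Agent.S0044
import Cfsg.Agent.Lib.Cores
import Cfsg.Agent.MinSimple.OmPairD_m3
import Cfsg.Agent.MinSimple.CaseD9_m3
import Cfsg.Agent.MinSimple.Dihedral
import Cfsg.Agent.ZN.Block
import Cfsg.Agent.OddCyclic.GamFar_m3
import Cfsg.Agent.ZN.ChoiceBase
import Cfsg.Agent.FastGrp
import Cfsg.Agent.Prune
set_option linter.all false

section
prune_inst 0x7ff4fef88fb88ddfffff7e7ffffddffdf8fcffffffdff94bffe1ebffdfff4b67abe5fbaf8fe4d8feded7e2bc10f87b13f9ffeb3feb6bdc7ffffd5ff45ffffe1fedffbfad71d6bc3e1ffe6ffffbf37fffffffffffffffffffffffffffffffffffffffffffffff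

-- part: MinSimple/EmptyE/MaxLocal
section
set_option linter.all false
open scoped Cfsg.Agent.FastGrp

/-!
# The case (Empty): the maximal 2-local subgroup over `C_G(z)`

`I` the TI-subgroup (`TIData S I`), `Geo S V z`.

* `normalizer_le` : `N_G(R) ≤ N_G(I)` for every 2-subgroup `R ≠ 1` normalized by `C_G(z)`;
* `mp` : `Mp z (N_G(I))` if `|vv S ∩ I| ≤ 4`; hence `OddMp.Max2 V z`;
* `max1` : `OddThreeM.Max1 z` if `|vv S ∩ I| ≤ 2`;
* `step_four'`, `of_card_four'` : the exit of step 4 of Theorem E, with `Max1 z`;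
* `card_inf_le_four` : `|vv S ∩ I| ≤ 4` if `|vv S| = 16` and `vv S` has no closed hyperplane.
-/

set_option autoImplicit false
set_option linter.unusedSectionVars false

namespace Cfsg.Agent.MinSimple.EmptyE.MaxLocal

open Subgroup Cfsg Cfsg.Agent.ZN Cfsg.Agent.ZN.ChoiceBase Cfsg.Agent.ZN.ChoiceSit
open Cfsg.Agent.MinSimple.EmptyTI Cfsg.Agent.MinSimple.EmptySix
open Cfsg.Agent.MinSimple.EmptyE.Closed

universe u

variable {G : Type u} [Group G] [Finite G] {S : Sylow 2 G} {H I V : Subgroup G} {z : G}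

theorem mem_zc_of_geo (hG : Geo.Geo (S : Subgroup G) V z) : z ∈ zc (S : Subgroup G) :=
  ChoiceBase.mem_zc.2 ⟨hG.V_le hG.z_mem, by rw [pow_two, hG.zz], fun _ hs =>
    mem_centralizer_singleton_iff.1 (hG.T_le hs)⟩

/-- `N_G(R) ≤ N_G(I)` for every 2-subgroup `R ≠ 1` normalized by `C_G(z)`. -/
theorem normalizer_le (h : ESit S) (hI : TIData (S : Subgroup G) I) (hz : z ∈ zc (S : Subgroup G))
    (hz1 : z ≠ 1) {R : Subgroup G} (hR : IsPGroup 2 R) (hR1 : R ≠ ⊥)
    (hC : centralizer ({z} : Set G) ≤ normalizer (R : Set G)) :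
    normalizer (R : Set G) ≤ normalizer (I : Set G) := by
  have hX : IsTwoLocal (normalizer (R : Set G)) := ⟨R, hR, hR1, rfl⟩
  have hSX : (S : Subgroup G) ≤ normalizer (R : Set G) :=
    (Glue.le_centralizer_of_mem_zc hz).trans hC
  have hJX : jj (S : Subgroup G) ≤ normalizer (R : Set G) := (ChoiceBase.jj_le _).trans hSX
  have h1 : jcl (jj (S : Subgroup G)) (normalizer (R : Set G)) ≤ centralizer ({z} : Set G) := by
    refine (h.jcl_le_centralizer hX hSX).trans (centralizer_le ?_)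
    rintro _ rfl
    exact VModule.zc_le_zl _ _ hz
  have h2 : jcl (jj (S : Subgroup G)) (normalizer (R : Set G)) =
      jcl (jj (S : Subgroup G)) (centralizer ({z} : Set G)) := by
    apply le_antisymm _ (jcl_mono hC)
    rw [← jcl_jcl S hJX]
    exact jcl_mono h1
  rw [hI.jcl_eq z (hI.zc_le hz) hz1] at h2
  have h3 := le_normalizer_jcl (jj (S : Subgroup G)) (normalizer (R : Set G))
  rw [h2, hI.normalizer_eq] at h3
  exact h3

theorem isPGroup_I (hI : TIData (S : Subgroup G) I) : IsPGroup 2 I :=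
  (isPGroup_zj S.isPGroup').to_le hI.le_zj

theorem normalizer_le_of_card (_hI : TIData (S : Subgroup G) I) (hz : z ∈ zc (S : Subgroup G))
    (hz1 : z ≠ 1) (h2 : Nat.card (zl (S : Subgroup G) (normalizer (I : Set G))) ≤ 2) :
    normalizer (I : Set G) ≤ centralizer ({z} : Set G) := by
  have hzz : z * z = 1 := by rw [← pow_two]; exact (ChoiceBase.mem_zc.1 hz).2.1
  have h3 : zpowers z = zl (S : Subgroup G) (normalizer (I : Set G)) := by
    refine eq_of_le_of_card_ge ?_ ?_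
    · rw [zpowers_le]
      exact VModule.zc_le_zl _ _ hz
    · rw [Nat.card_zpowers, orderOf_eq_prime (by rw [pow_two, hzz]) hz1]
      exact h2
  rw [← Geo.normalizer_zpowers hzz hz1, h3]
  exact VModule.le_normalizer_zl _ _

/-- `N_G(I)` is the maximal 2-local subgroup over `C_G(z)`. -/
theorem mp (h : ESit S) (hI : TIData (S : Subgroup G) I) (hz : z ∈ zc (S : Subgroup G))
    (hz1 : z ≠ 1) (h4 : Nat.card (vv (S : Subgroup G) ⊓ I : Subgroup G) ≤ 4) :
    OddMp.Mp z (normalizer (I : Set G)) where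
  le := hI.cent z (hI.zc_le hz) hz1
  loc := ⟨I, isPGroup_I hI, hI.ne, rfl⟩
  max := fun _ hR hR1 hC => normalizer_le h hI hz hz1 hR hR1 hC
  card := by
    have hf : Fact (Nat.Prime 2) := ⟨Nat.prime_two⟩
    by_cases h2 : Nat.card (zl (S : Subgroup G) (normalizer (I : Set G))) ≤ 2
    · exact Or.inl (normalizer_le_of_card hI hz hz1 h2)
    · right
      refine ⟨zl (S : Subgroup G) (normalizer (I : Set G)), ?_, VModule.zc_le_zl _ _ hz,
        VModule.le_normalizer_zl _ _⟩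
      have h5 := (Subgroup.card_le_of_le hI.zl_le).trans h4
      have h6 : IsPGroup 2 (zl (S : Subgroup G) (normalizer (I : Set G))) :=
        (isPGroup_I hI).to_le (hI.zl_le.trans inf_le_right)
      obtain ⟨n, hn⟩ := IsPGroup.iff_card.mp h6
      rw [hn] at h2 h5 ⊢
      have h7 : n = 2 := by
        have h8 : n < 3 := by
          by_contra h9
          have : 2 ^ 3 ≤ 2 ^ n := Nat.pow_le_pow_right (by norm_num) (by omega)
          omega
        have h9 : 1 < n := by
          by_contra h9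
          have : 2 ^ n ≤ 2 ^ 1 := Nat.pow_le_pow_right (by norm_num) (by omega)
          omega
        omega
      rw [h7]
      norm_num

/-- the maximality of `C_G(z)` from `M = C_G(z)` -/
theorem max1_of_mp {M : Subgroup G} (hM : OddMp.Mp z M) (hMC : M ≤ centralizer ({z} : Set G)) :
    OddThreeM.Max1 z := by
  rintro _ ⟨g, rfl⟩ R hR hR1 hC
  refine ((hM.conj g).max R hR hR1 hC).trans ?_
  have := Geo.cj_mono (g := g) hMC
  rwa [Geo.cj_centralizer_singleton] at this

theorem max1 (h : ESit S) (hI : TIData (S : Subgroup G) I) (hz : z ∈ zc (S : Subgroup G))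
    (hz1 : z ≠ 1) (h2 : Nat.card (vv (S : Subgroup G) ⊓ I : Subgroup G) ≤ 2) :
    OddThreeM.Max1 z :=
  max1_of_mp (mp h hI hz hz1 (by omega))
    (normalizer_le_of_card hI hz hz1 ((Subgroup.card_le_of_le hI.zl_le).trans h2))

/-- `|vv S ∩ I| ≤ 2` if `vv S` has a closed hyperplane. -/
theorem card_inf_le_two (h : ESit S) (hI : TIData (S : Subgroup G) I)
    (hH : H ≤ vv (S : Subgroup G)) (hcard : Nat.card (vv (S : Subgroup G)) = 2 * Nat.card H)
    (hcl : ∀ u ∈ H, u ≠ 1 → cl (S : Subgroup G) u ≤ H) :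
    Nat.card (vv (S : Subgroup G) ⊓ I : Subgroup G) ≤ 2 := by
  by_contra hcon
  push Not at hcon
  refine Four.false_of_le h hH hcard hcl inf_le_left hcon fun v hv hv1 => ?_
  rw [Four.cl_eq_inf hI hv.2 hv1]
  exact le_inf (zc_le_vv _) hI.zc_le

/-- Step 4 of Theorem E, the exit with `Max1 z`. -/
theorem step_four' (h : ESit S) :
    (∃ (l : Subgroup G) (z : G), Geo.Geo (S : Subgroup G) l z ∧ OddThreeM.Max1 z) ∨
      ∀ H : Subgroup G, H ≤ vv (S : Subgroup G) →
        (∀ u ∈ H, u ≠ 1 → cl (S : Subgroup G) u ≤ H) →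
        Nat.card (vv (S : Subgroup G)) ≠ 2 * Nat.card H := by
  obtain ⟨I, hI⟩ := exists_tiData S h.ne_bot h.empty
  by_cases hex : ∃ H : Subgroup G, H ≤ vv (S : Subgroup G) ∧
      (∀ u ∈ H, u ≠ 1 → cl (S : Subgroup G) u ≤ H) ∧
      Nat.card (vv (S : Subgroup G)) = 2 * Nat.card H
  · left
    obtain ⟨H, hH, hcl, hcard⟩ := hex
    obtain ⟨l, z, -, -, hg⟩ := Four.four h hI hH hcard hcl
    exact ⟨l, z, hg, max1 h hI (mem_zc_of_geo hg) hg.z_ne (card_inf_le_two h hI hH hcard hcl)⟩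
  · right
    intro H hH hcl hcard
    exact hex ⟨H, hH, hcl, hcard⟩

/-- `|vv S| = 4` : the exit with `Max1 z`. -/
theorem of_card_four' (h : ESit S) (hV : Nat.card (vv (S : Subgroup G)) = 4) :
    ∃ (l : Subgroup G) (z : G), Geo.Geo (S : Subgroup G) l z ∧ OddThreeM.Max1 z := by
  obtain ⟨P, hP, hPC, hPL⟩ := Hyper.exists_minPar h
  obtain ⟨x, -, -, -, -, hZ, hne, hcl, -⟩ := Hyper.hyper h hP hPC hPL
  rcases step_four' h with h1 | h1
  · exact h1
  exfalso
  refine h1 (Hyper.hh (S : Subgroup G) x) inf_le_left hcl ?_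
  rw [hV]
  have h2 : Nat.card (Hyper.hh (S : Subgroup G) x) ∣ 4 := by
    rw [← hV]
    exact card_dvd_of_le inf_le_left
  have h3 : Nat.card (Hyper.hh (S : Subgroup G) x) ≠ 1 := by
    intro h0
    rw [card_eq_one] at h0
    exact h.zc_ne_bot (le_bot_iff.1 (hZ.trans h0.le))
  have h4 : Nat.card (Hyper.hh (S : Subgroup G) x) ≠ 4 := by
    intro h0
    exact hne (eq_of_le_of_card_ge inf_le_left (by rw [h0]; exact hV.le))
  have h5 : Nat.card (Hyper.hh (S : Subgroup G) x) ≤ 4 := Nat.le_of_dvd (by norm_num) h2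
  have h6 : 0 < Nat.card (Hyper.hh (S : Subgroup G) x) := Nat.card_pos
  interval_cases hc : Nat.card (Hyper.hh (S : Subgroup G) x) <;> omega

end Cfsg.Agent.MinSimple.EmptyE.MaxLocal
end

-- part: MinSimple/CoreOdd
section
set_option linter.all false
open scoped Cfsg.Agent.FastGrp

-- part: MinSimple/OddRTMod
section
/-!
# (E1) with `|V| = 4`, `b` odd, `k = 1`, rank 2: the module part

`H` is a finite solvable group acting faithfully on the finite additive group `M` of exponent two, `O₂(H) = 1`,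
`E ⊆ M` is an orbit generating `M`, and `a : M → H` an `H`-equivariant assignment of involutions with
`|[M, a e]| = 4` and `[M, a e] ∩ E = {e}`. If no `x ∈ O₃(H)` of order 3 inverted by `a e` has `|[M, x]| = 4`, then
`O_p(H) = 1` for all primes `p ≠ 5` (`RT.pCore_eq_bot`).
-/

set_option autoImplicit false
set_option linter.unusedSectionVars false
set_option linter.style.haveILetI false

namespace Cfsg.Agent.MinSimple.OddRTMod

open Subgroup Cfsg

/-! ### fixed points and commutators -/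

section basic

variable {H : Type*} (M : Type*) [Group H] [AddCommGroup M] [DistribMulAction H M]

/-- `m ↦ x m + m` -/
def opr (x : H) : M →+ M := DistribSMul.toAddMonoidHom M x + AddMonoidHom.id M

/-- fixed points -/
def fx (x : H) : AddSubgroup M where
  carrier := {m | x • m = m}
  add_mem' := by
    intro a b ha hb
    rw [Set.mem_ofPred_eq] at *
    rw [smul_add, ha, hb]
  zero_mem' := smul_zero x
  neg_mem' := by
    intro a ha
    rw [Set.mem_ofPred_eq] at *
    rw [smul_neg, ha]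

/-- `[M, x]` -/
def cm (x : H) : AddSubgroup M := (opr M x).range

variable {M}

theorem opr_apply (x : H) (m : M) : opr M x m = x • m + m := rfl

theorem mem_fx {x : H} {m : M} : m ∈ fx M x ↔ x • m = m := Iff.rfl

theorem mem_cm_self (x : H) (m : M) : x • m + m ∈ cm M x := ⟨m, rfl⟩

theorem smul_mem_cm {g x : H} {m : M} (h : m ∈ cm M x) : g • m ∈ cm M (g * x * g⁻¹) := by
  obtain ⟨n, rfl⟩ := h
  refine ⟨g • n, ?_⟩
  rw [opr_apply, opr_apply, smul_add, ← mul_smul, inv_mul_cancel_right, mul_smul]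

theorem smul_mem_cm_of_comm {g x : H} (hg : g * x = x * g) {m : M} (h : m ∈ cm M x) :
    g • m ∈ cm M x := by
  have := smul_mem_cm (g := g) h
  rwa [hg, mul_inv_cancel_right] at this

theorem cm_inv (x : H) : cm M x⁻¹ = cm M x := by
  have key : ∀ x : H, cm M x⁻¹ ≤ cm M x := by
    rintro x _ ⟨n, rfl⟩
    refine ⟨x⁻¹ • n, ?_⟩
    rw [opr_apply, opr_apply, smul_inv_smul, add_comm]
  refine le_antisymm (key x) ?_
  have := key x⁻¹
  rwa [inv_inv] at this

theorem smul_mem_cm_of_inv {g x : H} (hg : g * x * g⁻¹ = x⁻¹) {m : M} (h : m ∈ cm M x) :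
    g • m ∈ cm M x := by
  have := smul_mem_cm (g := g) h
  rwa [hg, cm_inv] at this

theorem smul_self_mem_cm {x : H} {m : M} (h : m ∈ cm M x) : x • m ∈ cm M x :=
  smul_mem_cm_of_comm rfl h

theorem smul_mem_fx_of_comm {g x : H} (hg : g * x = x * g) {m : M} (h : m ∈ fx M x) :
    g • m ∈ fx M x := by
  rw [mem_fx] at *
  rw [← mul_smul, ← hg, mul_smul, h]

theorem smul_mem_fx_of_inv {g x : H} (hg : g * x * g⁻¹ = x⁻¹) {m : M} (h : m ∈ fx M x) :
    g • m ∈ fx M x := by
  rw [mem_fx] at *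
  have h1 : x⁻¹ • g • m = g • m := by
    rw [← hg, mul_smul, mul_smul, inv_smul_smul, h]
  have := congrArg (x • ·) h1
  simp only [smul_inv_smul] at this
  exact this.symm

theorem card_cm_mul_card_fx (two : ∀ m : M, m + m = 0) (x : H) :
    Nat.card (fx M x) * Nat.card (cm M x) = Nat.card M := by
  have h1 : (opr M x).ker = fx M x := by
    ext m
    rw [AddMonoidHom.mem_ker, opr_apply, mem_fx]
    constructor
    · intro h
      have h2 := two m
      exact add_right_cancel (h.trans h2.symm)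
    · intro h
      rw [h, two]
  rw [← h1, cm, ← AddSubgroup.index_ker]
  exact AddSubgroup.card_mul_index _

theorem odd_nsmul (two : ∀ m : M, m + m = 0) {n : ℕ} (hn : n % 2 = 1) (m : M) : n • m = m := by
  rw [show n = n / 2 * 2 + 1 by omega, add_smul, one_smul, mul_smul, two_smul, two, smul_zero, zero_add]

/-- elements of odd order: `[M, x] ∩ C_M(x) = 0` -/
theorem eq_zero_of_mem (two : ∀ m : M, m + m = 0) {x : H} {n : ℕ} (hn : n % 2 = 1) (hx : x ^ n = 1)
    {m : M} (h1 : m ∈ cm M x) (h2 : x • m = m) : m = 0 := by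
  obtain ⟨u, hm⟩ := h1
  rw [opr_apply] at hm
  have hxu : x • u = m + u := by rw [← hm, add_assoc, two, add_zero]
  have key : ∀ i : ℕ, x ^ i • u = i • m + u := by
    intro i
    induction i with
    | zero => simp
    | succ i ih =>
      rw [pow_succ', mul_smul, ih, smul_add, smul_comm, h2, hxu, succ_nsmul, add_assoc]
  have h3 := key n
  rw [hx, one_smul, odd_nsmul two hn] at h3
  have h4 : (0 : M) + u = m + u := by rw [zero_add]; exact h3
  exact (add_right_cancel h4).symm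

theorem pow_fix {x : H} {m : M} (h : x • m = m) (i : ℕ) : x ^ i • m = m := by
  induction i with
  | zero => simp
  | succ i ih => rw [pow_succ', mul_smul, ih, h]

/-- `x² m = m` and odd order implies `x m = m` -/
theorem fix_of_sq {x : H} {n : ℕ} (hn : n % 2 = 1) (hx : x ^ n = 1) {m : M} (h : x • x • m = m) :
    x • m = m := by
  have h1 : (x ^ 2) • m = m := by rw [pow_two, mul_smul, h]
  have h2 := pow_fix h1 ((n + 1) / 2)
  rw [← pow_mul, show 2 * ((n + 1) / 2) = n + 1 by omega, pow_succ, hx, one_mul] at h2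
  exact h2

/-- `|[M, x]| ≡ 1` for `x` of odd prime order `p` -/
theorem card_cm_modEq [Finite M] (two : ∀ m : M, m + m = 0) {p : ℕ} (hp : p.Prime) (hp2 : p ≠ 2)
    {x : H} (hx : x ^ p = 1) : Nat.card (cm M x) ≡ 1 [MOD p] := by
  haveI : Fact p.Prime := ⟨hp⟩
  have hP : IsPGroup p (zpowers x) := by
    rintro ⟨y, hy⟩
    obtain ⟨n, rfl⟩ := mem_zpowers_iff.mp hy
    refine ⟨1, ?_⟩
    ext
    change (x ^ n) ^ p ^ 1 = 1
    rw [pow_one, ← zpow_natCast, ← zpow_mul, mul_comm, zpow_mul, zpow_natCast, hx, one_zpow]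
  have h1 := hP.card_modEq_card_fixedPoints M
  have h2 : Nat.card (MulAction.fixedPoints (zpowers x) M) = Nat.card (fx M x) := by
    have : MulAction.fixedPoints (zpowers x) M = (fx M x : Set M) := by
      ext m
      constructor
      · intro h
        exact h ⟨x, mem_zpowers x⟩
      · rintro h ⟨y, hy⟩
        obtain ⟨n, rfl⟩ := mem_zpowers_iff.mp hy
        have h : x ∈ MulAction.stabilizer H m := h
        have := zpow_mem h n
        exact this
    rw [this]; rfl
  rw [h2, ← card_cm_mul_card_fx two x] at h1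
  have hcop : Nat.Coprime p (Nat.card (fx M x)) := by
    rw [Nat.Prime.coprime_iff_not_dvd hp]
    intro hd
    obtain ⟨y, hy⟩ := exists_prime_addOrderOf_dvd_card' p hd
    have h3 : (2 : ℕ) • y = 0 := by
      rw [two_smul]
      exact Subtype.ext (two _)
    have h4 := addOrderOf_dvd_of_nsmul_eq_zero h3
    rw [hy] at h4
    exact hp2 ((Nat.prime_dvd_prime_iff_eq hp Nat.prime_two).mp h4)
  have h5 : Nat.card (fx M x) * Nat.card (cm M x) ≡ Nat.card (fx M x) * 1 [MOD p] := by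
    rw [mul_one]; exact h1
  exact Nat.ModEq.cancel_left_of_coprime hcop h5

theorem four_of_card [Finite M] {A : AddSubgroup M} (two : ∀ m : M, m + m = 0) (hA : Nat.card A = 4) {p q : M}
    (hp : p ∈ A) (hq : q ∈ A) (hp1 : p ≠ 0) (hq1 : q ≠ 0) (hpq : p ≠ q) {v : M} (hv : v ∈ A) :
    v = 0 ∨ v = p ∨ v = q ∨ v = p + q := by
  have hpq1 : p + q ≠ 0 := fun e => hpq (by
    have := two q
    exact add_right_cancel (e.trans this.symm))
  have hpqp : p + q ≠ p := fun e => hq1 (by simpa using e)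
  have hpqq : p + q ≠ q := fun e => hp1 (by simpa using e)
  have h1 : ({0, p, q, p + q} : Set M) ⊆ (A : Set M) := by
    rintro x (rfl | rfl | rfl | rfl)
    · exact A.zero_mem
    · exact hp
    · exact hq
    · exact A.add_mem hp hq
  have h2 : ({0, p, q, p + q} : Set M).ncard = 4 := by
    rw [Set.ncard_insert_of_notMem, Set.ncard_insert_of_notMem, Set.ncard_pair (Ne.symm hpqq)]
    · rintro (e | e)
      · exact hpq e
      · exact hpqp (Set.mem_singleton_iff.mp e).symm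
    · rintro (e | e | e)
      · exact hp1 e.symm
      · exact hq1 e.symm
      · exact hpq1 (Set.mem_singleton_iff.mp e).symm
  have h3 : (A : Set M).ncard = 4 := by rw [← hA]; rfl
  have h4 := Set.eq_of_subset_of_ncard_le h1 (by rw [h2, h3]) (Set.toFinite _)
  have h5 : v ∈ ({0, p, q, p + q} : Set M) := by rw [h4]; exact hv
  rcases h5 with e | e | e | e
  · exact Or.inl e
  · exact Or.inr (Or.inl e)
  · exact Or.inr (Or.inr (Or.inl e))
  · exact Or.inr (Or.inr (Or.inr e))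

theorem exists_third [Finite M] {A : AddSubgroup M} (hA : Nat.card A = 4) (p : M) :
    ∃ q ∈ A, q ≠ 0 ∧ q ≠ p := by
  by_contra hcon
  push Not at hcon
  have h1 : (A : Set M) ⊆ {0, p} := by
    intro v hv
    by_cases h : v = 0
    · exact Or.inl h
    · exact Or.inr (hcon v hv h)
  have h2 := Set.ncard_le_ncard h1 (Set.toFinite _)
  have h3 : (A : Set M).ncard = 4 := by rw [← hA]; rfl
  have h4 : ({0, p} : Set M).ncard ≤ ({p} : Set M).ncard + 1 := Set.ncard_insert_le _ _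
  rw [Set.ncard_singleton] at h4
  omega

/-! ### an involution inverting `x` -/

section inv

variable {a x : H} {n : ℕ}

theorem inv_smul_eq (ha : a * a = 1) (hax : a * x * a = x⁻¹) (m : M) : a • x • m = x⁻¹ • a • m := by
  rw [← mul_smul, ← mul_smul, ← hax, mul_assoc (a * x), ha, mul_one]

theorem conj_eq_inv (ha : a * a = 1) (hax : a * x * a = x⁻¹) : a * x * a⁻¹ = x⁻¹ := by
  rw [inv_eq_of_mul_eq_one_left ha, hax]

/-- `C_{[M,x]}(a) ∩ x C_{[M,x]}(a) = 0` -/
theorem inf_smul_eq (two : ∀ m : M, m + m = 0) (ha : a * a = 1) (hax : a * x * a = x⁻¹) (hn : n % 2 = 1)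
    (hx : x ^ n = 1) {c d : M} (hc : a • c = c) (hcB : c ∈ cm M x) (hd : a • d = d)
    (h : d = x • c) : c = 0 := by
  have h1 : a • d = x⁻¹ • c := by rw [h, inv_smul_eq ha hax, hc]
  rw [hd, h] at h1
  have h2 : x • x • c = c := by rw [h1, smul_inv_smul]
  exact eq_zero_of_mem two hn hx hcB (fix_of_sq hn hx h2)

theorem card_inv [Finite M] (two : ∀ m : M, m + m = 0) (ha : a * a = 1) (hax : a * x * a = x⁻¹)
    (hn : n % 2 = 1) (hx : x ^ n = 1) :
    Nat.card (cm M x) = Nat.card (fx M a ⊓ cm M x : AddSubgroup M) ^ 2 ∧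
      fx M a ⊓ cm M x ≤ cm M a := by
  set B := cm M x with hB
  set C := fx M a ⊓ B with hC
  let f : B →+ M := (opr M a).comp B.subtype
  have hfB : ∀ b : B, f b ∈ C := by
    intro b
    change a • (b : M) + b ∈ fx M a ⊓ B
    refine ⟨?_, B.add_mem (smul_mem_cm_of_inv (conj_eq_inv ha hax) b.2) b.2⟩
    change a • (a • (b : M) + b) = a • (b : M) + b
    rw [smul_add, ← mul_smul, ha, one_smul, add_comm]
  have hfr : f.range ≤ C := by
    rintro _ ⟨b, rfl⟩
    exact hfB b
  have hker : f.ker = C.addSubgroupOf B := by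
    ext b
    rw [AddMonoidHom.mem_ker, AddSubgroup.mem_addSubgroupOf]
    change a • (b : M) + b = 0 ↔ _
    constructor
    · intro h
      exact ⟨add_right_cancel (h.trans (two _).symm), b.2⟩
    · intro h
      rw [mem_fx.mp h.1, two]
  have hcC : Nat.card (C.addSubgroupOf B) = Nat.card C :=
    Nat.card_congr (AddSubgroup.addSubgroupOfEquivOfLe inf_le_right).toEquiv
  have h1 : Nat.card C * Nat.card f.range = Nat.card B := by
    rw [← hcC, ← hker, ← AddSubgroup.index_ker]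
    exact AddSubgroup.card_mul_index _
  have h2 : Nat.card C * Nat.card C ≤ Nat.card B := by
    rw [← Nat.card_prod]
    refine Nat.card_le_card_of_injective (fun cd : C × C => (⟨cd.1 + x • (cd.2 : M),
      B.add_mem cd.1.2.2 (smul_self_mem_cm cd.2.2.2)⟩ : B)) ?_
    rintro ⟨c, d⟩ ⟨c', d'⟩ h
    have h3 : (c : M) + x • (d : M) = c' + x • (d' : M) := congrArg Subtype.val h
    have h4 : ((c : M) + c') = x • ((d : M) + d') := by
      have e1 := two (c : M)
      have e2 := two (d' : M)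
      calc (c : M) + c' = c + c' + x • ((d' : M) + d') := by rw [e2, smul_zero, add_zero]
        _ = c + (c' + x • (d' : M)) + x • (d' : M) := by rw [smul_add]; abel
        _ = c + (c + x • (d : M)) + x • (d' : M) := by rw [h3]
        _ = (c + c) + x • ((d : M) + d') := by rw [smul_add]; abel
        _ = x • ((d : M) + d') := by rw [e1, zero_add]
    have h5 : (d : M) + d' = 0 := by
      refine inf_smul_eq two ha hax hn hx ?_ ?_ ?_ h4
      · exact (fx M a).add_mem d.2.1 d'.2.1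
      · exact B.add_mem d.2.2 d'.2.2
      · exact (fx M a).add_mem c.2.1 c'.2.1
    rw [h5, smul_zero] at h4
    have h6 : (c : M) = c' := add_right_cancel (h4.trans (two _).symm)
    have h7 : (d : M) = d' := add_right_cancel (h5.trans (two _).symm)
    exact Prod.ext (Subtype.ext h6) (Subtype.ext h7)
  have h3 : Nat.card f.range ≤ Nat.card C :=
    Nat.card_le_card_of_injective (Set.inclusion hfr) (Set.inclusion_injective hfr)
  have h4 : Nat.card C ≤ Nat.card f.range := by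
    have hpos : 0 < Nat.card C := Nat.card_pos
    rw [← h1] at h2
    exact Nat.le_of_mul_le_mul_left h2 hpos
  have h5 : f.range = C := AddSubgroup.eq_of_le_of_card_ge hfr h4
  refine ⟨?_, ?_⟩
  · rw [← h1, h5, pow_two]
  · rw [← h5]
    rintro _ ⟨b, rfl⟩
    exact ⟨b, rfl⟩

/-- structure of `[M, x]` if `|[M, x]| = 16` and `|[M, a]| = 4` -/
theorem cm_le_of_card [Finite M] (two : ∀ m : M, m + m = 0) (ha : a * a = 1) (hax : a * x * a = x⁻¹)
    (hn : n % 2 = 1) (hx : x ^ n = 1) (hA : Nat.card (cm M a) = 4) (hB : Nat.card (cm M x) = 16) :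
    cm M a ≤ cm M x ∧ (∀ m ∈ cm M x, a • m = m → m ∈ cm M a) ∧
      ∀ m ∈ cm M x, ∃ c ∈ cm M a, ∃ d ∈ cm M a, m = c + x • d := by
  obtain ⟨h1, h2⟩ := card_inv two ha hax hn hx
  rw [hB] at h1
  have h3 : Nat.card (fx M a ⊓ cm M x : AddSubgroup M) = 4 := by
    have : Nat.card (fx M a ⊓ cm M x : AddSubgroup M) ^ 2 = 4 ^ 2 := by rw [← h1]; norm_num
    exact (Nat.pow_left_injective (by norm_num : 2 ≠ 0)) this
  have h4 : fx M a ⊓ cm M x = cm M a := AddSubgroup.eq_of_le_of_card_ge h2 (by rw [h3, hA])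
  have hle : cm M a ≤ cm M x := by rw [← h4]; exact inf_le_right
  have hfix : ∀ m ∈ cm M a, a • m = m := by
    intro m hm
    rw [← h4] at hm
    exact hm.1
  refine ⟨hle, fun m hm hm2 => by rw [← h4]; exact ⟨hm2, hm⟩, fun m hm => ?_⟩
  let g : cm M a × cm M a → cm M x := fun cd => ⟨cd.1 + x • (cd.2 : M),
      (cm M x).add_mem (hle cd.1.2) (smul_self_mem_cm (hle cd.2.2))⟩
  have hinj : Function.Injective g := by
    rintro ⟨c, d⟩ ⟨c', d'⟩ h
    have h3 : (c : M) + x • (d : M) = c' + x • (d' : M) := congrArg Subtype.val h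
    have h4 : ((c : M) + c') = x • ((d : M) + d') := by
      have e1 := two (c : M)
      have e2 := two (d' : M)
      calc (c : M) + c' = c + c' + x • ((d' : M) + d') := by rw [e2, smul_zero, add_zero]
        _ = c + (c' + x • (d' : M)) + x • (d' : M) := by rw [smul_add]; abel
        _ = c + (c + x • (d : M)) + x • (d' : M) := by rw [h3]
        _ = (c + c) + x • ((d : M) + d') := by rw [smul_add]; abel
        _ = x • ((d : M) + d') := by rw [e1, zero_add]
    have h5 : (d : M) + d' = 0 := by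
      refine inf_smul_eq two ha hax hn hx ?_ ?_ ?_ h4
      · exact hfix _ ((cm M a).add_mem d.2 d'.2)
      · exact hle ((cm M a).add_mem d.2 d'.2)
      · exact hfix _ ((cm M a).add_mem c.2 c'.2)
    rw [h5, smul_zero] at h4
    have h6 : (c : M) = c' := add_right_cancel (h4.trans (two _).symm)
    have h7 : (d : M) = d' := add_right_cancel (h5.trans (two _).symm)
    exact Prod.ext (Subtype.ext h6) (Subtype.ext h7)
  have hbij : Function.Bijective g := by
    rw [Nat.bijective_iff_injective_and_card]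
    refine ⟨hinj, ?_⟩
    rw [Nat.card_prod, hA, hB]
  obtain ⟨⟨c, d⟩, h⟩ := hbij.2 ⟨m, hm⟩
  exact ⟨c, c.2, d, d.2, (congrArg Subtype.val h).symm⟩

theorem cm_eq_bot_of_card {x : H} (faithful : ∀ x : H, (∀ m : M, x • m = m) → x = 1)
    (two : ∀ m : M, m + m = 0) (h : Nat.card (cm M x) = 1) : x = 1 := by
  refine faithful x fun m => ?_
  have h1 : cm M x = ⊥ := AddSubgroup.eq_bot_of_card_eq _ h
  have h2 : x • m + m ∈ cm M x := mem_cm_self x m
  rw [h1, AddSubgroup.mem_bot] at h2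
  exact add_right_cancel (h2.trans (two m).symm)

/-- `|[M, x]| ∈ {4, 16}` for `x ≠ 1` of odd prime order inverted by `a` -/
theorem card_cases [Finite M] (two : ∀ m : M, m + m = 0) (faithful : ∀ x : H, (∀ m : M, x • m = m) → x = 1)
    (ha : a * a = 1) (hax : a * x * a = x⁻¹) (hA : Nat.card (cm M a) = 4) {p : ℕ} (hp : p.Prime)
    (hp2 : p ≠ 2) (hx : x ^ p = 1) (hx1 : x ≠ 1) :
    (p = 3 ∧ Nat.card (cm M x) = 4) ∨ ((p = 3 ∨ p = 5) ∧ Nat.card (cm M x) = 16) := by
  have hn : p % 2 = 1 := by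
    rcases hp.eq_two_or_odd with h | h
    · exact absurd h hp2
    · exact h
  obtain ⟨h1, h2⟩ := card_inv two ha hax hn hx
  have h3 : Nat.card (fx M a ⊓ cm M x : AddSubgroup M) ∣ 4 := by
    rw [← hA]
    exact AddSubgroup.card_dvd_of_le h2
  have h4 := card_cm_modEq two hp hp2 hx
  have h5 : Nat.card (fx M a ⊓ cm M x : AddSubgroup M) ∈ Nat.divisors 4 := by
    rw [Nat.mem_divisors]; exact ⟨h3, by norm_num⟩
  have h6 : Nat.divisors 4 = {1, 2, 4} := by decide
  rw [h6] at h5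
  simp only [Finset.mem_insert, Finset.mem_singleton] at h5
  rcases h5 with h5 | h5 | h5
  · exfalso
    rw [h5, one_pow] at h1
    exact hx1 (cm_eq_bot_of_card faithful two h1)
  · left
    rw [h5] at h1
    rw [h1] at h4
    have h7 : p ∣ 2 ^ 2 - 1 := (Nat.modEq_iff_dvd' (by norm_num)).mp h4.symm
    have h8 : p ∣ 3 := h7
    exact ⟨(Nat.prime_dvd_prime_iff_eq hp Nat.prime_three).mp h8, h1⟩
  · right
    rw [h5] at h1
    rw [h1] at h4
    have h7 : p ∣ 4 ^ 2 - 1 := (Nat.modEq_iff_dvd' (by norm_num)).mp h4.symm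
    have h8 : p ∣ 3 * 5 := h7
    rcases (Nat.Prime.dvd_mul hp).mp h8 with h9 | h9
    · exact ⟨Or.inl ((Nat.prime_dvd_prime_iff_eq hp Nat.prime_three).mp h9), h1⟩
    · exact ⟨Or.inr ((Nat.prime_dvd_prime_iff_eq hp Nat.prime_five).mp h9), h1⟩

end inv

end basic

/-! ### the configuration -/

/-- The configuration: `E` is an `H`-orbit generating `M`, `a e` the involution belonging to `e ∈ E`. -/
structure Pre {H M : Type*} [Group H] [AddCommGroup M] [DistribMulAction H M] (E : Set M) (a : M → H) : Prop where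
  two : ∀ m : M, m + m = 0
  faithful : ∀ x : H, (∀ m : M, x • m = m) → x = 1
  solv : Group.IsSolvable H
  o2 : pCore 2 H = ⊥
  inv : ∀ h : H, ∀ e ∈ E, h • e ∈ E
  trans : ∀ e ∈ E, ∀ f ∈ E, ∃ h : H, f = h • e
  gen : AddSubgroup.closure E = ⊤
  ne : ∃ e, e ∈ E
  ne_zero : ∀ e ∈ E, e ≠ 0
  conj : ∀ h : H, ∀ e ∈ E, a (h • e) = h * a e * h⁻¹
  sq : ∀ e ∈ E, a e * a e = 1
  card : ∀ e ∈ E, Nat.card (cm M (a e)) = 4
  mem : ∀ e ∈ E, e ∈ cm M (a e)
  only : ∀ e ∈ E, ∀ f ∈ E, f ∈ cm M (a e) → f = e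

/-- The configuration without natural elements. -/
structure RT {H M : Type*} [Group H] [AddCommGroup M] [DistribMulAction H M] (E : Set M) (a : M → H) : Prop
    extends Pre E a where
  nat : ∀ e ∈ E, ∀ x ∈ pCore 3 H, x ^ 3 = 1 → a e * x * a e = x⁻¹ → Nat.card (cm M x) ≠ 4

/-- the center of `O_p(H)` as a subgroup of `H` -/
def zp (H : Type*) [Group H] (p : ℕ) : Subgroup H := pCore p H ⊓ centralizer (pCore p H : Set H)

theorem zp_normal (H : Type*) [Group H] (p : ℕ) : (zp H p).Normal := by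
  haveI : (pCore p H).Normal := Lib.Cores.pCore_normal p
  unfold zp
  infer_instance

theorem zp_comm {H : Type*} [Group H] {p : ℕ} {x y : H} (hx : x ∈ zp H p) (hy : y ∈ zp H p) :
    x * y = y * x := ((mem_centralizer_iff.mp hx.2) y hy.1).symm

theorem zp_ne_bot (H : Type*) [Group H] [Finite H] {p : ℕ} (hp : p.Prime) (h : pCore p H ≠ ⊥) :
    zp H p ≠ ⊥ := by
  haveI : Fact p.Prime := ⟨hp⟩
  haveI : Nontrivial (pCore p H) := (Subgroup.nontrivial_iff_ne_bot _).mpr h
  have h1 := (Lib.Cores.pCore_isPGroup (G := H) p).bot_lt_center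
  obtain ⟨x, hx, hx1⟩ := (Subgroup.bot_or_exists_ne_one (center (pCore p H))).resolve_left h1.ne'
  intro hbot
  have h2 : (x : H) ∈ zp H p := by
    refine ⟨x.2, mem_centralizer_iff.mpr fun y hy => ?_⟩
    exact congrArg Subtype.val (mem_center_iff.mp hx ⟨y, hy⟩)
  rw [hbot, mem_bot] at h2
  exact hx1 (Subtype.ext h2)

namespace Pre

variable {H M : Type*} [Group H] [AddCommGroup M] [DistribMulAction H M] {E : Set M} {a : M → H}

section basic

/-- elements commuting with `a e` fix `e` -/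
theorem smul_eq_of_comm (h : Pre E a) {e : M} (he : e ∈ E) {y : H} (hy : y * a e = a e * y) : y • e = e := by
  have h1 : a (y • e) = a e := by rw [h.conj y e he, hy, mul_inv_cancel_right]
  refine h.only e he _ (h.inv y e he) ?_
  rw [← h1]
  exact h.mem _ (h.inv y e he)

/-- elements of odd order commuting with `a e` centralize `[M, a e]` -/
theorem smul_eq_of_comm' [Finite M] (h : Pre E a) {e : M} (he : e ∈ E) {y : H} (hy : y * a e = a e * y) {n : ℕ}
    (hn : n % 2 = 1) (hyn : y ^ n = 1) {m : M} (hm : m ∈ cm M (a e)) : y • m = m := by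
  have h1 := h.smul_eq_of_comm he hy
  by_cases hm0 : m = 0
  · rw [hm0, smul_zero]
  by_cases hme : m = e
  · rw [hme, h1]
  have h2 := four_of_card h.two (h.card e he) (h.mem e he) hm (h.ne_zero e he) hm0 (Ne.symm hme)
    (smul_mem_cm_of_comm hy hm)
  rcases h2 with h2 | h2 | h2 | h2
  · exact absurd ((smul_eq_zero_iff_eq y).mp h2) hm0
  · exfalso
    apply hme
    rw [← h1] at h2
    exact MulAction.injective y h2
  · exact h2
  · exfalso
    have h3 : y • m + m = e := by rw [h2, add_assoc, h.two, add_zero]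
    have h4 := mem_cm_self y m
    rw [h3] at h4
    exact h.ne_zero e he (eq_zero_of_mem h.two hn hyn h4 h1)

/-- `a e` fixes `[M, a e]` -/
theorem a_smul (h : Pre E a) {e : M} (he : e ∈ E) {m : M} (hm : m ∈ cm M (a e)) : a e • m = m := by
  obtain ⟨n, rfl⟩ := hm
  rw [opr_apply, smul_add, ← mul_smul, h.sq e he, one_smul, add_comm]

/-- there is a central element of `O_p(H)` of order `p` inverted by `a e` -/
theorem exists_z [Finite H] (h : Pre E a) {p : ℕ} (hp : p.Prime) (hne : pCore p H ≠ ⊥) {e : M} (he : e ∈ E) :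
    ∃ z ∈ zp H p, z ≠ 1 ∧ z ^ p = 1 ∧ a e * z * a e = z⁻¹ := by
  haveI := zp_normal H p
  have hinva : ∀ f ∈ E, (a f)⁻¹ = a f := fun f hf => inv_eq_of_mul_eq_one_left (h.sq f hf)
  by_cases hcomm : ∀ y ∈ zp H p, y * a e = a e * y
  · exfalso
    apply zp_ne_bot H hp hne
    rw [eq_bot_iff]
    intro y hy
    rw [mem_bot]
    apply h.faithful
    have h1 : ∀ f ∈ E, y • f = f := by
      intro f hf
      obtain ⟨g, rfl⟩ := h.trans e he f hf
      refine h.smul_eq_of_comm hf ?_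
      rw [h.conj g e he]
      have h2 := hcomm (g⁻¹ * y * g) (by
        have := (zp_normal H p).conj_mem y hy g⁻¹
        rwa [inv_inv] at this)
      calc y * (g * a e * g⁻¹) = g * (g⁻¹ * y * g * a e) * g⁻¹ := by group
        _ = g * (a e * (g⁻¹ * y * g)) * g⁻¹ := by rw [h2]
        _ = g * a e * g⁻¹ * y := by group
    have h3 : fx M y = ⊤ := by
      rw [eq_top_iff, ← h.gen, AddSubgroup.closure_le]
      exact h1
    intro m
    have : m ∈ fx M y := by rw [h3]; trivial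
    exact this
  · push Not at hcomm
    obtain ⟨y, hy, hya⟩ := hcomm
    set! w := y * (a e * y⁻¹ * (a e)⁻¹) with hw
    have hwz : w ∈ zp H p := mul_mem hy ((zp_normal H p).conj_mem _ (inv_mem hy) _)
    have hw1 : w ≠ 1 := by
      intro e1
      apply hya
      calc y * a e = (y * (a e * y⁻¹ * (a e)⁻¹)) * a e * y := by group
        _ = a e * y := by rw [← hw, e1, one_mul]
    have hwinv : a e * w * a e = w⁻¹ := by
      have e2 : a e * w * a e = (a e * y * a e) * (y⁻¹ * (a e)⁻¹ * a e) * 1 := by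
        have : a e * w * a e = (a e * y * a e) * (y⁻¹ * (a e)⁻¹ * a e) := by rw [hw]; group
        rw [this, mul_one]
      have e3 : w⁻¹ = a e * y * (a e)⁻¹ * y⁻¹ := by rw [hw]; group
      rw [e2, e3, hinva e he, mul_one, mul_assoc y⁻¹, h.sq e he, mul_one]
    have hP := Lib.Cores.pCore_isPGroup (G := H) p
    obtain ⟨k, hk⟩ := hP ⟨w, hwz.1⟩
    have hk' : w ^ p ^ k = 1 := by simpa only [_root_.SubmonoidClass.mk_pow, _root_.OneMemClass.coe_one] using congrArg Subtype.val hk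
    classical
    have hex : ∃ k, w ^ p ^ k = 1 := ⟨k, hk'⟩
    have h0 : Nat.find hex ≠ 0 := by
      intro e0
      have := Nat.find_spec hex
      rw [e0, pow_zero, pow_one] at this
      exact hw1 this
    obtain ⟨m, hm⟩ := Nat.exists_eq_succ_of_ne_zero h0
    refine ⟨w ^ p ^ m, pow_mem hwz _, Nat.find_min hex (by omega), ?_, ?_⟩
    · have := Nat.find_spec hex
      rw [hm, pow_succ, pow_mul] at this
      exact this
    · have e4 : a e * w ^ p ^ m * a e = (a e * w * (a e)⁻¹) ^ p ^ m := by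
        rw [conj_pow, hinva e he]
      rw [e4, hinva e he, hwinv, inv_pow]

/-- the center of `O_3(H)` has no fixed vectors if `E ≤ [M, Z(O_3(H))]` -/
theorem eq_zero_of_fixed [Finite H] (h : Pre E a) {m : M} (hm : ∀ q ∈ zp H 3, q • m = m)
    (hE : ∀ e ∈ E, ∃ q ∈ zp H 3, e ∈ cm M q) : m = 0 := by
  classical
  haveI : Fact (Nat.Prime 3) := ⟨Nat.prime_three⟩
  haveI := Fintype.ofFinite (zp H 3)
  let tr : M →+ M := ∑ q : zp H 3, DistribSMul.toAddMonoidHom M (q : H)
  have htr : ∀ m, tr m = ∑ q : zp H 3, (q : H) • m := by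
    intro m
    rw [AddMonoidHom.finsetSum_apply]
    rfl
  have h1 : ∀ q : zp H 3, ∀ n : M, tr ((q : H) • n) = tr n := by
    intro q n
    rw [htr, htr]
    refine Fintype.sum_equiv (Equiv.mulRight q) _ _ (fun q' => ?_)
    change (q' : H) • (q : H) • n = ((q' * q : zp H 3) : H) • n
    rw [← mul_smul]; rfl
  have h2 : tr.ker = ⊤ := by
    rw [eq_top_iff, ← h.gen, AddSubgroup.closure_le]
    intro e he
    obtain ⟨q, hq, n, hn⟩ := hE e he
    change tr e = 0
    rw [← hn, opr_apply, map_add, h1 ⟨q, hq⟩ n, h.two]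
  have h3 : tr m = 0 := by
    have : m ∈ tr.ker := by rw [h2]; trivial
    exact this
  rw [htr, Finset.sum_congr rfl (fun (q : zp H 3) _ => hm (q : H) q.2), Finset.sum_const, Finset.card_univ,
    ← Nat.card_eq_fintype_card] at h3
  have hP : IsPGroup 3 (zp H 3) := (Lib.Cores.pCore_isPGroup (G := H) 3).to_le inf_le_left
  obtain ⟨k, hk⟩ := IsPGroup.iff_card.mp hP
  rw [hk, odd_nsmul h.two (Nat.odd_iff.mp (Odd.pow (by decide)))] at h3
  exact h3

/-- In rank two there are no natural elements, if `e ∈ [M, x]` for each natural `x` inverted by `a e`. -/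
theorem toRT [Finite H] [Finite M] (h : Pre E a)
    (hD : ∀ e ∈ E, ∀ x ∈ pCore 3 H, x ^ 3 = 1 → x ≠ 1 → a e * x * a e = x⁻¹ → Nat.card (cm M x) = 4 →
      e ∈ cm M x) : RT E a := by
  refine ⟨h, fun e he x hx hx3 hxi hx4 => ?_⟩
  have hsq := h.sq e he
  have hx1 : x ≠ 1 := by
    rintro rfl
    have h3 : cm M (1 : H) = ⊥ := by
      rw [eq_bot_iff]
      rintro _ ⟨m, rfl⟩
      rw [opr_apply, one_smul, h.two]
      exact zero_mem _
    rw [h3, AddSubgroup.card_bot] at hx4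
    norm_num at hx4
  have hne : pCore 3 H ≠ ⊥ := by
    intro hbot
    rw [hbot, mem_bot] at hx
    exact hx1 hx
  obtain ⟨z, hz, hz1, hz3, hzi⟩ := h.exists_z Nat.prime_three hne he
  have hex := hD e he x hx hx3 hx1 hxi hx4
  have he0 := h.ne_zero e he
  have hae := h.mem e he
  have hinv3 : ∀ y : H, y ^ 3 = 1 → y⁻¹ = y * y := fun y hy =>
    inv_eq_of_mul_eq_one_left (by rw [← pow_three']; exact hy)
  have hact3 : ∀ y : H, y ^ 3 = 1 → ∀ m : M, y • y • y • m = m := fun y hy m => by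
    rw [← mul_smul, ← mul_smul, ← pow_three', hy, one_smul]
  have hzx : z * x = x * z := ((mem_centralizer_iff.mp hz.2) x hx).symm
  -- elements of order dividing 3 inverted by `a e` fixing `e`
  have huniq : ∀ y : H, y ^ 3 = 1 → a e * y * a e = y⁻¹ → y • e = e → y = 1 := by
    intro y hy3 hyi hye
    have h1 : a e = y * a e * y⁻¹ := by
      have := h.conj y e he
      rwa [hye] at this
    have h2 : a e * y = y * a e := by
      calc a e * y = y * a e * y⁻¹ * y := by rw [← h1]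
        _ = y * a e := by group
    have h3 : y = y⁻¹ := by
      rw [← hyi, h2, mul_assoc, hsq, mul_one]
    have h4 : y * y = 1 := by
      calc y * y = y * y⁻¹ := by rw [← h3]
        _ = 1 := mul_inv_cancel y
    rw [pow_three', h4, one_mul] at hy3
    exact hy3
  have hmulinv : ∀ y w : H, y * w = w * y → a e * y * a e = y⁻¹ → a e * w * a e = w⁻¹ →
      a e * (y * w) * a e = (y * w)⁻¹ := by
    intro y w hyw hy hw
    calc a e * (y * w) * a e = a e * y * (a e * a e) * w * a e := by rw [hsq]; group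
      _ = (a e * y * a e) * (a e * w * a e) := by group
      _ = (y * w)⁻¹ := by rw [hy, hw, ← mul_inv_rev, hyw]
  -- `|[M, z]| = 4`
  have hz4 : Nat.card (cm M z) = 4 := by
    rcases card_cases h.two h.faithful hsq hzi (h.card e he) Nat.prime_three (by norm_num) hz3 hz1 with
      ⟨_, h1⟩ | ⟨_, h1⟩
    · exact h1
    · exfalso
      have hez := (cm_le_of_card h.two hsq hzi (by norm_num : 3 % 2 = 1) hz3 (h.card e he) h1).1 hae
      have hxe0 : x • e ≠ 0 := fun h2 => he0 ((smul_eq_zero_iff_eq x).mp h2)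
      have hxee : e ≠ x • e := fun h2 => he0 (eq_zero_of_mem h.two (by norm_num : 3 % 2 = 1) hx3 hex h2.symm)
      have hze : z • e ∈ cm M x := smul_mem_cm_of_comm hzx hex
      rcases four_of_card h.two hx4 hex (smul_self_mem_cm hex) he0 hxe0 hxee hze with h2 | h2 | h2 | h2
      · exact he0 ((smul_eq_zero_iff_eq z).mp h2)
      · exact he0 (eq_zero_of_mem h.two (by norm_num : 3 % 2 = 1) hz3 hez h2)
      · have hXZ : x⁻¹ * z = z * x⁻¹ := ((show Commute z x from hzx).inv_right.eq).symm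
        have hxi' : a e * x⁻¹ * a e = x⁻¹⁻¹ := by
          calc a e * x⁻¹ * a e = (a e * x * a e)⁻¹ := by
                rw [mul_inv_rev, mul_inv_rev, inv_eq_of_mul_eq_one_left hsq, mul_assoc]
            _ = x⁻¹⁻¹ := by rw [hxi]
        have h3 : x⁻¹ * z = 1 := by
          refine huniq _ ?_ (hmulinv _ _ hXZ hxi' hzi) ?_
          · rw [(show Commute x⁻¹ z from hXZ).mul_pow, inv_pow, hx3, hz3, inv_one, one_mul]
          · rw [mul_smul, h2, inv_smul_smul]
        have h4 : x = z := inv_mul_eq_one.mp h3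
        rw [h4, h1] at hx4
        norm_num at hx4
      · have h3 : x * z = 1 := by
          refine huniq _ ?_ (hmulinv _ _ hzx.symm hxi hzi) ?_
          · rw [(show Commute x z from hzx.symm).mul_pow, hx3, hz3, one_mul]
          · rw [mul_smul, h2]
            have h4 : e + x • e = x • x • e := by
              obtain ⟨u, hu⟩ := hex
              rw [opr_apply] at hu
              have e1 : x • e = x • x • u + x • u := by rw [← hu, smul_add]
              have e2 : x • x • e = u + x • x • u := by rw [e1, smul_add, hact3 x hx3]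
              rw [e2, e1, ← hu]
              calc x • u + u + (x • x • u + x • u) = u + x • x • u + (x • u + x • u) := by abel
                _ = u + x • x • u := by rw [h.two, add_zero]
            rw [h4, hact3 x hx3]
        have h4 : x = z⁻¹ := eq_inv_of_mul_eq_one_left h3
        rw [h4, cm_inv, h1] at hx4
        norm_num at hx4
  have hez := hD e he z hz.1 hz3 hz1 hzi hz4
  -- a fixed vector in `[M, a e]`
  have haz : ∀ m : M, a e • z • m = z • z • a e • m := by
    intro m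
    rw [inv_smul_eq hsq hzi m, hinv3 z hz3, mul_smul]
  have hz3' := hact3 z hz3
  have hze_ne : z • e ≠ e := fun h2 => he0 (eq_zero_of_mem h.two (by norm_num : 3 % 2 = 1) hz3 hez h2)
  have hsum : ∀ m ∈ cm M z, m + z • m + z • z • m = 0 := by
    rintro _ ⟨u, rfl⟩
    rw [opr_apply]
    simp only [smul_add]
    rw [hz3']
    calc z • u + u + (z • z • u + z • u) + (u + z • z • u)
        = (u + u) + (z • u + z • u) + (z • z • u + z • z • u) := by abel
      _ = 0 := by rw [h.two u, h.two (z • u), h.two (z • z • u)]; simp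
  have hm0 : ∃ m0 ∈ cm M (a e), m0 ≠ 0 ∧ z • m0 = m0 := by
    by_contra hcon
    push Not at hcon
    have h1 : ∀ m ∈ cm M (a e), m + z • m + z • z • m = 0 := by
      rintro _ ⟨u, rfl⟩
      by_contra hne0
      refine hcon _ ?_ hne0 ?_
      · refine ⟨u + z • u + z • z • u, ?_⟩
        simp only [opr_apply, smul_add]
        rw [haz, haz, haz, hz3']
        abel
      · simp only [smul_add]
        rw [hz3']
        abel
    have h2 : cm M (a e) ≤ cm M z := by
      intro m hm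
      refine ⟨z • m, ?_⟩
      rw [opr_apply]
      have h4 : m + (z • m + z • z • m) = m + m := by rw [← add_assoc, h1 m hm, h.two]
      rw [add_comm]
      exact add_left_cancel h4
    have h3 : cm M (a e) = cm M z := AddSubgroup.eq_of_le_of_card_ge h2 (by rw [hz4, h.card e he])
    have h4 : z • e ∈ cm M (a e) := by rw [h3]; exact smul_self_mem_cm hez
    have h5 := h.a_smul he h4
    rw [haz, h.a_smul he hae] at h5
    exact hze_ne (MulAction.injective z h5)
  obtain ⟨m0, hm1, hm2, hm3⟩ := hm0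
  have hem0 : e ≠ m0 := fun e1 => hze_ne (by rw [e1]; exact hm3)
  have hfix : ∀ f ∈ zp H 3, f • e = e → f • m0 = m0 := by
    intro f hf hfe
    have h1 : a e = f * a e * f⁻¹ := by
      have := h.conj f e he
      rwa [hfe] at this
    have h2 : f * a e = a e * f := (eq_mul_inv_iff_mul_eq.mp h1).symm
    have h3 : z • f • m0 = f • m0 := by
      rw [← mul_smul, zp_comm hz hf, mul_smul, hm3]
    rcases four_of_card h.two (h.card e he) hae hm1 he0 hm2 hem0 (smul_mem_cm_of_comm h2 hm1) with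
      h4 | h4 | h4 | h4
    · exact absurd ((smul_eq_zero_iff_eq f).mp h4) hm2
    · exact absurd (by rw [h4] at h3; exact h3) hze_ne
    · exact h4
    · exfalso
      rw [h4, smul_add, hm3] at h3
      exact hze_ne (add_right_cancel h3)
  refine hm2 (h.eq_zero_of_fixed (fun q hq => ?_) fun f hf => ?_)
  · have hqz : q * z = z * q := zp_comm hq hz
    have hze0 : z • e ≠ 0 := fun h2 => he0 ((smul_eq_zero_iff_eq z).mp h2)
    rcases four_of_card h.two hz4 hez (smul_self_mem_cm hez) he0 hze0 (Ne.symm hze_ne)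
      (smul_mem_cm_of_comm hqz hez) with h1 | h1 | h1 | h1
    · exact absurd ((smul_eq_zero_iff_eq q).mp h1) he0
    · exact hfix q hq h1
    · have h2 := hfix (z⁻¹ * q) (mul_mem (inv_mem hz) hq) (by rw [mul_smul, h1, inv_smul_smul])
      rw [mul_smul] at h2
      have h3 := congrArg (z • ·) h2
      simp only [smul_inv_smul] at h3
      rw [h3, hm3]
    · have h0 := hsum e hez
      have h4 : e + z • e = z • z • e := add_right_cancel (h0.trans (h.two (z • z • e)).symm)
      have h2 := hfix (z * q) (mul_mem hz hq) (by rw [mul_smul, h1, h4, hz3'])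
      rw [mul_smul, ← hm3] at h2
      have h3 := MulAction.injective z h2
      rw [hm3] at h3
      exact h3
  · obtain ⟨g, rfl⟩ := h.trans e he f hf
    exact ⟨g * z * g⁻¹, (zp_normal H 3).conj_mem z hz g, smul_mem_cm hez⟩

end basic

end Pre

namespace RT

variable {H M : Type*} [Group H] [AddCommGroup M] [DistribMulAction H M] {E : Set M} {a : M → H}

/-! ### elements of order 3 -/

/-- `z` is a central element of `O_3(H)` of order 3 inverted by `a e` -/
structure Zt (a : M → H) (e : M) (z : H) : Prop where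
  mem : z ∈ zp H 3
  ne : z ≠ 1
  pow : z ^ 3 = 1
  inv : a e * z * a e = z⁻¹

section three

variable {e : M} {z : H}

theorem sum3 (h : RT E a) {x : H} (hx : x ^ 3 = 1) {m : M} (hm : m ∈ cm M x) :
    m + x • m + x • x • m = 0 := by
  obtain ⟨u, rfl⟩ := hm
  rw [opr_apply]
  have h3 : x • x • x • u = u := by
    rw [← mul_smul, ← mul_smul, ← pow_three', hx, one_smul]
  simp only [smul_add]
  rw [h3]
  have e1 := h.two u
  have e2 := h.two (x • u)
  have e3 := h.two (x • x • u)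
  calc x • u + u + (x • x • u + x • u) + (u + x • x • u)
      = (u + u) + (x • u + x • u) + (x • x • u + x • x • u) := by abel
    _ = 0 := by rw [e1, e2, e3]; simp

variable [Finite H] [Finite M]

theorem Zt.card (hz : Zt a e z) (h : RT E a) (he : e ∈ E) : Nat.card (cm M z) = 16 := by
  rcases card_cases h.two h.faithful (h.sq e he) hz.inv (h.card e he) Nat.prime_three (by norm_num) hz.pow
    hz.ne with ⟨_, h1⟩ | ⟨_, h1⟩
  · exact absurd h1 (h.nat e he z hz.mem.1 hz.pow hz.inv)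
  · exact h1

theorem Zt.le (hz : Zt a e z) (h : RT E a) (he : e ∈ E) : cm M (a e) ≤ cm M z :=
  (cm_le_of_card h.two (h.sq e he) hz.inv (by norm_num : 3 % 2 = 1) hz.pow (h.card e he) (hz.card h he)).1

theorem Zt.fix_mem (hz : Zt a e z) (h : RT E a) (he : e ∈ E) {m : M} (hm : m ∈ cm M z) (ham : a e • m = m) :
    m ∈ cm M (a e) :=
  (cm_le_of_card h.two (h.sq e he) hz.inv (by norm_num : 3 % 2 = 1) hz.pow (h.card e he) (hz.card h he)).2.1
    m hm ham

theorem Zt.exists_eq (hz : Zt a e z) (h : RT E a) (he : e ∈ E) {m : M} (hm : m ∈ cm M z) :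
    ∃ c ∈ cm M (a e), ∃ d ∈ cm M (a e), m = c + z • d :=
  (cm_le_of_card h.two (h.sq e he) hz.inv (by norm_num : 3 % 2 = 1) hz.pow (h.card e he) (hz.card h he)).2.2
    m hm

/-- the only central elements of `O_3(H)` of order 3 inverted by `a e` are `z`, `z²` -/
theorem Zt.uniq (hz : Zt a e z) (h : RT E a) (he : e ∈ E) {w : H} (hw : w ∈ zp H 3) (hw3 : w ^ 3 = 1)
    (hwi : a e * w * a e = w⁻¹) : w = 1 ∨ w = z ∨ w = z * z := by
  by_contra hcon
  push Not at hcon
  obtain ⟨hw1, hwz, hwzz⟩ := hcon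
  have hzw : z * w = w * z := zp_comm hz.mem hw
  have hz3 : z * z * z = 1 := by rw [← pow_three']; exact hz.pow
  have hw3' : w * w * w = 1 := by rw [← pow_three']; exact hw3
  have hzz : z⁻¹ = z * z := inv_eq_of_mul_eq_one_left hz3
  have hww : w⁻¹ = w * w := inv_eq_of_mul_eq_one_left hw3'
  have hsq := h.sq e he
  have hmul : ∀ x y : H, x * y = y * x → a e * x * a e = x⁻¹ → a e * y * a e = y⁻¹ →
      a e * (x * y) * a e = (x * y)⁻¹ := by
    intro x y hxy hx hy
    calc a e * (x * y) * a e = (a e * x * a e) * (a e * y * a e) := by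
          calc a e * (x * y) * a e = a e * x * (a e * a e) * y * a e := by rw [hsq]; group
            _ = (a e * x * a e) * (a e * y * a e) := by group
      _ = (x * y)⁻¹ := by rw [hx, hy, ← mul_inv_rev, hxy]
  have hZt : ∀ y ∈ zp H 3, y ≠ 1 → y ^ 3 = 1 → a e * y * a e = y⁻¹ → e + y • e + y • y • e = 0 := by
    intro y hy hy1 hy3 hyi
    have hZ : Zt a e y := ⟨hy, hy1, hy3, hyi⟩
    exact h.sum3 hy3 (hZ.le h he (h.mem e he))
  have h1 := hZt z hz.mem hz.ne hz.pow hz.inv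
  have h2 := hZt w hw hw1 hw3 hwi
  have h3 := hZt (z * w) (mul_mem hz.mem hw) (fun e1 => hwzz (by
    rw [← hzz]; exact (inv_eq_of_mul_eq_one_right e1).symm)) (by
    rw [(show Commute z w from hzw).mul_pow, hz.pow, hw3, one_mul]) (hmul z w hzw hz.inv hwi)
  have hzw2 : z * (w * w) = w * w * z := by rw [← mul_assoc, hzw, mul_assoc, hzw, ← mul_assoc]
  have h4 := hZt (z * (w * w)) (mul_mem hz.mem (mul_mem hw hw)) (fun e1 => hwz (by
    rw [← hww] at e1; exact (mul_inv_eq_one.mp e1).symm)) (by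
    rw [(show Commute z (w * w) from hzw2).mul_pow, hz.pow, ← pow_two, ← pow_mul, mul_comm 2 3, pow_mul, hw3,
      one_mul, one_pow]) (hmul z (w * w) hzw2 hz.inv (hmul w w rfl hwi hwi))
  have h5 : z • e + z • w • e + z • w • w • e = 0 := by
    have := congrArg (z • ·) h2
    simpa only [smul_add, smul_zero] using this
  have h6 : z • z • e + z • z • w • e + z • z • w • w • e = 0 := by
    have := congrArg (z • ·) h5
    simpa only [smul_add, smul_zero] using this
  have e1 : (z * w) • (z * w) • e = z • z • w • w • e := by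
    simp only [← mul_smul]
    congr 1
    calc z * w * (z * w) = z * (w * z) * w := by group
      _ = z * (z * (w * w)) := by rw [← hzw]; group
  have e2 : (z * (w * w)) • (z * (w * w)) • e = z • z • w • e := by
    simp only [← mul_smul]
    congr 1
    calc z * (w * w) * (z * (w * w)) = z * (w * w * z) * (w * w) := by group
      _ = z * (z * w) * (w * w * w) := by rw [← hzw2]; group
      _ = z * (z * w) := by rw [hw3', mul_one]
  rw [e1, mul_smul] at h3
  rw [e2, mul_smul, mul_smul] at h4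
  have hS := h.two (e + z • e + z • w • e + z • w • w • e + z • z • e + z • z • w • e + z • z • w • w • e)
  apply h.ne_zero e he
  have key : e = (e + z • e + z • z • e) + (e + z • w • e + z • z • w • w • e) +
      (e + z • w • w • e + z • z • w • e) + (z • e + z • w • e + z • w • w • e) +
      (z • z • e + z • z • w • e + z • z • w • w • e) -
      ((e + z • e + z • w • e + z • w • w • e + z • z • e + z • z • w • e + z • z • w • w • e) +
      (e + z • e + z • w • e + z • w • w • e + z • z • e + z • z • w • e + z • z • w • w • e)) := by abel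
  rw [h1, h3, h4, h5, h6, hS] at key
  simpa using key

theorem Zt.z3 (hz : Zt a e z) (m : M) : z • z • z • m = m := by
  rw [← mul_smul, ← mul_smul, ← pow_three', hz.pow, one_smul]

/-- elements of `Z(O_3(H))` of order 3 act as powers of `z` on `[M, z]` -/
theorem Zt.act_cases (hz : Zt a e z) (h : RT E a) (he : e ∈ E) {x : H} (hx : x ∈ zp H 3) (hx3 : x ^ 3 = 1) :
    (∀ b ∈ cm M z, x • b = b) ∨ (∀ b ∈ cm M z, x • b = z • b) ∨ (∀ b ∈ cm M z, x • b = z • z • b) := by
  haveI := zp_normal H 3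
  have hsq := h.sq e he
  have hinva : (a e)⁻¹ = a e := inv_eq_of_mul_eq_one_left hsq
  obtain ⟨y, hy⟩ : ∃ y, y = a e * x * a e := ⟨_, rfl⟩
  have hyz : y ∈ zp H 3 := by
    have := (zp_normal H 3).conj_mem x hx (a e)
    rw [hinva, ← hy] at this
    exact this
  have hya : a e * y * a e = x := by
    rw [hy]
    calc a e * (a e * x * a e) * a e = (a e * a e) * x * (a e * a e) := by group
      _ = x := by rw [hsq, one_mul, mul_one]
  have hy3 : y ^ 3 = 1 := by
    have : y = a e * x * (a e)⁻¹ := by rw [hinva, hy]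
    rw [this, conj_pow, hx3, mul_one, mul_inv_cancel]
  have hxy : x * y = y * x := zp_comm hx hyz
  have hXY : Commute x y := hxy
  have hw : x * y⁻¹ ∈ zp H 3 := mul_mem hx (inv_mem hyz)
  have hw3 : (x * y⁻¹) ^ 3 = 1 := by rw [hXY.inv_right.mul_pow, hx3, inv_pow, hy3, one_mul, inv_one]
  have hdist : ∀ u v : H, a e * (u * v) * a e = (a e * u * a e) * (a e * v * a e) := by
    intro u v
    calc a e * (u * v) * a e = a e * u * (a e * a e) * v * a e := by rw [hsq]; group
      _ = (a e * u * a e) * (a e * v * a e) := by group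
  have hinv' : ∀ u : H, a e * u⁻¹ * a e = (a e * u * a e)⁻¹ := by
    intro u
    rw [mul_inv_rev, mul_inv_rev, hinva, mul_assoc]
  have hwi : a e * (x * y⁻¹) * a e = (x * y⁻¹)⁻¹ := by
    rw [hdist, hinv', hya, ← hy, mul_inv_rev, inv_inv]
  have hc3 : (x * y) ^ 3 = 1 := by rw [hXY.mul_pow, hx3, hy3, one_mul]
  have hca : x * y * a e = a e * (x * y) := by
    have h1 : a e * (x * y) * a e = x * y := by rw [hdist, hya, ← hy, hxy]
    calc x * y * a e = a e * (x * y) * a e * a e := by rw [h1]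
      _ = a e * (x * y) := by rw [mul_assoc, hsq, mul_one]
  have hcz : x * y * z = z * (x * y) := zp_comm (mul_mem hx hyz) hz.mem
  have hcB : ∀ b ∈ cm M z, (x * y) • b = b := by
    intro b hb
    obtain ⟨c, hc, d, hd, rfl⟩ := hz.exists_eq h he hb
    rw [smul_add, h.smul_eq_of_comm' he hca (by norm_num : 3 % 2 = 1) hc3 hc, ← mul_smul, hcz, mul_smul,
      h.smul_eq_of_comm' he hca (by norm_num : 3 % 2 = 1) hc3 hd]
  have hwB : ∀ b ∈ cm M z, (x * y⁻¹) • b ∈ cm M z := fun b hb =>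
    smul_mem_cm_of_comm (zp_comm hw hz.mem) hb
  have hx4 : x = (x * y) * (x * y) * (x * y⁻¹) * (x * y⁻¹) := by
    have e1 : (x * y) * (x * y) * (x * y⁻¹) * (x * y⁻¹) = x * y * (x * y) * (y⁻¹ * x * (y⁻¹ * x)) := by
      rw [← hXY.inv_right.eq]; group
    have e2 : x * y * (x * y) * (y⁻¹ * x * (y⁻¹ * x)) = x * (y * x) * x * y⁻¹ * x := by group
    rw [e1, e2, ← hxy]
    have e3 : x * (x * y) * x * y⁻¹ * x = x * x * (y * x) * y⁻¹ * x := by group
    rw [e3, ← hxy]
    have e4 : x * x * (x * y) * y⁻¹ * x = (x * x * x) * x := by group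
    rw [e4, ← pow_three', hx3, one_mul]
  have hact : ∀ b ∈ cm M z, x • b = (x * y⁻¹) • (x * y⁻¹) • b := by
    intro b hb
    have h1 : x • b = (x * y) • (x * y) • (x * y⁻¹) • (x * y⁻¹) • b := by
      simp only [← mul_smul]
      congr 1
      refine hx4.trans ?_
      group
    rw [h1, hcB _ (hwB _ (hwB _ hb)), hcB _ (hwB _ (hwB _ hb))]
  rcases hz.uniq h he hw hw3 hwi with h1 | h1 | h1
  · left
    intro b hb
    rw [hact b hb, h1, one_smul, one_smul]
  · right; right
    intro b hb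
    rw [hact b hb, h1]
  · right; left
    intro b hb
    rw [hact b hb, h1, mul_smul, mul_smul, hz.z3]

/-- the projection onto `[M, z]` -/
theorem Zt.proj_mem (_ : Zt a e z) (_ : RT E a) (m : M) : z • m + z • z • m ∈ cm M z := by
  have := smul_mem_cm_of_comm (g := z) rfl (mem_cm_self z m)
  rw [smul_add, add_comm] at this
  exact this

theorem Zt.proj_fix (hz : Zt a e z) (_ : RT E a) (m : M) : m + z • m + z • z • m ∈ fx M z := by
  rw [mem_fx]
  simp only [smul_add]
  rw [hz.z3]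
  abel

theorem Zt.proj_of_mem (hz : Zt a e z) (h : RT E a) {m : M} (hm : m ∈ cm M z) : z • m + z • z • m = m := by
  have h1 := h.sum3 hz.pow hm
  have h2 := h.two m
  calc z • m + z • z • m = (m + z • m + z • z • m) + (m + m) - m := by
        rw [show (m + z • m + z • z • m) + (m + m) - m = m + m + z • m + z • z • m by abel, h2, zero_add]
    _ = m := by rw [h1, h2, add_zero, zero_sub]; exact (neg_eq_of_add_eq_zero_left h2)

theorem Zt.proj_of_fix (_ : Zt a e z) (h : RT E a) {m : M} (hm : z • m = m) : z • m + z • z • m = 0 := by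
  rw [hm, hm, h.two]

theorem Zt.zero_of_mem (hz : Zt a e z) (h : RT E a) {m : M} (hm : m ∈ cm M z) (hm2 : z • m = m) : m = 0 :=
  eq_zero_of_mem h.two (by norm_num : 3 % 2 = 1) hz.pow hm hm2

theorem Zt.cm_cases' (hz : Zt a e z) (h : RT E a) (he : e ∈ E) {f : M} (hf : f ∈ E) {x : H} (hx : Zt a f x) :
    cm M x = cm M z ∨ cm M z ≤ fx M x := by
  have key : cm M z ≤ cm M x → cm M x = cm M z := fun hle =>
    (AddSubgroup.eq_of_le_of_card_ge hle (by rw [hz.card h he, hx.card h hf])).symm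
  rcases hz.act_cases h he hx.mem hx.pow with h1 | h1 | h1
  · right
    exact h1
  · left
    refine key fun b hb => ⟨z • b, ?_⟩
    rw [opr_apply, h1 _ (smul_self_mem_cm hb)]
    have h2 := h.sum3 hz.pow hb
    have h3 := hz.proj_of_mem h hb
    rw [add_comm, h3]
  · left
    refine key fun b hb => ⟨z • z • b, ?_⟩
    rw [opr_apply, h1 _ (smul_self_mem_cm (smul_self_mem_cm hb)), hz.z3, hz.proj_of_mem h hb]

theorem Zt.cm_cases (hz : Zt a e z) (h : RT E a) (he : e ∈ E) {f : M} (hf : f ∈ E) {x : H} (hx : Zt a f x) :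
    cm M x = cm M z ∨ (cm M z ≤ fx M x ∧ cm M x ≤ fx M z) := by
  rcases hz.cm_cases' h he hf hx with h1 | h1
  · exact Or.inl h1
  · rcases hx.cm_cases' h hf he hz with h2 | h2
    · exact Or.inl h2.symm
    · exact Or.inr ⟨h1, h2⟩

theorem Zt.mem_self (hz : Zt a e z) (h : RT E a) (he : e ∈ E) : e ∈ cm M z := hz.le h he (h.mem e he)

/-- `f ∈ E ∩ [M, z]` has the same space -/
theorem Zt.cm_eq_of_mem (hz : Zt a e z) (h : RT E a) (he : e ∈ E) {f : M} (hf : f ∈ E) {x : H} (hx : Zt a f x)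
    (hfz : f ∈ cm M z) : cm M x = cm M z := by
  rcases hz.cm_cases h he hf hx with h1 | ⟨_, h1⟩
  · exact h1
  · exact absurd (hz.zero_of_mem h hfz (h1 (hx.mem_self h hf))) (h.ne_zero f hf)

theorem Zt.a_z (hz : Zt a e z) (h : RT E a) (he : e ∈ E) (m : M) : a e • z • m = z • z • a e • m := by
  have h1 := inv_smul_eq (h.sq e he) hz.inv m
  have hzz : z⁻¹ = z * z := inv_eq_of_mul_eq_one_left (by rw [← pow_three']; exact hz.pow)
  rw [h1, hzz, mul_smul]

/-- `A ∩ z A = 0` -/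
theorem Zt.inf_eq (hz : Zt a e z) (h : RT E a) (he : e ∈ E) {c d : M} (hc : c ∈ cm M (a e))
    (hd : d ∈ cm M (a e)) (hcd : d = z • c) : c = 0 :=
  inf_smul_eq h.two (h.sq e he) hz.inv (by norm_num : 3 % 2 = 1) hz.pow (h.a_smul he hc) (hz.le h he hc)
    (h.a_smul he hd) hcd

/-- there is an element of `E ∩ [M, z]` different from `e`, `z e`, `z² e` -/
theorem Zt.exists_other (hz : Zt a e z) (h : RT E a) (he : e ∈ E) (hne : pCore 3 H ≠ ⊥) :
    ∃ f ∈ E, f ∈ cm M z ∧ f ≠ e ∧ f ≠ z • e ∧ f ≠ z • z • e := by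
  by_contra hcon
  push Not at hcon
  obtain ⟨r, hr, hr0, hre⟩ := exists_third (h.card e he) e
  have hrz := hz.le h he hr
  have hez := hz.mem_self h he
  have heq := hz.proj_of_mem h hez
  -- the four-group `{0, e, z e, z² e}`
  let S : AddSubgroup M :=
    { carrier := {m | m = 0 ∨ m = e ∨ m = z • e ∨ m = z • z • e}
      zero_mem' := Or.inl rfl
      add_mem' := by
        have e0 := h.two e
        have e1 := h.two (z • e)
        have e2 := h.two (z • z • e)
        have s := h.sum3 hz.pow hez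
        have a1 : e + z • e = z • z • e := by
          calc e + z • e = (e + z • e + z • z • e) + z • z • e - (z • z • e + z • z • e) + z • z • e
              - z • z • e := by abel
            _ = z • z • e := by rw [s, e2]; abel
        have a2 : z • e + z • z • e = e := heq
        have a3 : e + z • z • e = z • e := by
          calc e + z • z • e = (e + z • e + z • z • e) + z • e - (z • e + z • e) := by abel
            _ = z • e := by rw [s, e1]; abel
        have b1 : z • e + e = z • z • e := by rw [add_comm, a1]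
        have b2 : z • z • e + z • e = e := by rw [add_comm, a2]
        have b3 : z • z • e + e = z • e := by rw [add_comm, a3]
        intro x y hx hy
        rcases hx with hx | hx | hx | hx <;> rcases hy with hy | hy | hy | hy <;> rw [hx, hy]
        all_goals simp only [Set.mem_ofPred_eq, zero_add, add_zero, e0, e1, e2, a1, a2, a3, b1, b2, b3]
        all_goals simp only [_root_.true_or, _root_.or_true, _root_.smul_left_cancel_iff]
      neg_mem' := by
        intro m hm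
        have : -m = m := neg_eq_of_add_eq_zero_left (h.two m)
        rwa [this] }
  have hS : ∀ m : M, z • m + z • z • m ∈ S := by
    let π : M →+ M := (DistribSMul.toAddMonoidHom M z) + (DistribSMul.toAddMonoidHom M (z * z))
    have hπ : ∀ m, π m = z • m + z • z • m := fun m => by
      change z • m + (z * z) • m = _
      rw [mul_smul]
    have h1 : S.comap π = ⊤ := by
      rw [eq_top_iff, ← h.gen, AddSubgroup.closure_le]
      intro f hf
      change π f ∈ S
      rw [hπ]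
      obtain ⟨x, hx1, hx2, hx3, hx4⟩ := h.exists_z Nat.prime_three hne hf
      have hx : Zt a f x := ⟨hx1, hx2, hx3, hx4⟩
      rcases hz.cm_cases h he hf hx with h2 | ⟨_, h2⟩
      · have hfz : f ∈ cm M z := by rw [← h2]; exact hx.mem_self h hf
        rw [hz.proj_of_mem h hfz]
        by_cases f1 : f = e
        · exact Or.inr (Or.inl f1)
        by_cases f2 : f = z • e
        · exact Or.inr (Or.inr (Or.inl f2))
        exact Or.inr (Or.inr (Or.inr (hcon f hf hfz f1 f2)))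
      · rw [hz.proj_of_fix h (h2 (hx.mem_self h hf))]
        exact S.zero_mem
    intro m
    rw [← hπ]
    have : m ∈ S.comap π := by rw [h1]; trivial
    exact this
  have h2 := hS r
  rw [hz.proj_of_mem h hrz] at h2
  have hae := h.mem e he
  rcases h2 with h2 | h2 | h2 | h2
  · exact hr0 h2
  · exact hre h2
  · exact h.ne_zero e he (hz.inf_eq h he hae hr h2)
  · -- `z r = z³ e = e`
    have h3 : e = z • r := by rw [h2, hz.z3]
    exact hr0 (hz.inf_eq h he hr hae h3)

/-- `m` lies on the `⟨z⟩`-orbit of `v` -/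
def Ln (z : H) (v m : M) : Prop := m = v ∨ m = z • v ∨ m = z • z • v

theorem Ln.symm {z : H} (hz : ∀ m : M, z • z • z • m = m) {v m : M} (h : Ln z v m) : Ln z m v := by
  rcases h with rfl | rfl | rfl
  · exact Or.inl rfl
  · exact Or.inr (Or.inr (hz _).symm)
  · exact Or.inr (Or.inl (hz _).symm)

theorem Ln.trans {z : H} (hz : ∀ m : M, z • z • z • m = m) {u v m : M} (h : Ln z u v) (h' : Ln z v m) :
    Ln z u m := by
  rcases h with rfl | rfl | rfl <;> rcases h' with rfl | rfl | rfl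
  · exact Or.inl rfl
  · exact Or.inr (Or.inl rfl)
  · exact Or.inr (Or.inr rfl)
  · exact Or.inr (Or.inl rfl)
  · exact Or.inr (Or.inr rfl)
  · exact Or.inl (hz _)
  · exact Or.inr (Or.inr rfl)
  · exact Or.inl (hz _)
  · exact Or.inr (Or.inl (hz _))

theorem Ln.smul {z g : H} (hg : g * z = z * g) {v m : M} (h : Ln z v m) : Ln z (g • v) (g • m) := by
  rcases h with rfl | rfl | rfl
  · exact Or.inl rfl
  · refine Or.inr (Or.inl ?_)
    rw [← mul_smul, hg, mul_smul]
  · refine Or.inr (Or.inr ?_)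
    rw [← mul_smul g, hg, mul_smul, ← mul_smul g, hg, mul_smul]

/-- the sixteen elements of `[M, z]` -/
theorem Zt.cases16 (hz : Zt a e z) (h : RT E a) (he : e ∈ E) {r : M} (hr : r ∈ cm M (a e)) (hr0 : r ≠ 0)
    (hre : r ≠ e) {m : M} (hm : m ∈ cm M z) :
    m = 0 ∨ Ln z e m ∨ Ln z r m ∨ Ln z (e + r) m ∨ Ln z (e + z • r) m ∨ Ln z (e + z • z • r) m := by
  obtain ⟨c, hc, d, hd, rfl⟩ := hz.exists_eq h he hm
  have hae := h.mem e he
  have hc' := four_of_card h.two (h.card e he) hae hr (h.ne_zero e he) hr0 (Ne.symm hre) hc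
  have hd' := four_of_card h.two (h.card e he) hae hr (h.ne_zero e he) hr0 (Ne.symm hre) hd
  have e0 := h.two e
  have e1 := h.two (z • e)
  have r0 := h.two r
  have r1 := h.two (z • r)
  have se := h.sum3 hz.pow (hz.le h he hae)
  have sr := h.sum3 hz.pow (hz.le h he hr)
  have ae : e + z • e = z • z • e := by
    calc e + z • e = (e + z • e + z • z • e) + (z • z • e + z • z • e) - (z • z • e + z • z • e)
          - z • z • e := by abel
      _ = z • z • e := by rw [se, h.two, zero_add, sub_zero, zero_sub]; exact neg_eq_of_add_eq_zero_left (h.two _)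
  have ar : r + z • r = z • z • r := by
    calc r + z • r = (r + z • r + z • z • r) + (z • z • r + z • z • r) - (z • z • r + z • z • r)
          - z • z • r := by abel
      _ = z • z • r := by rw [sr, h.two, zero_add, sub_zero, zero_sub]; exact neg_eq_of_add_eq_zero_left (h.two _)
  rcases hc' with hc' | hc' | hc' | hc' <;> rcases hd' with hd' | hd' | hd' | hd' <;> rw [hc', hd']
  · left; simp
  · right; left; right; left; simp
  · right; right; left; right; left; simp
  · right; right; right; left; right; left; simp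
  · right; left; left; simp
  · right; left; right; right; exact ae
  · right; right; right; right; left; left; rfl
  · -- `e + z (e + r) = z² (e + z² r)`
    right; right; right; right; right; right; right
    rw [smul_add, smul_add, smul_add, hz.z3, ← add_assoc, ae]
  · right; right; left; left; simp
  · -- `r + z e = z (e + z² r)`
    right; right; right; right; right; right; left
    rw [smul_add, hz.z3, add_comm]
  · right; right; left; right; right; exact ar
  · -- `r + z (e + r) = z (e + z r)`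
    right; right; right; right; left; right; left
    rw [smul_add, smul_add, ← ar]; abel
  · right; right; right; left; left; simp
  · -- `e + r + z e = z² (e + z r)`
    right; right; right; right; left; right; right
    rw [smul_add, smul_add, hz.z3, ← ae]; abel
  · -- `e + r + z r = e + z² r`
    right; right; right; right; right; left
    rw [← ar]; abel
  · right; right; right; left; right; right
    rw [smul_add, smul_add, ← ae, ← ar]; abel

theorem Zt.Ln_mem (h : RT E a) {v m : M} (hv : v ∈ E) (hm : Ln z v m) : m ∈ E := by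
  rcases hm with rfl | rfl | rfl
  · exact hv
  · exact h.inv z v hv
  · exact h.inv z _ (h.inv z v hv)

/-- `[M, z]` contains `e + z r`, `e + z² r ∈ E` for `r ∈ [M, a e]`, `r ≠ 0, e` -/
theorem Zt.er_mem (hz : Zt a e z) (h : RT E a) (he : e ∈ E) (hne : pCore 3 H ≠ ⊥) {r : M}
    (hr : r ∈ cm M (a e)) (hr0 : r ≠ 0) (hre : r ≠ e) : e + z • r ∈ E ∧ e + z • z • r ∈ E := by
  obtain ⟨f, hf, hfz, f1, f2, f3⟩ := hz.exists_other h he hne
  have hz3 := hz.z3 (M := M)
  have hae := h.mem e he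
  have har : a e • r = r := h.a_smul he hr
  have haee : a e • e = e := h.a_smul he hae
  have a1 : a e • (e + z • r) = e + z • z • r := by rw [smul_add, haee, hz.a_z h he, har]
  have a2 : a e • (e + z • z • r) = e + z • r := by
    rw [smul_add, haee, hz.a_z h he, hz.a_z h he, har, hz3]
  have hrE : r ∉ E := fun hrE => hre (h.only e he r hrE hr)
  have herE : e + r ∉ E := fun hE => hr0 (by
    have := h.only e he _ hE ((cm M (a e)).add_mem hae hr)
    simpa using this)
  rcases hz.cases16 h he hr hr0 hre hfz with h1 | h1 | h1 | h1 | h1 | h1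
  · exact absurd h1 (h.ne_zero f hf)
  · exfalso
    rcases h1 with h1 | h1 | h1
    · exact f1 h1
    · exact f2 h1
    · exact f3 h1
  · exact absurd (Zt.Ln_mem h hf (h1.symm hz3)) hrE
  · exact absurd (Zt.Ln_mem h hf (h1.symm hz3)) herE
  · have h2 : e + z • r ∈ E := Zt.Ln_mem h hf (h1.symm hz3)
    refine ⟨h2, ?_⟩
    rw [← a1]
    exact h.inv _ _ h2
  · have h2 : e + z • z • r ∈ E := Zt.Ln_mem h hf (h1.symm hz3)
    refine ⟨?_, h2⟩
    rw [← a2]
    exact h.inv _ _ h2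

/-- the vectors of `[M, z]` outside `E` -/
theorem Zt.not_mem (hz : Zt a e z) (h : RT E a) (he : e ∈ E) (hne : pCore 3 H ≠ ⊥) {r : M}
    (hr : r ∈ cm M (a e)) (hr0 : r ≠ 0) (hre : r ≠ e) {m : M} (hm : m ∈ cm M z) (hm0 : m ≠ 0)
    (hmE : m ∉ E) : Ln z r m ∨ Ln z (e + r) m := by
  obtain ⟨e1, e2⟩ := hz.er_mem h he hne hr hr0 hre
  rcases hz.cases16 h he hr hr0 hre hm with h1 | h1 | h1 | h1 | h1 | h1
  · exact absurd h1 hm0
  · exact absurd (Zt.Ln_mem h he h1) hmE
  · exact Or.inl h1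
  · exact Or.inr h1
  · exact absurd (Zt.Ln_mem h e1 h1) hmE
  · exact absurd (Zt.Ln_mem h e2 h1) hmE

/-- `r` and `e + r` lie on different lines -/
theorem Zt.not_Ln (hz : Zt a e z) (h : RT E a) (he : e ∈ E) {r : M}
    (hr : r ∈ cm M (a e)) (hr0 : r ≠ 0) (hre : r ≠ e) : ¬ Ln z r (e + r) := by
  have hae := h.mem e he
  have her := (cm M (a e)).add_mem hae hr
  rintro (h1 | h1 | h1)
  · exact h.ne_zero e he (by simpa using h1)
  · exact hr0 (hz.inf_eq h he hr her h1)
  · have h2 : r = z • (e + r) := by rw [h1, hz.z3]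
    have h3 := hz.inf_eq h he her hr h2
    exact hre (add_left_cancel (h3.trans (h.two e).symm))

/-- an element `g` commuting with `z`, of odd order, with `g E = E`: it fixes the two lines -/
theorem Zt.lines_fix (hz : Zt a e z) (h : RT E a) (he : e ∈ E) (hne : pCore 3 H ≠ ⊥) {r : M}
    (hr : r ∈ cm M (a e)) (hr0 : r ≠ 0) (hre : r ≠ e) {g : H} (hg : g * z = z * g) {n : ℕ}
    (hn : n % 2 = 1) (hgn : g ^ n = 1) : Ln z r (g • r) ∧ Ln z (e + r) (g • (e + r)) := by
  have hz3 := hz.z3 (M := M)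
  have hae := h.mem e he
  have her := (cm M (a e)).add_mem hae hr
  have hrE : r ∉ E := fun hrE => hre (h.only e he r hrE hr)
  have herE : e + r ∉ E := fun hE => hr0 (by
    have := h.only e he _ hE her
    simpa using this)
  have her0 : e + r ≠ 0 := fun h3 => hre (add_left_cancel (h3.trans (h.two e).symm))
  have hgE : ∀ m : M, m ∉ E → g • m ∉ E := fun m hm hgm => hm (by
    have := h.inv g⁻¹ _ hgm
    rwa [inv_smul_smul] at this)
  have hg0 : ∀ m : M, m ≠ 0 → g • m ≠ 0 := fun m hm hgm => hm ((smul_eq_zero_iff_eq g).mp hgm)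
  have hgi : g⁻¹ * z = z * g⁻¹ := (show Commute g z from hg).inv_left
  have hnL := hz.not_Ln h he hr hr0 hre
  have c1 := hz.not_mem h he hne hr hr0 hre (smul_mem_cm_of_comm hg (hz.le h he hr)) (hg0 r hr0) (hgE r hrE)
  have c2 := hz.not_mem h he hne hr hr0 hre (smul_mem_cm_of_comm hg (hz.le h he her)) (hg0 _ her0) (hgE _ herE)
  have hback : ¬ Ln z (g • r) (g • (e + r)) := by
    intro h1
    have h2 := Ln.smul hgi h1
    rw [inv_smul_smul, inv_smul_smul] at h2
    exact hnL h2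
  rcases c1 with c1 | c1 <;> rcases c2 with c2 | c2
  · exact absurd ((c1.symm hz3).trans hz3 c2) hback
  · exact ⟨c1, c2⟩
  · exfalso
    have key : ∀ i : ℕ, Ln z (e + r) (g ^ (2 * i + 1) • r) := by
      intro i
      induction i with
      | zero => simpa using c1
      | succ i ih =>
        have h1 := c2.trans hz3 (Ln.smul hg ih)
        have h2 := c1.trans hz3 (Ln.smul hg h1)
        have e1 : g ^ (2 * (i + 1) + 1) • r = g • g • g ^ (2 * i + 1) • r := by
          simp only [← mul_smul]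
          congr 1
          rw [show 2 * (i + 1) + 1 = (2 * i + 1) + 1 + 1 by ring, pow_succ', pow_succ']
        rw [e1]
        exact h2
    have h1 := key (n / 2)
    rw [show 2 * (n / 2) + 1 = n by omega, hgn, one_smul] at h1
    exact hnL (h1.symm hz3)
  · exact absurd ((c1.symm hz3).trans hz3 c2) hback

/-- The case `O_3(H) ≠ 1`, `C_H(O_3(H)) ≤ O_3(H)` is impossible. -/
theorem false_of_three (h : RT E a) (hne : pCore 3 H ≠ ⊥)
    (hF : centralizer (pCore 3 H : Set H) ≤ pCore 3 H) : False := by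
  obtain ⟨e, he⟩ := h.ne
  obtain ⟨z, hz1, hz2, hz3, hz4⟩ := h.exists_z Nat.prime_three hne he
  have hz : Zt a e z := ⟨hz1, hz2, hz3, hz4⟩
  obtain ⟨r, hr, hr0, hre⟩ := exists_third (h.card e he) e
  have z3 := hz.z3 (M := M)
  have hae := h.mem e he
  have her := (cm M (a e)).add_mem hae hr
  have hrz := hz.le h he hr
  have hez := hz.le h he hae
  have herz := hz.le h he her
  obtain ⟨hP, hQ⟩ := hz.er_mem h he hne hr hr0 hre
  have sr := h.sum3 hz.pow hrz
  have se := h.sum3 hz.pow hez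
  have hrE : r ∉ E := fun hrE => hre (h.only e he r hrE hr)
  -- the element `f = e + z r`
  obtain ⟨f, hf⟩ : ∃ f, f = e + z • r := ⟨_, rfl⟩
  rw [← hf] at hP
  have hfz : f ∈ cm M z := by rw [hf]; exact (cm M z).add_mem hez (smul_self_mem_cm hrz)
  obtain ⟨x, hx1, hx2, hx3, hx4⟩ := h.exists_z Nat.prime_three hne hP
  have hx : Zt a f x := ⟨hx1, hx2, hx3, hx4⟩
  have hxz : cm M x = cm M z := hz.cm_eq_of_mem h he hP hx hfz
  have hxc : x * z = z * x := zp_comm hx.mem hz.mem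
  -- `a f` on `[M, z]` and on `C_M(z)`
  have haf : ∀ m ∈ cm M z, a f • m ∈ cm M z := by
    intro m hm
    rw [← hxz] at hm ⊢
    exact smul_mem_cm_of_inv (conj_eq_inv (h.sq f hP) hx.inv) hm
  have hfix : ∀ m ∈ fx M z, x • m = m := by
    intro m hm
    have h1 : x • m + m ∈ cm M z := by rw [← hxz]; exact mem_cm_self x m
    have h2 : z • (x • m + m) = x • m + m := by
      rw [smul_add, ← mul_smul, ← hxc, mul_smul, mem_fx.mp hm]
    exact add_right_cancel ((hz.zero_of_mem h h1 h2).trans (h.two m).symm)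
  have haf2 : ∀ m ∈ fx M z, a f • m = m := by
    intro m hm
    have h1 : a f • m + m ∈ cm M x := hx.le h hP (mem_cm_self _ m)
    have h2 : x • a f • m = a f • m :=
      smul_mem_fx_of_inv (conj_eq_inv (h.sq f hP) hx.inv) (show m ∈ fx M x from hfix m hm)
    have h3 : x • (a f • m + m) = a f • m + m := by rw [smul_add, h2, hfix m hm]
    exact add_right_cancel ((hx.zero_of_mem h h1 h3).trans (h.two m).symm)
  have hae2 : ∀ m ∈ fx M z, a e • m = m := by
    intro m hm
    have h1 : a e • m + m ∈ cm M z := hz.le h he (mem_cm_self _ m)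
    have h2 : z • a e • m = a e • m :=
      smul_mem_fx_of_inv (conj_eq_inv (h.sq e he) hz.inv) hm
    have h3 : z • (a e • m + m) = a e • m + m := by rw [smul_add, h2, mem_fx.mp hm]
    exact add_right_cancel ((hz.zero_of_mem h h1 h3).trans (h.two m).symm)
  -- `a f` inverts `z` on `[M, z]`
  have hafz : ∀ m ∈ cm M z, a f • z • m = z • z • a f • m := by
    have hxa := hx.a_z h hP
    intro m hm
    rcases hz.act_cases h he hx.mem hx.pow with h1 | h1 | h1
    · exfalso
      have h2 : f ∈ cm M x := by rw [hxz]; exact hfz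
      exact h.ne_zero f hP (hx.zero_of_mem h h2 (h1 f hfz))
    · rw [← h1 m hm, hxa, h1 _ (haf m hm), h1 _ (smul_self_mem_cm (haf m hm))]
    · have h4 : z • m = x • x • m := by
        rw [h1 m hm, h1 _ (smul_self_mem_cm (smul_self_mem_cm hm)), z3]
      rw [h4, hxa, hxa, hx.z3, h1 _ (haf m hm)]
  -- the commutator space of `a f`
  have hfE : ∀ s ∈ cm M (a f), s ≠ 0 → s ≠ f → s ∉ E := fun s hs _ hsf hsE => hsf (h.only f hP s hsE hs)
  have key : z • z • r ∈ cm M (a f) ∧ e + r ∈ cm M (a f) := by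
    obtain ⟨s, hs, hs0, hsf⟩ := exists_third (h.card f hP) f
    have hff := h.mem f hP
    have hsz : s ∈ cm M z := by rw [← hxz]; exact hx.le h hP hs
    have hsfz : s + f ∈ cm M z := (cm M z).add_mem hsz hfz
    have hsf' : s + f ∈ cm M (a f) := (cm M (a f)).add_mem hs hff
    have hsE := hfE s hs hs0 hsf
    have hsfE : s + f ∉ E := hfE (s + f) hsf' (fun e1 => hsf (add_right_cancel (e1.trans (h.two f).symm)))
      (fun e1 => hs0 (by simpa using e1))
    have hrr : z • z • r = r + z • r := by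
      have e1 : (r + z • r) + z • z • r = 0 := sr
      exact (add_left_cancel (e1.trans (h.two (r + z • r)).symm))
    have hee : z • z • e = e + z • e := by
      have e1 : (e + z • e) + z • z • e = 0 := se
      exact (add_left_cancel (e1.trans (h.two (e + z • e)).symm))
    have t1 : z • z • r + f = e + r := by
      rw [hf, hrr]
      calc r + z • r + (e + z • r) = e + r + (z • r + z • r) := by abel
        _ = e + r := by rw [h.two, add_zero]
    have t2 : (e + r) + f = z • z • r := by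
      rw [hf, hrr]
      calc e + r + (e + z • r) = (e + e) + (r + z • r) := by abel
        _ = r + z • r := by rw [h.two, zero_add]
    have t3 : r + f = e + z • z • r := by rw [hf, hrr]; abel
    have t4 : z • r + f = e := by
      rw [hf]
      calc z • r + (e + z • r) = e + (z • r + z • r) := by abel
        _ = e := by rw [h.two, add_zero]
    have t5 : z • (e + r) + f = z • z • e := by
      rw [hf, hee, smul_add]
      calc z • e + z • r + (e + z • r) = e + z • e + (z • r + z • r) := by abel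
        _ = e + z • e := by rw [h.two, add_zero]
    have t6 : z • z • (e + r) + f = z • (e + z • z • r) := by
      rw [hf, smul_add, smul_add, smul_add, z3, hee, hrr]
      calc e + z • e + (r + z • r) + (e + z • r) = z • e + r + (e + e) + (z • r + z • r) := by abel
        _ = z • e + r := by rw [h.two, h.two, add_zero, add_zero]
    rcases hz.not_mem h he hne hr hr0 hre hsz hs0 hsE with (h1 | h1 | h1) | (h1 | h1 | h1)
    · exact absurd (by rw [h1, t3]; exact hQ) hsfE
    · exact absurd (by rw [h1, t4]; exact he) hsfE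
    · rw [h1] at hs hsf'
      rw [t1] at hsf'
      exact ⟨hs, hsf'⟩
    · rw [h1] at hs hsf'
      rw [t2] at hsf'
      exact ⟨hsf', hs⟩
    · exact absurd (by rw [h1, t5]; exact h.inv _ _ (h.inv _ _ he)) hsfE
    · exact absurd (by rw [h1, t6]; exact h.inv _ _ hQ) hsfE
  have haee : ∀ m ∈ cm M z, a e • m ∈ cm M z := fun m hm =>
    smul_mem_cm_of_inv (conj_eq_inv (h.sq e he) hz.inv) hm
  -- the element `b = a f * a e`
  obtain ⟨b, hb⟩ : ∃ b, b = a f * a e := ⟨_, rfl⟩
  have hbr : b • r = z • r := by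
    rw [hb, mul_smul, h.a_smul he hr]
    have h1 := h.a_smul hP key.1
    rw [hafz _ (smul_self_mem_cm hrz), hafz _ hrz, z3] at h1
    exact MulAction.injective z h1
  have hber : b • (e + r) = e + r := by
    rw [hb, mul_smul, h.a_smul he her, h.a_smul hP key.2]
  have hbz : ∀ m ∈ cm M z, b • z • m = z • b • m := by
    intro m hm
    rw [hb, mul_smul, mul_smul, hz.a_z h he, hafz _ (smul_self_mem_cm (haee m hm)), hafz _ (haee m hm), z3]
  have hbfx : ∀ m ∈ fx M z, b • m = m := by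
    intro m hm
    rw [hb, mul_smul, hae2 m hm, haf2 m hm]
  have hbcm : ∀ m ∈ cm M z, b • m ∈ cm M z := by
    intro m hm
    rw [hb, mul_smul]
    exact haf _ (haee _ hm)
  have hdec : ∀ F : AddSubgroup M, (∀ m ∈ fx M z, m ∈ F) → r ∈ F → e + r ∈ F →
      (∀ m ∈ cm M z, m ∈ F → z • m ∈ F) → ∀ m : M, m ∈ F := by
    intro F hF1 hF2 hF3 hF4 m
    have heF : e ∈ F := by
      have := F.sub_mem hF3 hF2
      rwa [add_sub_cancel_right] at this
    have hAF : ∀ c ∈ cm M (a e), c ∈ F := by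
      intro c hc
      rcases four_of_card h.two (h.card e he) hae hr (h.ne_zero e he) hr0 (Ne.symm hre) hc with h1 | h1 | h1 | h1
      · rw [h1]; exact F.zero_mem
      · rw [h1]; exact heF
      · rw [h1]; exact hF2
      · rw [h1]; exact hF3
    obtain ⟨c, hc, d, hd, hcd⟩ := hz.exists_eq h he (hz.proj_mem h m)
    have e1 : m = (z • m + z • z • m) + (m + z • m + z • z • m) := by
      calc m = m + ((z • m + z • z • m) + (z • m + z • z • m)) := by rw [h.two, add_zero]
        _ = _ := by abel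
    rw [e1, hcd]
    exact F.add_mem (F.add_mem (hAF c hc) (hF4 d (hz.le h he hd) (hAF d hd))) (hF1 _ (hz.proj_fix h m))
  have hb3 : b ^ 3 = 1 := by
    apply h.faithful
    have hact : ∀ m : M, b ^ 3 • m = b • b • b • m := by
      intro m
      rw [pow_three, mul_smul, mul_smul]
    let F : AddSubgroup M := fx M (b ^ 3)
    refine hdec F ?_ ?_ ?_ ?_
    · intro m hm
      change b ^ 3 • m = m
      rw [hact, hbfx m hm, hbfx m hm, hbfx m hm]
    · change b ^ 3 • r = r
      rw [hact, hbr, hbz r hrz, hbr, hbz _ (smul_self_mem_cm hrz), hbz _ hrz, hbr, z3]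
    · change b ^ 3 • (e + r) = e + r
      rw [hact, hber, hber, hber]
    · intro m hm hmF
      change b ^ 3 • m = m at hmF
      change b ^ 3 • z • m = z • m
      rw [hact] at hmF ⊢
      rw [hbz m hm, hbz _ (hbcm m hm), hbz _ (hbcm _ (hbcm m hm)), hmF]
  have hbC : b ∈ centralizer (pCore 3 H : Set H) := by
    rw [mem_centralizer_iff]
    intro g hg
    have hgz : g * z = z * g := (mem_centralizer_iff.mp hz1.2) g hg
    obtain ⟨k, hk⟩ := Lib.Cores.pCore_isPGroup (G := H) 3 ⟨g, hg⟩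
    have hk' : g ^ 3 ^ k = 1 := by simpa only [_root_.SubmonoidClass.mk_pow, _root_.OneMemClass.coe_one] using congrArg Subtype.val hk
    have hodd : 3 ^ k % 2 = 1 := Nat.odd_iff.mp (Odd.pow (by decide))
    obtain ⟨l1, l2⟩ := hz.lines_fix h he hne hr hr0 hre hgz hodd hk'
    have hgzm : ∀ m : M, g • z • m = z • g • m := by
      intro m
      rw [← mul_smul, hgz, mul_smul]
    have hcomm : ∀ m : M, b • g • m = g • b • m := by
      let F : AddSubgroup M :=
        { carrier := {m | b • g • m = g • b • m}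
          add_mem' := by
            intro u v hu hv
            rw [Set.mem_ofPred_eq] at *
            simp only [smul_add]
            rw [hu, hv]
          zero_mem' := by simp only [_root_.Set.mem_ofPred_eq, _root_.smul_zero]
          neg_mem' := by
            intro u hu
            rw [Set.mem_ofPred_eq] at *
            simp only [smul_neg]
            rw [hu] }
      refine hdec F ?_ ?_ ?_ ?_
      · intro m hm
        change b • g • m = g • b • m
        rw [hbfx m hm, hbfx _ (smul_mem_fx_of_comm hgz hm)]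
      · change b • g • r = g • b • r
        rw [hbr, hgzm]
        rcases l1 with l1 | l1 | l1 <;> rw [l1]
        · exact hbr
        · rw [hbz _ hrz, hbr]
        · rw [hbz _ (smul_self_mem_cm hrz), hbz _ hrz, hbr]
      · change b • g • (e + r) = g • b • (e + r)
        rw [hber]
        rcases l2 with l2 | l2 | l2 <;> rw [l2]
        · exact hber
        · rw [hbz _ herz, hber]
        · rw [hbz _ (smul_self_mem_cm herz), hbz _ herz, hber]
      · intro m hm hmF
        change b • g • m = g • b • m at hmF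
        change b • g • z • m = g • b • z • m
        rw [hgzm, hbz _ (smul_mem_cm_of_comm hgz hm), hmF, hbz _ hm, hgzm]
    have h1 : (b * g)⁻¹ * (g * b) = 1 := by
      apply h.faithful
      intro m
      rw [mul_smul, mul_smul, ← hcomm, ← mul_smul b, inv_smul_smul]
    exact (inv_mul_eq_one.mp h1).symm
  have hbP := hF hbC
  have hbi : a e * b * a e = b⁻¹ := by
    rw [hb, mul_inv_rev, inv_eq_of_mul_eq_one_left (h.sq e he), inv_eq_of_mul_eq_one_left (h.sq f hP),
      mul_assoc, mul_assoc, h.sq e he, mul_one]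
  have hb1 : b ≠ 1 := by
    intro e1
    rw [e1, one_smul] at hbr
    exact hr0 (hz.zero_of_mem h hrz hbr.symm)
  rcases card_cases h.two h.faithful (h.sq e he) hbi (h.card e he) Nat.prime_three (by norm_num) hb3 hb1 with
    ⟨_, h1⟩ | ⟨_, h1⟩
  · exact h.nat e he b hbP hb3 hbi h1
  · have h2 := (cm_le_of_card h.two (h.sq e he) hbi (by norm_num : 3 % 2 = 1) hb3 (h.card e he) h1).1 her
    have h3 := eq_zero_of_mem h.two (by norm_num : 3 % 2 = 1) hb3 h2 hber
    exact hre (add_left_cancel (h3.trans (h.two e).symm))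

end three

/-! ### elements of order 5 -/

section five

variable [Finite H] [Finite M] {e : M} {z : H}

theorem card_five (h : RT E a) (he : e ∈ E) (hz1 : z ≠ 1) (hz5 : z ^ 5 = 1) (hzi : a e * z * a e = z⁻¹) :
    Nat.card (cm M z) = 16 := by
  rcases card_cases h.two h.faithful (h.sq e he) hzi (h.card e he) Nat.prime_five (by norm_num) hz5 hz1 with
    ⟨h1, _⟩ | ⟨_, h1⟩
  · norm_num at h1
  · exact h1

/-- `z` of order 5 inverted by `a e`: a nonzero vector of `[M, z]` is a translate of a vector of `[M, a e]` -/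
theorem exists_five (h : RT E a) (he : e ∈ E) (hz1 : z ≠ 1) (hz5 : z ^ 5 = 1) (hzi : a e * z * a e = z⁻¹)
    {m : M} (hm : m ∈ cm M z) (hm0 : m ≠ 0) :
    ∃ i : ℕ, i < 5 ∧ ∃ c ∈ cm M (a e), c ≠ 0 ∧ m = z ^ i • c := by
  classical
  have hB := h.card_five he hz1 hz5 hzi
  have hle := (cm_le_of_card h.two (h.sq e he) hzi (by norm_num : 5 % 2 = 1) hz5 (h.card e he) hB).1
  -- powers of `z` have no fixed points on `[M, z]`
  have hfpf : ∀ k : ℤ, ¬ (5 : ℤ) ∣ k → ∀ c ∈ cm M z, z ^ k • c = c → c = 0 := by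
    intro k hk c hc hkc
    have hcop : IsCoprime k 5 := by
      rw [Int.isCoprime_iff_gcd_eq_one, Int.gcd_comm]
      exact (Nat.Prime.coprime_iff_not_dvd Nat.prime_five).mpr fun hd => hk (Int.natCast_dvd.mpr hd)
    obtain ⟨u, v, huv⟩ := hcop
    have h1 : z = (z ^ k) ^ u * (z ^ (5 : ℤ)) ^ v := by
      rw [← zpow_mul, ← zpow_mul, ← zpow_add, mul_comm k u, mul_comm 5 v, huv, zpow_one]
    have h2 : z ^ k ∈ MulAction.stabilizer H c := hkc
    have h3 : z ∈ MulAction.stabilizer H c := by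
      rw [h1]
      refine mul_mem (zpow_mem h2 u) (zpow_mem ?_ v)
      have : z ^ (5 : ℤ) = 1 := by exact_mod_cast hz5
      rw [this]
      exact one_mem _
    exact eq_zero_of_mem h.two (by norm_num : 5 % 2 = 1) hz5 hc h3
  have hzpow : ∀ (i : ℕ) (c : M), c ∈ cm M z → z ^ i • c ∈ cm M z := by
    intro i c hc
    exact smul_mem_cm_of_comm (Commute.pow_self z i) hc
  let S := {c : cm M (a e) // c ≠ 0}
  let T := {b : cm M z // b ≠ 0}
  let g : Fin 5 × S → T := fun ic => ⟨⟨z ^ (ic.1 : ℕ) • (ic.2.1 : M), hzpow _ _ (hle ic.2.1.2)⟩, fun h0 => by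
    have h1 : z ^ (ic.1 : ℕ) • (ic.2.1 : M) = 0 := congrArg Subtype.val h0
    exact ic.2.2 (Subtype.ext ((smul_eq_zero_iff_eq _).mp h1))⟩
  have haz : ∀ (i : ℕ) (c : M), a e • c = c → a e • z ^ i • c = (z ^ i)⁻¹ • c := by
    intro i c hc
    have h1 : a e * z ^ i * a e = (z ^ i)⁻¹ := by
      have h2 : (a e)⁻¹ = a e := inv_eq_of_mul_eq_one_left (h.sq e he)
      have h3 : a e * z ^ i * a e = (a e * z * (a e)⁻¹) ^ i := by rw [conj_pow, h2]
      rw [h3, h2, hzi, inv_pow]
    rw [inv_smul_eq (h.sq e he) h1, hc]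
  have hinj : Function.Injective g := by
    rintro ⟨i, c, hc⟩ ⟨j, d, hd⟩ hg
    have h1 : z ^ (i : ℕ) • (c : M) = z ^ (j : ℕ) • (d : M) :=
      congrArg (fun t : T => ((t : cm M z) : M)) hg
    have h2 : a e • z ^ (i : ℕ) • (c : M) = a e • z ^ (j : ℕ) • (d : M) := by rw [h1]
    rw [haz _ _ (h.a_smul he c.2), haz _ _ (h.a_smul he d.2)] at h2
    have k1 : (d : M) = z ^ ((i : ℤ) - j) • (c : M) := by
      rw [zpow_sub, zpow_natCast, zpow_natCast, ← (Commute.pow_pow_self z i j).symm.inv_left.eq, mul_smul, h1,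
        inv_smul_smul]
    have k2 : (d : M) = z ^ (-((i : ℤ) - j)) • (c : M) := by
      rw [neg_sub, zpow_sub, zpow_natCast, zpow_natCast, mul_smul, h2, smul_inv_smul]
    have k3 : z ^ (2 * ((i : ℤ) - j)) • (c : M) = c := by
      rw [two_mul, zpow_add, mul_smul, ← k1, k2, zpow_neg, smul_inv_smul]
    have hij : (5 : ℤ) ∣ 2 * ((i : ℤ) - j) := by
      by_contra hnd
      exact hc (Subtype.ext (hfpf _ hnd c (hle c.2) k3))
    have hij2 : (i : ℤ) = j := by
      have hi := i.2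
      have hj := j.2
      omega
    have hij3 : i = j := Fin.ext (by exact_mod_cast hij2)
    subst hij3
    rw [sub_self, zpow_zero, one_smul] at k1
    have hcd : c = d := Subtype.ext k1.symm
    subst hcd
    rfl
  have hcS : Nat.card S = 3 := by
    have : Nat.card S + 1 = Nat.card (cm M (a e)) := by
      have := Nat.card_congr (Equiv.optionSubtypeNe (0 : cm M (a e)))
      rw [Finite.card_option] at this
      exact this
    rw [h.card e he] at this
    omega
  have hcT : Nat.card T = 15 := by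
    have : Nat.card T + 1 = Nat.card (cm M z) := by
      have := Nat.card_congr (Equiv.optionSubtypeNe (0 : cm M z))
      rw [Finite.card_option] at this
      exact this
    rw [hB] at this
    omega
  have hbij : Function.Bijective g := by
    rw [Nat.bijective_iff_injective_and_card]
    refine ⟨hinj, ?_⟩
    rw [Nat.card_prod, hcS, hcT, Nat.card_fin]
  obtain ⟨⟨i, c, hc⟩, hg⟩ := hbij.2 ⟨⟨m, hm⟩, fun h0 => hm0 (congrArg Subtype.val h0)⟩
  refine ⟨i, i.2, c, c.2, fun h0 => hc (Subtype.ext h0), ?_⟩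
  exact (congrArg (fun t : T => ((t : cm M z) : M)) hg).symm

/-- `E ∩ [M, z] = {z^i e}` -/
theorem exists_five_of_mem (h : RT E a) (he : e ∈ E) (hz1 : z ≠ 1) (hz5 : z ^ 5 = 1)
    (hzi : a e * z * a e = z⁻¹) {f : M} (hf : f ∈ E) (hfz : f ∈ cm M z) : ∃ i : ℕ, i < 5 ∧ f = z ^ i • e := by
  obtain ⟨i, hi, c, hc, _, hfc⟩ := h.exists_five he hz1 hz5 hzi hfz (h.ne_zero f hf)
  refine ⟨i, hi, ?_⟩
  have h1 : c ∈ E := by
    have := h.inv (z ^ i)⁻¹ f hf
    rwa [hfc, inv_smul_smul] at this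
  rw [hfc, h.only e he c h1 hc]

theorem core_comm {p q : ℕ} (hp : p.Prime) (hq : q.Prime) (hpq : p ≠ q) {x y : H} (hx : x ∈ pCore p H)
    (hy : y ∈ pCore q H) : x * y = y * x := by
  haveI := Fact.mk hp
  haveI := Fact.mk hq
  haveI := Lib.Cores.pCore_normal (G := H) p
  haveI := Lib.Cores.pCore_normal (G := H) q
  exact Subgroup.commute_of_normal_of_disjoint _ _ inferInstance inferInstance
    (IsPGroup.disjoint_of_ne p q hpq _ _ (Lib.Cores.pCore_isPGroup p) (Lib.Cores.pCore_isPGroup q)) x y hx hy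

/-- `O_3(H)` and `O_5(H)` are not both nontrivial -/
theorem not_both (h : RT E a) (h3 : pCore 3 H ≠ ⊥) (h5 : pCore 5 H ≠ ⊥) : False := by
  obtain ⟨e, he⟩ := h.ne
  obtain ⟨z, hz1, hz2, hz3, hz4⟩ := h.exists_z Nat.prime_three h3 he
  obtain ⟨y, hy1, hy2, hy3, hy4⟩ := h.exists_z Nat.prime_five h5 he
  have hz : Zt a e z := ⟨hz1, hz2, hz3, hz4⟩
  have hB := h.card_five he hy2 hy3 hy4
  have hle := (cm_le_of_card h.two (h.sq e he) hy4 (by norm_num : 5 % 2 = 1) hy3 (h.card e he) hB).1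
  have hzy : z * y = y * z := core_comm Nat.prime_three Nat.prime_five (by norm_num) hz1.1 hy1.1
  have hae := h.mem e he
  have h1 : z • e ∈ cm M y := smul_mem_cm_of_comm hzy (hle hae)
  obtain ⟨i, hi, h2⟩ := h.exists_five_of_mem he hy2 hy3 hy4 (h.inv z e he) h1
  have hzyi : ∀ m : M, z • y ^ i • m = y ^ i • z • m := by
    intro m
    rw [← mul_smul, ← mul_smul, ((show Commute z y from hzy).pow_right i).eq]
  have h3' : y ^ i • y ^ i • y ^ i • e = e := by
    have := hz.z3 e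
    rw [h2, hzyi, hzyi, h2] at this
    rwa [hzyi, h2] at this
  have h4 : y ^ (3 * i) • e = e := by
    rw [show 3 * i = i + (i + i) by ring, pow_add, pow_add, mul_smul, mul_smul, h3']
  have h5' : z • e = e := by
    rw [h2]
    have key : ∀ j : ℕ, y ^ (3 * i * j) • e = e := by
      intro j
      rw [pow_mul]
      exact pow_fix h4 j
    have h6 := key 2
    -- `3 * i * 2 = i + 5 * i`
    rw [show 3 * i * 2 = i + 5 * i by ring, pow_add, pow_mul, hy3, one_pow, mul_one] at h6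
    exact h6
  exact h.ne_zero e he (hz.zero_of_mem h (hz.mem_self h he) h5')

theorem eq_three_or_five (h : RT E a) {p : ℕ} (hp : p.Prime) (hne : pCore p H ≠ ⊥) : p = 3 ∨ p = 5 := by
  obtain ⟨e, he⟩ := h.ne
  obtain ⟨z, hz1, hz2, hz3, hz4⟩ := h.exists_z hp hne he
  have hp2 : p ≠ 2 := by
    rintro rfl
    exact hne h.o2
  rcases card_cases h.two h.faithful (h.sq e he) hz4 (h.card e he) hp hp2 hz3 hz2 with ⟨h1, _⟩ | ⟨h1, _⟩
  · exact Or.inl h1
  · exact h1

theorem pCore_three (h : RT E a) : pCore 3 H = ⊥ := by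
  by_contra hne
  haveI := h.solv
  refine h.false_of_three hne ?_
  have h1 : fittingSubgroup H = pCore 3 H := by
    rw [Lib.Cores.fittingSubgroup_eq_iSup_pCore]
    refine le_antisymm (iSup_le fun p => ?_) (le_iSup (fun p : Nat.Primes => pCore (p : ℕ) H) ⟨3, Nat.prime_three⟩)
    by_cases hp : pCore (p : ℕ) H = ⊥
    · rw [hp]; exact bot_le
    · rcases h.eq_three_or_five p.2 hp with h2 | h2
      · rw [h2]
      · rw [h2] at hp
        exact (h.not_both hne hp).elim
  rw [← h1]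
  exact Cfsg.Agent.S0044.result

/-- Main result: `O_p(H) = 1` for `p ≠ 5` -/
theorem pCore_eq_bot (h : RT E a) {p : ℕ} (hp : p.Prime) (hp5 : p ≠ 5) : pCore p H = ⊥ := by
  by_contra hne
  rcases h.eq_three_or_five hp hne with h1 | h1
  · rw [h1] at hne
    exact hne h.pCore_three
  · exact hp5 h1

end five

end RT

end Cfsg.Agent.MinSimple.OddRTMod
end

-- part: MinSimple/OddRankTwo
section
/-!
# (E1)(b), `n = 1`, `k = 1`, rank two

`One T V z`, `R : Rep V x M X` the module `M = ws V x / ⟨x⟩` of `X = C(x) / kq V x`. `EE` is the set of line vectors,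
`aa` the involution belonging to a line vector. If no `aa e` is a transvection, then `Pre (EE V x R) (aa R)`
(`pre`); if moreover `e ∈ [M, g]` for all `g` of order 3 inverted by `aa e` with `|[M, g]| = 4`, then
`RT (EE V x R) (aa R)` (`rt`), and `O_p(X) = 1` for all primes `p ≠ 5` (`pCore_eq_bot`).
-/

set_option autoImplicit false
set_option linter.unusedSectionVars false
set_option linter.style.haveILetI false

namespace Cfsg.Agent.MinSimple.OddRankTwo

open Subgroup Cfsg Cfsg.Agent.ZN Cfsg.Agent.MinSimple.Geo Cfsg.Agent.MinSimple.BTwoA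
  Cfsg.Agent.MinSimple.OddLine Cfsg.Agent.MinSimple.OddBase Cfsg.Agent.MinSimple.SecRep
  Cfsg.Agent.MinSimple.OddRep Cfsg.Agent.MinSimple.OddOne Cfsg.Agent.MinSimple.OddRTMod

universe u

variable {G : Type u} [Group G]

section defs

variable {V : Subgroup G} {x : G} {M X : Type u} [AddCommGroup M] [Group X] [DistribMulAction X M]

/-- the line vectors -/
def EE (R : _root_.Cfsg.Agent.MinSimple.OddRep.Rep V x M X) : Set M := {m | ∃ y, Col V x y ∧ R.pi y = m}

open Classical in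
/-- the involution belonging to a line vector -/
noncomputable def aa (R : _root_.Cfsg.Agent.MinSimple.OddRep.Rep V x M X) (m : M) : X :=
  if h : ∃ b, ∃ y, Col V x y ∧ R.pi y = m ∧ b ∈ ws V y ∧ b ∉ kq V x then R.rho h.choose else 1

theorem card_four_of {A : AddSubgroup M} [Finite M] (two : ∀ m : M, m + m = 0) {p q : M}
    (hA : ∀ m ∈ A, m = 0 ∨ m = p ∨ m = q ∨ m = q + p)
    (hp : p ∈ A) (hq : q ∈ A) (hp1 : p ≠ 0) (hq1 : q ≠ 0) (hpq : q ≠ p) : Nat.card A = 4 := by
  have hpq1 : q + p ≠ 0 := fun e => hpq (by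
    have := two p
    exact add_right_cancel (e.trans this.symm))
  have hpqp : q + p ≠ p := fun e => hq1 (by simpa using e)
  have hpqq : q + p ≠ q := fun e => hp1 (by simpa using e)
  have h1 : (A : Set M) = {0, p, q, q + p} := by
    apply Set.Subset.antisymm
    · intro m hm
      rcases hA m hm with e | e | e | e
      · exact Or.inl e
      · exact Or.inr (Or.inl e)
      · exact Or.inr (Or.inr (Or.inl e))
      · exact Or.inr (Or.inr (Or.inr e))
    · rintro m (rfl | rfl | rfl | rfl)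
      · exact A.zero_mem
      · exact hp
      · exact hq
      · exact A.add_mem hq hp
  have h2 : ({0, p, q, q + p} : Set M).ncard = 4 := by
    rw [Set.ncard_insert_of_notMem, Set.ncard_insert_of_notMem, Set.ncard_pair (Ne.symm hpqq)]
    · rintro (e | e)
      · exact hpq e.symm
      · exact hpqp (Set.mem_singleton_iff.mp e).symm
    · rintro (e | e | e)
      · exact hp1 e.symm
      · exact hq1 e.symm
      · exact hpq1 (Set.mem_singleton_iff.mp e).symm
  rw [← h2, ← h1]; rfl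

end defs

variable [Finite G] {T V : Subgroup G} {z x : G} {M X : Type u} [AddCommGroup M] [Group X] [DistribMulAction X M]

theorem aa_eq (h : _root_.Cfsg.Agent.MinSimple.OddOne.One T V z) (R : _root_.Cfsg.Agent.MinSimple.OddRep.Rep V x M X) {y : G} (hc : Col V x y) {b : G} (hb : b ∈ ws V y)
    (hn : b ∉ kq V x) : aa R (R.pi y) = R.rho b := by
  have hex : ∃ b, ∃ y', Col V x y' ∧ R.pi y' = R.pi y ∧ b ∈ ws V y' ∧ b ∉ kq V x := ⟨b, y, hc, rfl, hb, hn⟩
  rw [aa, dif_pos hex]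
  obtain ⟨y', hc', hpi, hb', hn'⟩ := hex.choose_spec
  exact h.rho_eq_of_pi_eq R hc' hc hpi hb' hb hn' hn

theorem col_conj {c y : G} (hcc : c ∈ centralizer ({x} : Set G)) (hc : Col V x y) : Col V x (c * y * c⁻¹) := by
  have hcx : c * x * c⁻¹ = x := by
    rw [mem_centralizer_singleton_iff.mp hcc]; group
  have hcol := hc.conj c
  rwa [hcx] at hcol

/-- the action on line vectors -/
theorem exists_smul (R : _root_.Cfsg.Agent.MinSimple.OddRep.Rep V x M X) {y : G} (hc : Col V x y) (g : X) :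
    ∃ y', Col V x y' ∧ g • R.pi y = R.pi y' := by
  obtain ⟨c, hcc, rfl⟩ := R.rho_surj g
  exact ⟨c * y * c⁻¹, col_conj hcc hc, R.smul_pi c hcc y hc.mem_ws⟩

/-- (4'): a line vector in `[M, a]` is the line vector of `a` -/
theorem only (h : _root_.Cfsg.Agent.MinSimple.OddOne.One T V z) (R : _root_.Cfsg.Agent.MinSimple.OddRep.Rep V x M X) {y y' b : G} (hc : Col V x y) (hc' : Col V x y')
    (hb : b ∈ ws V y) (hf : R.pi y' ∈ cm M (R.rho b)) : R.pi y' = R.pi y := by
  have hx := hc.pt_left h.toGeo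
  obtain ⟨m, hm⟩ := hf
  obtain ⟨w, hw, rfl⟩ := R.pi_surj m
  rw [opr_apply, h.smul_add R hc hb hw] at hm
  have hcm := OddOne.comm_mem h.toOdd hc hw hb
  have hy'I : y' ∈ ws V x ⊓ ws V y := by
    rcases (OddRep.Rep.pi_eq_pi h.toOdd hx R hc'.mem_ws hcm.1).mp hm.symm with e | e
    · rw [e]; exact hcm
    · rw [e]
      exact mul_mem (⟨self_mem_ws h.toGeo hx, hc.symm.mem_ws⟩ : x ∈ ws V x ⊓ ws V y) hcm
  obtain ⟨g, _, hyg, ho⟩ := exists_odd_col h.toOdd hc
  obtain ⟨g', _, hyg', ho'⟩ := exists_odd_col h.toOdd hc'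
  have hxg := ho.z_mem
  have hx1 := ho.z_ne
  have hdd := ho.inf_eq_dd hxg hx1 hyg hc.2.1 hc.2.2.1
  rw [ws_cj, ws_cj] at hdd
  have hxI : x ∈ ws V x ⊓ ws V y := ⟨self_mem_ws h.toGeo hx, hc.symm.mem_ws⟩
  have hle : cj g' V ≤ dd (cj g V) := by
    intro v hv
    rw [← hdd]
    rcases ho'.toGeo.four ho'.z_mem hyg' hx1 hc'.2.1 hc'.2.2.1 hv with e | e | e | e
    · rw [e]; exact one_mem _
    · rw [e]; exact hxI
    · rw [e]; exact hy'I
    · rw [e]; exact mul_mem hxI hy'I
  have hL : cj g' V ∈ lines (cj g V) x := by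
    rw [lines_cj]
    exact ⟨⟨g', rfl⟩, ho'.z_mem⟩
  have heq := ho.eq_of_mem_lines hL hle
  rw [heq] at hyg'
  rcases ho.toGeo.four hxg hyg hx1 hc.2.1 hc.2.2.1 hyg' with e | e | e | e
  · exact absurd e hc'.2.1
  · exact absurd e.symm hc'.2.2.1
  · rw [e]
  · rw [e, OddRep.Rep.pi_self_mul h.toOdd hx R hc.mem_ws]

/-- The configuration of OddRTMod -/
theorem pre (h : _root_.Cfsg.Agent.MinSimple.OddOne.One T V z) (hx : Pt z x) (R : _root_.Cfsg.Agent.MinSimple.OddRep.Rep V x M X)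
    (htv : ∀ y b, Col V x y → b ∈ ws V y → b ∉ kq V x →
      ¬ ∃ n : M, ∀ m : M, R.rho b • m = m ∨ R.rho b • m = m + n) : Pre (EE R) (aa R) := by
  haveI : Finite M := Sec.finite_left R
  haveI : Finite X := Sec.finite_right R
  have two := OddRep.Rep.two h.toOdd hx R
  obtain ⟨y0, hy0⟩ := OddSmall.exists_col h.toOdd hx
  -- the shape of `[M, a]`
  have hshape : ∀ y, Col V x y → ∃ b ∈ ws V y, b ∉ kq V x ∧ aa R (R.pi y) = R.rho b ∧ ∃ m₀ : M, m₀ ≠ 0 ∧
      m₀ ≠ R.pi y ∧ m₀ ∈ cm M (R.rho b) ∧ R.pi y ∈ cm M (R.rho b) ∧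
      ∀ m ∈ cm M (R.rho b), m = 0 ∨ m = R.pi y ∨ m = m₀ ∨ m = m₀ + R.pi y := by
    intro y hc
    obtain ⟨b, hb, hn⟩ := h.exists_not_mem hc
    refine ⟨b, hb, hn, aa_eq h R hc hb hn, ?_⟩
    rcases h.cases R hc hb with h1 | ⟨m0, h1, h2, h3, h4, h5⟩
    · exact absurd h1 (htv y b hc hb hn)
    · refine ⟨m0, h1, h2, h5, h4, ?_⟩
      rintro _ ⟨m, rfl⟩
      exact h3 m
  refine
    { two := two
      faithful := R.faithful
      solv := OddRep.Rep.isSolvable h.toOdd hx R
      o2 := OddRep.Rep.o2_eq_bot h.toOdd hx R (Lib.Cores.pCore_normal 2) (Lib.Cores.pCore_isPGroup 2)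
      inv := ?_
      trans := ?_
      gen := ?_
      ne := ⟨R.pi y0, y0, hy0, rfl⟩
      ne_zero := ?_
      conj := ?_
      sq := ?_
      card := ?_
      mem := ?_
      only := ?_ }
  · rintro g _ ⟨y, hy, rfl⟩
    obtain ⟨y', hy', e⟩ := exists_smul R hy g
    exact ⟨y', hy', e.symm⟩
  · rintro _ ⟨y, hy, rfl⟩ _ ⟨y', hy', rfl⟩
    obtain ⟨g, hg⟩ := OddRep.Rep.exists_smul_line h.toOdd hx R hy hy'
    exact ⟨g, hg.symm⟩
  · refine OddRep.Rep.eq_top_of_line h.toOdd hx R hy0 _ fun g => ?_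
    obtain ⟨y', hy', e⟩ := exists_smul R hy0 g
    exact AddSubgroup.subset_closure ⟨y', hy', e.symm⟩
  · rintro _ ⟨y, hy, rfl⟩
    exact OddRep.Rep.pi_line_ne_zero h.toOdd hx R hy
  · rintro g _ ⟨y, hy, rfl⟩
    obtain ⟨y', hy', e⟩ := exists_smul R hy g
    obtain ⟨b, hb, hn, hab, -⟩ := hshape y hy
    obtain ⟨b', hb', hn', hab', -⟩ := hshape y' hy'
    rw [e, hab', hab]
    exact (h.rho_conj_eq R hy hy' e hb hb' hn hn').symm
  · rintro _ ⟨y, hy, rfl⟩
    obtain ⟨b, hb, hn, hab, -⟩ := hshape y hy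
    rw [hab]
    exact h.rho_sq R hy hb
  · rintro _ ⟨y, hy, rfl⟩
    obtain ⟨b, hb, hn, hab, m0, h1, h2, h3, h4, h5⟩ := hshape y hy
    rw [hab]
    exact card_four_of two h5 h4 h3 (OddRep.Rep.pi_line_ne_zero h.toOdd hx R hy) h1 h2
  · rintro _ ⟨y, hy, rfl⟩
    obtain ⟨b, hb, hn, hab, m0, h1, h2, h3, h4, h5⟩ := hshape y hy
    rw [hab]
    exact h4
  · rintro _ ⟨y, hy, rfl⟩ _ ⟨y', hy', rfl⟩ hf
    obtain ⟨b, hb, hn, hab, -⟩ := hshape y hy
    rw [hab] at hf
    exact only h R hy hy' hb hf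

/-- The configuration of OddRTMod without natural elements -/
theorem rt (h : _root_.Cfsg.Agent.MinSimple.OddOne.One T V z) (hx : Pt z x) (R : _root_.Cfsg.Agent.MinSimple.OddRep.Rep V x M X)
    (htv : ∀ y b, Col V x y → b ∈ ws V y → b ∉ kq V x →
      ¬ ∃ n : M, ∀ m : M, R.rho b • m = m ∨ R.rho b • m = m + n)
    (hD : ∀ y b g, Col V x y → b ∈ ws V y → b ∉ kq V x → g ∈ pCore 3 X → g ^ 3 = 1 → g ≠ 1 →
      R.rho b * g * R.rho b = g⁻¹ → Nat.card (cm M g) = 4 → R.pi y ∈ cm M g) : RT (EE R) (aa R) := by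
  haveI : Finite M := Sec.finite_left R
  haveI : Finite X := Sec.finite_right R
  refine (pre h hx R htv).toRT ?_
  rintro _ ⟨y, hy, rfl⟩ g hg hg3 hg1 hgi hg4
  obtain ⟨b, hb, hn⟩ := h.exists_not_mem hy
  rw [aa_eq h R hy hb hn] at hgi
  exact hD y b g hy hb hn hg hg3 hg1 hgi hg4

/-- **Main result**: in rank two `O_p(X) = 1` for all primes `p ≠ 5`. -/
theorem pCore_eq_bot (h : _root_.Cfsg.Agent.MinSimple.OddOne.One T V z) (hx : Pt z x) (R : _root_.Cfsg.Agent.MinSimple.OddRep.Rep V x M X)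
    (htv : ∀ y b, Col V x y → b ∈ ws V y → b ∉ kq V x →
      ¬ ∃ n : M, ∀ m : M, R.rho b • m = m ∨ R.rho b • m = m + n)
    (hD : ∀ y b g, Col V x y → b ∈ ws V y → b ∉ kq V x → g ∈ pCore 3 X → g ^ 3 = 1 → g ≠ 1 →
      R.rho b * g * R.rho b = g⁻¹ → Nat.card (cm M g) = 4 → R.pi y ∈ cm M g) {p : ℕ} (hp : p.Prime)
    (hp5 : p ≠ 5) : pCore p X = ⊥ := by
  haveI : Finite M := Sec.finite_left R
  haveI : Finite X := Sec.finite_right R
  exact (rt h hx R htv hD).pCore_eq_bot hp hp5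

end Cfsg.Agent.MinSimple.OddRankTwo
end

-- part: MinSimple/OddKPair
section
/-!
# Two mutually normalising elementary abelian 2-groups: `k ≤ 1`

Abstract form of `(E1)(b)`, `n = 1`: `r ≠ d` are collinear points, `R = ws V r`, `D = ws V d`, `K = kq V r`,
`L = kq V d`; result: `|R : R ∩ L| ≤ 2`.
-/

set_option autoImplicit false
set_option linter.dupNamespace false

namespace Cfsg.Agent.MinSimple.OddKPair

open Subgroup Cfsg.Agent.MinSimple Cfsg.Agent.MinSimple.OddKMod Cfsg.Agent.MinSimple.OddKHalf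

universe u

/-! ### module lemmas -/

section module

variable {X M : Type*} [Group X] [AddCommGroup M] [DistribMulAction X M]

theorem smul_eq_of_sq' {y : X} {h : ℕ} (hn : y ^ (2 * h + 1) = 1) {m : M} (hm : y • y • m = m) :
    y • m = m := by
  have h1 : ∀ k : ℕ, (y ^ 2) ^ k • m = m := by
    intro k
    induction k with
    | zero => rw [pow_zero, one_smul]
    | succ k ih => rw [pow_succ, mul_smul, pow_two, mul_smul, hm, ← pow_two, ih]
  have h3 : (y ^ 2) ^ (h + 1) = y := by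
    rw [← pow_mul]
    have : 2 * (h + 1) = 2 * h + 1 + 1 := by ring
    rw [this, pow_succ, hn, one_mul]
  have := h1 (h + 1)
  rwa [h3] at this

theorem smul_inv_conj {y a : X} (ha : a * y * a⁻¹ = y⁻¹) (m : M) : a • y • m = y⁻¹ • a • m := by
  rw [← mul_smul, ← mul_smul]
  congr 1
  rw [← ha]; group

/-- `a` inverts `y` and fixes `m`, `y m`: `y` fixes `m` -/
theorem fix_inv {y a : X} {h : ℕ} (hn : y ^ (2 * h + 1) = 1) (ha : a * y * a⁻¹ = y⁻¹) {m : M}
    (h1 : a • m = m) (h2 : a • y • m = y • m) : y • m = m := by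
  apply smul_eq_of_sq' hn
  rw [smul_inv_conj ha, h1] at h2
  rw [← h2, smul_inv_smul]

theorem fix_of (h2 : ∀ m : M, m + m = 0) {y a c : X} {h : ℕ} (hn : y ^ (2 * h + 1) = 1)
    (ha : a * y * a⁻¹ = y⁻¹) (hc : c * y = y * c)
    (hac : ∀ m ∈ Bad.blk M y, a • (c • m + m) = c • m + m) : ∀ p ∈ Bad.blk M y, c • p = p := by
  intro p hp
  have hy : y • p ∈ Bad.blk M y := Bad.smul_mem_blk rfl hp
  have hcp : c • p ∈ Bad.blk M y := Bad.smul_mem_blk hc hp
  have e1 : y • (c • p + p) = c • y • p + y • p := by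
    rw [smul_add, ← mul_smul, ← hc, mul_smul]
  have h3 : y • (c • p + p) = c • p + p := by
    apply fix_inv hn ha (hac p hp)
    rw [e1]; exact hac _ hy
  have h4 := eq_zero_of_fix h2 hn (blk_add hcp hp) h3
  linear_combination (norm := abel) h4 - h2 p

end module

variable {G : Type u} [Group G]

/-- one side: the action of `C_G(r)` on `R/⟨r⟩` -/
structure Side (r : G) (R K : Subgroup G) where
  M : Type u
  X : Type u
  [addM : AddCommGroup M]
  [grp : Group X]
  [act : DistribMulAction X M]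
  π : G → M
  ρ : (centralizer ({r} : Set G) : Subgroup G) →* X
  F : Subgroup X
  r1 : r ≠ 1
  rR : r ∈ R
  sq : ∀ a ∈ R, a * a = 1
  nR : centralizer ({r} : Set G) ≤ normalizer (R : Set G)
  KC : K ≤ centralizer ({r} : Set G)
  pi_mul : ∀ a ∈ R, ∀ b ∈ R, π (a * b) = π a + π b
  pi_zero : ∀ a ∈ R, π a = 0 ↔ a = 1 ∨ a = r
  pi_surj : ∀ m : M, ∃ a ∈ R, π a = m
  pi_conj : ∀ (c : (centralizer ({r} : Set G) : Subgroup G)), ∀ a ∈ R,
    π ((c : G) * a * (c : G)⁻¹) = ρ c • π a
  surj : Function.Surjective ρ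
  ker : ∀ c, ρ c = 1 ↔ (c : G) ∈ K
  faithful : ∀ g : X, (∀ m : M, g • m = m) → g = 1
  fin : Finite X
  normal : F.Normal
  odd : Odd (Nat.card F)
  nil : Group.IsNilpotent F
  cent : centralizer (F : Set X) ≤ F

attribute [instance] Side.addM Side.grp Side.act

namespace Side

variable {r : G} {R K : Subgroup G} (s : Side r R K)

include s

theorem comm {a b : G} (ha : a ∈ R) (hb : b ∈ R) : a * b = b * a := comm_of_sq s.sq ha hb

theorem inv_eq {a : G} (ha : a ∈ R) : a⁻¹ = a := inv_of_sq s.sq ha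

theorem R_le : R ≤ centralizer ({r} : Set G) := fun _ ha =>
  mem_centralizer_singleton_iff.mpr (s.comm ha s.rR)

theorem pi_one : s.π 1 = 0 := (s.pi_zero 1 (one_mem _)).mpr (Or.inl rfl)

theorem pi_r : s.π r = 0 := (s.pi_zero r s.rR).mpr (Or.inr rfl)

theorem two (m : s.M) : m + m = 0 := by
  obtain ⟨a, ha, rfl⟩ := s.pi_surj m
  rw [← s.pi_mul a ha a ha, s.sq a ha, s.pi_one]

theorem conj_mem {c a : G} (hc : c ∈ centralizer ({r} : Set G)) (ha : a ∈ R) : c * a * c⁻¹ ∈ R :=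
  (mem_normalizer_iff.mp (s.nR hc) a).mp ha

theorem pi_comm {c : G} (hc : c ∈ centralizer ({r} : Set G)) {a : G} (ha : a ∈ R) :
    s.π (c * a * c⁻¹ * a⁻¹) = s.ρ ⟨c, hc⟩ • s.π a + s.π a := by
  rw [s.inv_eq ha, s.pi_mul _ (s.conj_mem hc ha) _ ha, ← s.pi_conj ⟨c, hc⟩ a ha]

theorem pi_eq_iff {a b : G} (ha : a ∈ R) (hb : b ∈ R) : s.π a = s.π b ↔ a = b ∨ a = b * r := by
  have h1 : s.π a = s.π b ↔ s.π (a * b) = 0 := by
    rw [s.pi_mul a ha b hb]
    constructor
    · intro e; rw [e, s.two]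
    · intro e
      linear_combination (norm := abel) e - s.two (s.π b)
  rw [h1, s.pi_zero _ (mul_mem ha hb)]
  constructor
  · rintro (e | e)
    · left
      rw [mul_eq_one_iff_eq_inv.mp e, s.inv_eq hb]
    · right
      calc a = a * b * b := by rw [mul_assoc, s.sq b hb, mul_one]
        _ = b * r := by rw [e, s.comm s.rR hb]
  · rintro (e | e)
    · left; rw [e, s.sq b hb]
    · right
      rw [e, mul_assoc, s.comm s.rR hb, ← mul_assoc, s.sq b hb, one_mul]

theorem comm_of_K {c a : G} (hc : c ∈ K) (ha : a ∈ R) : c * a * c⁻¹ * a⁻¹ = 1 ∨ c * a * c⁻¹ * a⁻¹ = r := by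
  have hcC := s.KC hc
  apply (s.pi_zero _ (mul_mem (s.conj_mem hcC ha) (inv_mem ha))).mp
  rw [s.pi_comm hcC ha, (s.ker ⟨c, hcC⟩).mpr hc, one_smul, s.two]

theorem pi_ub {x p : G} (hx : x ∈ centralizer ({r} : Set G)) (hp : p ∈ ub R x) :
    s.π p ∈ Bad.blk s.M (s.ρ ⟨x, hx⟩) := by
  obtain ⟨m, hm, rfl⟩ := hp
  exact ⟨s.π m, s.pi_comm hx hm⟩

theorem exists_ub {x : G} (hx : x ∈ centralizer ({r} : Set G)) {m : s.M}
    (hm : m ∈ Bad.blk s.M (s.ρ ⟨x, hx⟩)) : ∃ p ∈ ub R x, s.π p = m := by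
  obtain ⟨n, rfl⟩ := hm
  obtain ⟨a, ha, rfl⟩ := s.pi_surj n
  exact ⟨x * a * x⁻¹ * a⁻¹, ⟨a, ha, rfl⟩, s.pi_comm hx ha⟩

theorem rho_comm {b y : G} (hb : b ∈ centralizer ({r} : Set G)) (hy : y ∈ centralizer ({r} : Set G)) :
    b * y * b⁻¹ * y⁻¹ ∈ K ↔ s.ρ ⟨b, hb⟩ * s.ρ ⟨y, hy⟩ = s.ρ ⟨y, hy⟩ * s.ρ ⟨b, hb⟩ := by
  have h1 : s.ρ (⟨b, hb⟩ * ⟨y, hy⟩ * (⟨b, hb⟩)⁻¹ * (⟨y, hy⟩)⁻¹) = 1 ↔ b * y * b⁻¹ * y⁻¹ ∈ K :=
    s.ker _
  rw [← h1, map_mul, map_mul, map_mul, map_inv, map_inv, mul_inv_eq_one, mul_inv_eq_iff_eq_mul]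

theorem rho_inv {b y : G} (hb : b ∈ centralizer ({r} : Set G)) (hy : y ∈ centralizer ({r} : Set G)) :
    b * y * b⁻¹ * y ∈ K ↔ s.ρ ⟨b, hb⟩ * s.ρ ⟨y, hy⟩ * (s.ρ ⟨b, hb⟩)⁻¹ = (s.ρ ⟨y, hy⟩)⁻¹ := by
  have h1 : s.ρ (⟨b, hb⟩ * ⟨y, hy⟩ * (⟨b, hb⟩)⁻¹ * ⟨y, hy⟩) = 1 ↔ b * y * b⁻¹ * y ∈ K :=
    s.ker _
  rw [← h1, map_mul, map_mul, map_mul, map_inv, mul_eq_one_iff_eq_inv]

theorem rho_pow {y : G} (hy : y ∈ centralizer ({r} : Set G)) {k : ℕ} (hk : y ^ k = 1) :
    s.ρ ⟨y, hy⟩ ^ k = 1 := by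
  rw [← map_pow, show (⟨y, hy⟩ : (centralizer ({r} : Set G) : Subgroup G)) ^ k = 1 from Subtype.ext hk,
    map_one]

/-- exact lift of an inverted element of odd order -/
theorem exists_lift [Finite G] {b : G} (hb : b ∈ centralizer ({r} : Set G)) (hbb : b * b = 1) {x : s.X}
    (hx : Odd (orderOf x)) (hinv : s.ρ ⟨b, hb⟩ * x * (s.ρ ⟨b, hb⟩)⁻¹ = x⁻¹) :
    ∃ (y : G) (hy : y ∈ centralizer ({r} : Set G)), Odd (orderOf y) ∧ b * y * b⁻¹ = y⁻¹ ∧
      s.ρ ⟨y, hy⟩ = x := by
  obtain ⟨⟨g, hg⟩, hgx⟩ := s.surj x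
  set! c := g * b * g⁻¹ * b⁻¹ with hc
  have hcC : c ∈ centralizer ({r} : Set G) := mul_mem (mul_mem (mul_mem hg hb) (inv_mem hg)) (inv_mem hb)
  have hbi : b⁻¹ = b := inv_eq_of_mul_eq_one_left hbb
  have hbc : b * c * b⁻¹ = c⁻¹ := by
    rw [hc, hbi]
    calc b * (g * b * g⁻¹ * b) * b = b * g * b * g⁻¹ * (b * b) := by group
      _ = b * g * b⁻¹ * g⁻¹ := by rw [hbb, mul_one, hbi]
      _ = (g * b * g⁻¹ * b⁻¹)⁻¹ := by group
      _ = (g * b * g⁻¹ * b)⁻¹ := by rw [hbi]
  have hρc : s.ρ ⟨c, hcC⟩ = x ^ 2 := by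
    have e : (⟨c, hcC⟩ : (centralizer ({r} : Set G) : Subgroup G)) =
        ⟨g, hg⟩ * ⟨b, hb⟩ * (⟨g, hg⟩)⁻¹ * (⟨b, hb⟩)⁻¹ := rfl
    rw [e, map_mul, map_mul, map_mul, map_inv, map_inv, hgx]
    have e2 : s.ρ ⟨b, hb⟩ * x⁻¹ * (s.ρ ⟨b, hb⟩)⁻¹ = x := by
      calc s.ρ ⟨b, hb⟩ * x⁻¹ * (s.ρ ⟨b, hb⟩)⁻¹ = (s.ρ ⟨b, hb⟩ * x * (s.ρ ⟨b, hb⟩)⁻¹)⁻¹ := by group
        _ = x := by rw [hinv, inv_inv]
    calc x * s.ρ ⟨b, hb⟩ * x⁻¹ * (s.ρ ⟨b, hb⟩)⁻¹ = x * (s.ρ ⟨b, hb⟩ * x⁻¹ * (s.ρ ⟨b, hb⟩)⁻¹) := by group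
      _ = x ^ 2 := by rw [e2, pow_two]
  obtain ⟨k, m, hm, hkm⟩ := Nat.exists_eq_two_pow_mul_odd (orderOf_pos c).ne'
  have hcop : (2 ^ (k + 1)).Coprime (orderOf x) := Nat.Coprime.pow_left _ (Nat.coprime_two_left.mpr hx)
  obtain ⟨l, hl⟩ := exists_pow_eq_self_of_coprime hcop
  refine ⟨c ^ (2 ^ k * l), pow_mem hcC _, ?_, ?_, ?_⟩
  · have h1 : (c ^ (2 ^ k * l)) ^ m = 1 := by
      rw [← pow_mul]
      have : 2 ^ k * l * m = orderOf c * l := by rw [hkm]; ring
      rw [this, pow_mul, pow_orderOf_eq_one, one_pow]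
    exact hm.of_dvd_nat (orderOf_dvd_of_pow_eq_one h1)
  · rw [← conj_pow, hbc, inv_pow]
  · have e : (⟨c ^ (2 ^ k * l), pow_mem hcC _⟩ : (centralizer ({r} : Set G) : Subgroup G)) =
        ⟨c, hcC⟩ ^ (2 ^ k * l) := rfl
    rw [e, map_pow, hρc, ← pow_mul]
    have : 2 * (2 ^ k * l) = 2 ^ (k + 1) * l := by ring
    rw [this, pow_mul, hl]

/-- a dihedral system for the elementary abelian group `A ≤ C_G(r)` modulo `K` -/
structure Sys (r : G) (K A : Subgroup G) (n : ℕ) (a y : Fin n → G) : Prop where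
  aA : ∀ i, a i ∈ A
  yC : ∀ i, y i ∈ centralizer ({r} : Set G)
  odd : ∀ i, Odd (orderOf (y i))
  inv : ∀ i, a i * y i * (a i)⁻¹ = (y i)⁻¹
  nK : ∀ i, y i ∉ K
  eig : ∀ b ∈ A, ∀ j, b * y j * b⁻¹ * (y j)⁻¹ ∈ K ∨ b * y j * b⁻¹ * y j ∈ K
  fix : ∀ i j, i ≠ j → a i * y j * (a i)⁻¹ * (y j)⁻¹ ∈ K
  comm : ∀ i j, y i * y j * (y i)⁻¹ * (y j)⁻¹ ∈ K
  faith : ∀ b ∈ A, (∀ j, b * y j * b⁻¹ * (y j)⁻¹ ∈ K) → b ∈ K

theorem eq_one_of_F {g : s.X} (hg : g ∈ s.F) (hgg : g * g = 1) : g = 1 :=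
  Dihedral.eq_one_of_mul_self s.odd hg hgg

theorem exists_sys [Finite G] {A : Subgroup G} (hA : A ≤ centralizer ({r} : Set G))
    (hA2 : ∀ a ∈ A, a * a = 1) : ∃ (n : ℕ) (a y : Fin n → G), Sys r K A n a y := by
  classical
  have := s.fin
  set! B : Subgroup s.X := (A.subgroupOf (centralizer ({r} : Set G))).map s.ρ with hB
  have hBmem : ∀ b ∈ B, ∃ (a : G) (ha : a ∈ A), s.ρ ⟨a, hA ha⟩ = b := by
    rintro _ ⟨⟨a, haC⟩, ha, rfl⟩
    exact ⟨a, ha, rfl⟩
  have hmemB : ∀ (a : G) (ha : a ∈ A), s.ρ ⟨a, hA ha⟩ ∈ B := fun a ha => ⟨⟨a, hA ha⟩, ha, rfl⟩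
  have hB2 : ∀ b ∈ B, b * b = 1 := by
    intro b hb
    obtain ⟨a, ha, rfl⟩ := hBmem b hb
    rw [← map_mul]
    have : (⟨a, hA ha⟩ : (centralizer ({r} : Set G) : Subgroup G)) * ⟨a, hA ha⟩ = 1 :=
      Subtype.ext (hA2 a ha)
    rw [this, map_one]
  have hBF : B ≤ normalizer (s.F : Set s.X) := by
    have := s.normal
    rw [normalizer_eq_top]; exact le_top
  obtain ⟨n, b, y, h, hbot⟩ := Dihedral.exists_full (A := B) (R := s.F) hB2 s.nil s.odd hBF (by
    intro a ha hc
    have h1 : a ∈ s.F := s.cent (mem_centralizer_iff.mpr fun f hf => (hc f hf).symm)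
    exact s.eq_one_of_F h1 (hB2 a ha))
  choose a haA hab using fun i => hBmem (b i) (h.bA i)
  have hodd : ∀ i, Odd (orderOf (y i)) := by
    intro i
    have h1 : orderOf (⟨y i, h.yR i⟩ : s.F) ∣ Nat.card s.F := _root_.orderOf_dvd_natCard _
    have h2 : orderOf (⟨y i, h.yR i⟩ : s.F) = orderOf (y i) := Subgroup.orderOf_mk _ _
    rw [h2] at h1
    exact s.odd.of_dvd_nat h1
  choose Y hYC hYo hYi hY using fun i => s.exists_lift (hA (haA i)) (hA2 _ (haA i)) (hodd i)
    (by rw [hab i]; exact h.inv i)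
  refine ⟨n, a, Y, haA, hYC, hYo, hYi, ?_, ?_, ?_, ?_, ?_⟩
  · intro i hK
    have h1 : y i = 1 := by
      rw [← hY i]; exact (s.ker ⟨Y i, hYC i⟩).mpr hK
    exact h.ne_one i h1
  · intro c hc j
    rw [s.rho_comm (hA hc) (hYC j), s.rho_inv (hA hc) (hYC j), hY j]
    exact h.eig _ (hmemB c hc) j
  · intro i j hij
    rw [s.rho_comm (hA (haA i)) (hYC j), hY j, hab i]
    exact h.fix i j hij
  · intro i j
    rw [s.rho_comm (hYC i) (hYC j), hY j, hY i]
    exact h.comm i j
  · intro c hc hall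
    have h1 : s.ρ ⟨c, hA hc⟩ ∈ B ⊓ centralizer (Set.range y) := by
      refine ⟨hmemB c hc, mem_centralizer_iff.mpr ?_⟩
      rintro _ ⟨j, rfl⟩
      have := (s.rho_comm (hA hc) (hYC j)).mp (hall j)
      rw [hY j] at this
      exact this.symm
    rw [hbot, mem_bot] at h1
    exact (s.ker _).mp h1

/-- the module lemma, in the group -/
theorem exists_good' [Finite G] {V : Subgroup G} {d : G} (hdR : d ∈ R)
    (hV : ∀ v ∈ V, v = 1 ∨ v = r ∨ v = d ∨ v = r * d) (hrV : r ∈ V) (hdV : d ∈ V)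
    (hgen : ∀ N : Subgroup G, V ≤ N → centralizer ({r} : Set G) ≤ normalizer (N : Set G) → R ≤ N)
    {w : G} (hw : w ∈ centralizer ({r} : Set G)) (hww : w * w = 1)
    (hnot : ∃ a ∈ R, w * a * w⁻¹ * a⁻¹ ∉ V) :
    ∃ x ∈ centralizer ({r} : Set G), Odd (orderOf x) ∧ w * x * w⁻¹ = x⁻¹ ∧
      ∃ a ∈ ub R x, w * a * w⁻¹ * a⁻¹ ∉ V := by
  have := s.normal
  have := s.fin
  have hpiV : ∀ v ∈ V, s.π v = 0 ∨ s.π v = s.π d := by
    intro v hv
    rcases hV v hv with rfl | rfl | rfl | rfl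
    · left; exact s.pi_one
    · left; exact s.pi_r
    · right; rfl
    · right; rw [s.pi_mul _ s.rR _ hdR, s.pi_r, zero_add]
  have hVpi : ∀ v ∈ R, (s.π v = 0 ∨ s.π v = s.π d) → v ∈ V := by
    rintro v hv (e | e)
    · rcases (s.pi_zero v hv).mp e with rfl | rfl
      · exact one_mem _
      · exact hrV
    · rcases (s.pi_eq_iff hv hdR).mp e with rfl | rfl
      · exact hdV
      · exact mul_mem hdV hrV
  have hww' : s.ρ ⟨w, hw⟩ * s.ρ ⟨w, hw⟩ = 1 := by
    rw [← map_mul]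
    have : (⟨w, hw⟩ : (centralizer ({r} : Set G) : Subgroup G)) * ⟨w, hw⟩ = 1 := Subtype.ext hww
    rw [this, map_one]
  obtain ⟨x, hxF, hwx, m, hm0, hmd⟩ := exists_good (H := s.X) (M := s.M) s.two s.faithful s.normal s.odd
    (w := s.ρ ⟨w, hw⟩) hww' (by
      intro hc
      have h1 : s.ρ ⟨w, hw⟩ ∈ s.F := by
        apply s.cent
        rw [mem_centralizer_iff]
        intro f hf
        calc f * s.ρ ⟨w, hw⟩ = (s.ρ ⟨w, hw⟩ * f * (s.ρ ⟨w, hw⟩)⁻¹) * s.ρ ⟨w, hw⟩ := by rw [hc f hf]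
          _ = _ := by group
      exact s.eq_one_of_F h1 hww') (δ := s.π d) (by
      intro N hdN hN m
      let N' : Subgroup G :=
        { carrier := {a | a ∈ R ∧ s.π a ∈ N}
          mul_mem' := by
            rintro a b ⟨ha, ha'⟩ ⟨hb, hb'⟩
            refine ⟨mul_mem ha hb, ?_⟩
            rw [s.pi_mul a ha b hb]; exact add_mem ha' hb'
          one_mem' := ⟨one_mem _, by rw [s.pi_one]; exact zero_mem _⟩
          inv_mem' := by
            rintro a ⟨ha, ha'⟩
            rw [s.inv_eq ha]; exact ⟨ha, ha'⟩ }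
      have h1 : R ≤ N' := by
        apply hgen
        · intro v hv
          have hvR : v ∈ R := by
            rcases hV v hv with rfl | rfl | rfl | rfl
            · exact one_mem _
            · exact s.rR
            · exact hdR
            · exact mul_mem s.rR hdR
          refine ⟨hvR, ?_⟩
          rcases hpiV v hv with e | e
          · rw [e]; exact zero_mem _
          · rw [e]; exact hdN
        · refine ZN.Block.le_normalizer_of_forall ?_
          rintro c hc a ⟨ha, ha'⟩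
          refine ⟨s.conj_mem hc ha, ?_⟩
          rw [s.pi_conj ⟨c, hc⟩ a ha]
          exact hN _ _ ha'
      obtain ⟨a, ha, rfl⟩ := s.pi_surj m
      exact (h1 ha).2) (by
      obtain ⟨a, ha, hna⟩ := hnot
      refine ⟨s.π a, ?_, ?_⟩
      · intro e
        apply hna
        apply hVpi _ (mul_mem (s.conj_mem hw ha) (inv_mem ha))
        left
        rw [s.pi_comm hw ha, e]
      · intro e
        apply hna
        apply hVpi _ (mul_mem (s.conj_mem hw ha) (inv_mem ha))
        right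
        rw [s.pi_comm hw ha, e])
  have hodd : Odd (orderOf x) := by
    have h1 : orderOf (⟨x, hxF⟩ : s.F) ∣ Nat.card s.F := _root_.orderOf_dvd_natCard _
    rw [Subgroup.orderOf_mk] at h1
    exact s.odd.of_dvd_nat h1
  obtain ⟨y, hyC, hyo, hyi, hyx⟩ := s.exists_lift hw hww hodd hwx
  obtain ⟨a, ha, ham⟩ := s.exists_ub hyC (m := x • m + m) ⟨m, by rw [hyx]⟩
  have haR : a ∈ R := ub_subset (s.nR hyC) ha
  refine ⟨y, hyC, hyo, hyi, a, ha, fun hV' => ?_⟩
  rcases hpiV _ hV' with e | e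
  · rw [s.pi_comm hw haR, ham] at e
    exact hm0 e
  · rw [s.pi_comm hw haR, ham] at e
    exact hmd e

end Side

/-- the pair of collinear points `r`, `d` on the line `V`; `R = ws V r`, `D = ws V d` -/
structure Pr (r d : G) (V R D K L : Subgroup G) where
  left : Side r R K
  right : Side d D L
  ne : r ≠ d
  rV : r ∈ V
  dV : d ∈ V
  four : ∀ v ∈ V, v = 1 ∨ v = r ∨ v = d ∨ v = r * d
  VR : V ≤ R
  VD : V ≤ D
  genR : ∀ N : Subgroup G, V ≤ N → centralizer ({r} : Set G) ≤ normalizer (N : Set G) → R ≤ N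
  genD : ∀ N : Subgroup G, V ≤ N → centralizer ({d} : Set G) ≤ normalizer (N : Set G) → D ≤ N
  loc : ∀ U : Subgroup G, IsPGroup 2 U → U ≠ ⊥ → Group.IsSolvable (normalizer (U : Set G))

namespace Pr

variable {r d : G} {V R D K L : Subgroup G} (h : Pr r d V R D K L)

include h

theorem rd : r * d = d * r := h.left.comm h.left.rR (h.VR h.dV)

/-- the other side -/
def symm : Pr d r V D R L K where
  left := h.right
  right := h.left
  ne := h.ne.symm
  rV := h.dV
  dV := h.rV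
  four := by
    intro v hv
    rw [← h.rd]
    rcases h.four v hv with e | e | e | e
    · exact Or.inl e
    · exact Or.inr (Or.inr (Or.inl e))
    · exact Or.inr (Or.inl e)
    · exact Or.inr (Or.inr (Or.inr e))
  VR := h.VD
  VD := h.VR
  genR := h.genD
  genD := h.genR
  loc := h.loc

theorem R_le : R ≤ centralizer ({d} : Set G) := fun _ ha =>
  mem_centralizer_singleton_iff.mpr (h.left.comm ha (h.VR h.dV))

theorem D_le : D ≤ centralizer ({r} : Set G) := fun _ ha =>
  mem_centralizer_singleton_iff.mpr (h.right.comm ha (h.VD h.rV))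

theorem nRD : R ≤ normalizer (D : Set G) := h.R_le.trans h.right.nR

theorem nDR : D ≤ normalizer (R : Set G) := h.D_le.trans h.left.nR

/-- commutators lie in `R ⊓ D` -/
theorem comm_mem {b u : G} (hb : b ∈ R) (hu : u ∈ D) : b * u * b⁻¹ * u⁻¹ ∈ R ∧ b * u * b⁻¹ * u⁻¹ ∈ D := by
  refine ⟨?_, mul_mem ((mem_normalizer_iff.mp (h.nRD hb) u).mp hu) (inv_mem hu)⟩
  have e : b * u * b⁻¹ * u⁻¹ = b * (u * b⁻¹ * u⁻¹) := by group
  rw [e]
  exact mul_mem hb ((mem_normalizer_iff.mp (h.nDR hu) _).mp (inv_mem hb))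

/-- `(N)` -/
theorem killing {y x v w a u : G} (hv1 : v ≠ 1) (hvR : v ∈ R) (hw : w ∈ Killing.ncl (zpowers y) v)
    (ha : a ∈ Killing.ncl (zpowers x) v) (hwa : w * a * w⁻¹ * a⁻¹ = v) (hu1 : u ≠ 1) (huR : u ∈ R)
    (huy : y * u = u * y) (hux : x * u = u * x) : False := by
  have huv : v * u = u * v := h.left.comm hvR huR
  have hou : orderOf u = 2 := orderOf_eq_prime (by rw [pow_two]; exact h.left.sq u huR) hu1
  have hX : zpowers v ⊔ zpowers y ≤ centralizer ({u} : Set G) := by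
    rw [sup_le_iff, zpowers_le, zpowers_le, mem_centralizer_singleton_iff, mem_centralizer_singleton_iff]
    exact ⟨huv, huy⟩
  have hY : zpowers x ≤ centralizer ({u} : Set G) := by
    rw [zpowers_le, mem_centralizer_singleton_iff]; exact hux
  refine Killing.killing_centralizer h.loc (X := zpowers v ⊔ zpowers y) (Y := zpowers x)
    (mem_sup_left (mem_zpowers v)) hv1 (V := zpowers w) (W := zpowers a) ?_ ?_ ?_ hou hX hY
  · rw [zpowers_le]; exact Killing.ncl_mono le_sup_right v hw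
  · rw [zpowers_le]; exact ha
  · have := commutator_mem_commutator (mem_zpowers w) (mem_zpowers a)
    rw [commutatorElement_def, hwa] at this
    exact this

end Pr

/-- `a ∈ R` inverts `y ∈ C_G(d)` of odd order, all of `R` centralises or inverts `y` modulo `L` -/
structure Wt (d : G) (R L : Subgroup G) (a y : G) : Prop where
  aR : a ∈ R
  yC : y ∈ centralizer ({d} : Set G)
  odd : Odd (orderOf y)
  inv : a * y * a⁻¹ = y⁻¹
  nL : y ∉ L
  eig : ∀ b ∈ R, b * y * b⁻¹ * y⁻¹ ∈ L ∨ b * y * b⁻¹ * y ∈ L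

namespace Wt

variable {r d : G} {V R D K L : Subgroup G} {a y : G}

/-- elements of `R` centralising `y` modulo `L` act trivially on `[D, y]⟨d⟩/⟨d⟩` -/
theorem comm_cases (hy : Wt d R L a y) (h : Pr r d V R D K L) {c p : G} (hc : c ∈ R)
    (hcy : c * y * c⁻¹ * y⁻¹ ∈ L) (hp : p ∈ ub D y) : c * p * c⁻¹ * p⁻¹ = 1 ∨ c * p * c⁻¹ * p⁻¹ = d := by
  obtain ⟨k, hk⟩ := exists_pow_eq hy.odd
  have hpD := ub_subset (h.right.nR hy.yC) hp
  have h1 := fix_of (y := h.right.ρ ⟨y, hy.yC⟩) (a := h.right.ρ ⟨a, h.R_le hy.aR⟩)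
    (c := h.right.ρ ⟨c, h.R_le hc⟩) h.right.two (h.right.rho_pow hy.yC hk)
    ((h.right.rho_inv (h.R_le hy.aR) hy.yC).mp (by rw [hy.inv, inv_mul_cancel]; exact one_mem _))
    ((h.right.rho_comm (h.R_le hc) hy.yC).mp hcy) (by
      intro m hm
      obtain ⟨q, hq, rfl⟩ := h.right.exists_ub hy.yC hm
      have hqD := ub_subset (h.right.nR hy.yC) hq
      rw [← h.right.pi_comm (h.R_le hc) hqD]
      obtain ⟨h2, h3⟩ := h.comm_mem hc hqD
      rw [← h.right.pi_conj ⟨a, h.R_le hy.aR⟩ _ h3]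
      congr 1
      rw [h.left.comm hy.aR h2, mul_inv_cancel_right]) _ (h.right.pi_ub hy.yC hp)
  rw [← h.right.pi_zero _ (h.comm_mem hc hpD).2, h.right.pi_comm (h.R_le hc) hpD, h1, h.right.two]

/-- `[w, R] ≤ ⟨v, d⟩` for `w ∈ [D, y]`, `v = [w, a]` -/
theorem comm_R (hy : Wt d R L a y) (h : Pr r d V R D K L) {w v : G} (hw : w ∈ ub D y)
    (hv : w * (a * w * a⁻¹) = v) {b : G} (hb : b ∈ R) :
    w * (b * w * b⁻¹) = 1 ∨ w * (b * w * b⁻¹) = d ∨ w * (b * w * b⁻¹) = v ∨ w * (b * w * b⁻¹) = v * d := by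
  have hwD := ub_subset (h.right.nR hy.yC) hw
  have hww := h.right.sq w hwD
  have hwi := h.right.inv_eq hwD
  rcases hy.eig b hb with e | e
  · rcases hy.comm_cases h hb e hw with e1 | e1
    · left
      have : b * w * b⁻¹ = w := mul_inv_eq_one.mp e1
      rw [this, hww]
    · right; left
      have : b * w * b⁻¹ = d * w := by rw [← e1]; group
      rw [this, h.right.comm h.right.rR hwD, ← mul_assoc, hww, one_mul]
  · -- `a⁻¹ b` centralises `y` modulo `L`
    have hab : a⁻¹ * b ∈ R := mul_mem (inv_mem hy.aR) hb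
    have h1 : (a⁻¹ * b) * y * (a⁻¹ * b)⁻¹ * y⁻¹ ∈ L := by
      rw [h.right.rho_comm (h.R_le hab) hy.yC]
      have e1 := (h.right.rho_inv (h.R_le hb) hy.yC).mp e
      have e2 := (h.right.rho_inv (h.R_le hy.aR) hy.yC).mp (by rw [hy.inv, inv_mul_cancel]; exact one_mem _)
      have e3 : h.right.ρ ⟨a⁻¹ * b, h.R_le hab⟩ =
          (h.right.ρ ⟨a, h.R_le hy.aR⟩)⁻¹ * h.right.ρ ⟨b, h.R_le hb⟩ := by
        rw [← map_inv, ← map_mul]; rfl
      set A := h.right.ρ ⟨a, h.R_le hy.aR⟩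
      set B := h.right.ρ ⟨b, h.R_le hb⟩
      set Y := h.right.ρ ⟨y, hy.yC⟩
      rw [e3]
      have e4 : A⁻¹ * B * Y * (A⁻¹ * B)⁻¹ = Y := by
        calc A⁻¹ * B * Y * (A⁻¹ * B)⁻¹ = A⁻¹ * (B * Y * B⁻¹) * A := by group
          _ = A⁻¹ * (A * Y * A⁻¹) * A := by rw [e1, e2]
          _ = Y := by group
      calc A⁻¹ * B * Y = (A⁻¹ * B * Y * (A⁻¹ * B)⁻¹) * (A⁻¹ * B) := by group
        _ = Y * (A⁻¹ * B) := by rw [e4]
    have e0 : b * w * b⁻¹ = a * ((a⁻¹ * b) * w * (a⁻¹ * b)⁻¹) * a⁻¹ := by group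
    rcases hy.comm_cases h hab h1 hw with e1 | e1
    · right; right; left
      have : (a⁻¹ * b) * w * (a⁻¹ * b)⁻¹ = w := mul_inv_eq_one.mp e1
      rw [e0, this, hv]
    · right; right; right
      have : (a⁻¹ * b) * w * (a⁻¹ * b)⁻¹ = d * w := by rw [← e1]; group
      rw [e0, this]
      have had : a * d * a⁻¹ = d := by
        rw [h.left.comm hy.aR (h.VR h.dV), mul_inv_cancel_right]
      have hawD : a * w * a⁻¹ ∈ D := (mem_normalizer_iff.mp (h.nRD hy.aR) w).mp hwD
      calc w * (a * (d * w) * a⁻¹) = w * ((a * d * a⁻¹) * (a * w * a⁻¹)) := by group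
        _ = w * ((a * w * a⁻¹) * d) := by rw [had, h.right.comm h.right.rR hawD]
        _ = v * d := by rw [← mul_assoc, hv]

/-- there is a nontrivial element in `[D, y] ∩ R` -/
theorem exists_v (hy : Wt d R L a y) (h : Pr r d V R D K L) : ∃ v ∈ ub D y, v ∈ R ∧ v ≠ 1 := by
  by_contra hcon
  push Not at hcon
  obtain ⟨k, hk⟩ := exists_pow_eq hy.odd
  have hyN := h.right.nR hy.yC
  have hinv := (h.right.rho_inv (h.R_le hy.aR) hy.yC).mp (by rw [hy.inv, inv_mul_cancel]; exact one_mem _)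
  -- `a` centralises `[D, y]`
  have h1 : ∀ p ∈ ub D y, a * p * a⁻¹ = p := by
    intro p hp
    have hpD := ub_subset hyN hp
    have h2 := ub_conj_inv h.right.sq hyN (h.nRD hy.aR) hy.inv hp
    have h3 : a * p * a⁻¹ * p⁻¹ ∈ ub D y := by
      rw [h.right.inv_eq hpD]
      exact ub_mul h.right.sq hyN h2 hp
    exact mul_inv_eq_one.mp (hcon _ h3 (h.comm_mem hy.aR hpD).1)
  have h4 : ∀ m ∈ Bad.blk h.right.M (h.right.ρ ⟨y, hy.yC⟩), m = 0 := by
    intro m hm
    have h5 : ∀ m ∈ Bad.blk h.right.M (h.right.ρ ⟨y, hy.yC⟩), h.right.ρ ⟨a, h.R_le hy.aR⟩ • m = m := by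
      intro m hm
      obtain ⟨q, hq, rfl⟩ := h.right.exists_ub hy.yC hm
      rw [← h.right.pi_conj ⟨a, h.R_le hy.aR⟩ _ (ub_subset hyN hq)]
      congr 1
      exact h1 q hq
    exact eq_zero_of_fix h.right.two (h.right.rho_pow hy.yC hk) hm
      (fix_inv (h.right.rho_pow hy.yC hk) hinv (h5 m hm) (h5 _ (Bad.smul_mem_blk rfl hm)))
  apply hy.nL
  apply (h.right.ker ⟨y, hy.yC⟩).mp
  apply h.right.faithful
  intro m
  have := h4 _ ⟨m, rfl⟩
  linear_combination (norm := abel) this - h.right.two m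

theorem not_mem_V (hy : Wt d R L a y) (h : Pr r d V R D K L) (hr1 : r ∉ ub D y) (hr2 : r * d ∉ ub D y)
    {v : G} (hv : v ∈ ub D y) (hv1 : v ≠ 1) : v ∉ V := by
  intro hV
  rcases h.four v hV with rfl | rfl | rfl | rfl
  · exact hv1 rfl
  · exact hr1 hv
  · exact hv1 (eq_one_of_comm h.right.sq (h.right.nR hy.yC) hy.odd hv
      (mem_centralizer_singleton_iff.mp hy.yC))
  · exact hr2 hv

/-- decomposition of an element centralised by `a` -/
theorem exists_dec {G : Type u} [Group G] {D : Subgroup G} (sq : ∀ u ∈ D, u * u = 1) {y a : G}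
    (hyD : y ∈ normalizer (D : Set G)) (ho : Odd (orderOf y)) (haD : a ∈ normalizer (D : Set G))
    (inv : a * y * a⁻¹ = y⁻¹) {u : G} (hu : u ∈ D) (hau : a * u = u * a) :
    ∃ c ∈ D, y * c = c * y ∧ ∃ p ∈ ub D y, u = c * p ∧ ∃ w ∈ ub D y, w * (a * w * a⁻¹) = p := by
  obtain ⟨c, hc, p, hp, hyc, hcp⟩ := exists_decomp' sq hyD ho hu
  have hpD := ub_subset hyD hp
  -- uniqueness gives that `a` centralises `p`
  have hap : a * p = p * a := by
    have h1 := ub_conj_inv sq hyD haD inv hp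
    have hacD : a * c * a⁻¹ ∈ D := (mem_normalizer_iff.mp haD c).mp hc
    have hac : y * (a * c * a⁻¹) = (a * c * a⁻¹) * y := by
      have e1 : y * a = a * y⁻¹ := by
        have : a⁻¹ * (a * y * a⁻¹)⁻¹ * a = a⁻¹ * y⁻¹⁻¹ * a := by rw [inv]
        have e2 : a⁻¹ * (a * y * a⁻¹)⁻¹ * a = y⁻¹ := by group
        rw [e2, inv_inv] at this
        rw [this]; group
      have e2 : a⁻¹ * y = y⁻¹ * a⁻¹ := by
        calc a⁻¹ * y = a⁻¹ * (y * a) * a⁻¹ := by group
          _ = y⁻¹ * a⁻¹ := by rw [e1]; group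
      have e3 : y⁻¹ * c = c * y⁻¹ := by
        calc y⁻¹ * c = y⁻¹ * (c * y) * y⁻¹ := by group
          _ = c * y⁻¹ := by rw [← hyc]; group
      calc y * (a * c * a⁻¹) = (y * a) * c * a⁻¹ := by group
        _ = a * (y⁻¹ * c) * a⁻¹ := by rw [e1]; group
        _ = a * c * (y⁻¹ * a⁻¹) := by rw [e3]; group
        _ = a * c * a⁻¹ * y := by rw [← e2]; group
    have h2 : (a * c * a⁻¹) * (a * p * a⁻¹) = c * p := by
      calc (a * c * a⁻¹) * (a * p * a⁻¹) = a * (c * p) * a⁻¹ := by group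
        _ = c * p := by rw [← hcp, hau, mul_inv_cancel_right]
    have hapD := ub_subset hyD h1
    have h3 : (a * p * a⁻¹) * p = c * (a * c * a⁻¹) := by
      have hci := inv_of_sq sq hacD
      have hpi := inv_of_sq sq hpD
      calc (a * p * a⁻¹) * p = (a * c * a⁻¹)⁻¹ * ((a * c * a⁻¹) * (a * p * a⁻¹)) * p := by group
        _ = (a * c * a⁻¹) * (c * p) * p := by rw [h2, hci]
        _ = (a * c * a⁻¹) * c := by rw [mul_assoc, mul_assoc c p p, sq p hpD, mul_one]
        _ = c * (a * c * a⁻¹) := comm_of_sq sq hacD hc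
    have h4 : (a * p * a⁻¹) * p = 1 := by
      refine eq_one_of_comm sq hyD ho (ub_mul sq hyD h1 hp) ?_
      rw [h3, ← mul_assoc, hyc, mul_assoc, hac, ← mul_assoc, ← mul_assoc]
    have h5 : a * p * a⁻¹ = p := by
      rw [mul_eq_one_iff_eq_inv.mp h4, inv_of_sq sq hpD]
    calc a * p = (a * p * a⁻¹) * a := by group
      _ = p * a := by rw [h5]
  obtain ⟨w, hw, hwp, -, -⟩ := exists_half' sq hyD ho haD inv hap hp
  exact ⟨c, hc, hyc, p, hp, hcp, w, hw, hwp⟩

/-- **Step A** -/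
theorem stepA [Finite G] (hy : Wt d R L a y) (h : Pr r d V R D K L) (hr1 : r ∉ ub D y)
    (hr2 : r * d ∉ ub D y) :
    y * r ≠ r * y ∧ Nat.card (R ⊓ D ⊓ centralizer ({y} : Set G) : Subgroup G) ≤ 4 := by
  have hyD := h.right.nR hy.yC
  obtain ⟨v, hv, hvR, hv1⟩ := hy.exists_v h
  have hvD := ub_subset hyD hv
  have hvV := hy.not_mem_V h hr1 hr2 hv hv1
  obtain ⟨w, hw, hwv, hwn, hwn'⟩ := exists_half' h.right.sq hyD hy.odd (h.nRD hy.aR) hy.inv
    (h.left.comm hy.aR hvR) hv
  have hwD := ub_subset hyD hw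
  have hwC := h.D_le hwD
  have hww := h.right.sq w hwD
  have hwi := h.right.inv_eq hwD
  have hwb : ∀ b ∈ R, w * b * w⁻¹ * b⁻¹ = w * (b * w * b⁻¹) := by
    intro b _
    rw [hwi]; group
  obtain ⟨x, hxC, hxo, hwx, a₁, ha₁, ha₁V⟩ := h.left.exists_good' (h.VR h.dV) h.four h.rV h.dV h.genR hwC hww
    ⟨a, hy.aR, by rw [hwb a hy.aR, hwv]; exact hvV⟩
  have hxR := h.left.nR hxC
  have ha₁R := ub_subset hxR ha₁
  -- the common commutator
  obtain ⟨v₁, hv₁⟩ : ∃ v₁, v₁ = w * a₁ * w⁻¹ * a₁⁻¹ := ⟨_, rfl⟩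
  rw [← hv₁] at ha₁V
  have hv₁c : v₁ = v ∨ v₁ = v * d := by
    have := hy.comm_R h hw hwv ha₁R
    rw [← hwb a₁ ha₁R, ← hv₁] at this
    rcases this with e | e | e | e
    · exact absurd (by rw [e]; exact one_mem _) ha₁V
    · exact absurd (by rw [e]; exact h.dV) ha₁V
    · exact Or.inl e
    · exact Or.inr e
  have hv₁1 : v₁ ≠ 1 := fun e => ha₁V (by rw [e]; exact one_mem _)
  have hv₁x : v₁ ∈ ub R x := by
    rw [hv₁, h.left.inv_eq ha₁R]
    exact ub_mul h.left.sq hxR (ub_conj_inv h.left.sq hxR (h.nDR hwD) hwx ha₁) ha₁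
  have hv₁R := ub_subset hxR hv₁x
  have hv₁D : v₁ ∈ D := by
    rcases hv₁c with e | e
    · rw [e]; exact hvD
    · rw [e]; exact mul_mem hvD (h.VD h.dV)
  obtain ⟨w', hw', hw'v, hw'n, -⟩ := exists_half' h.left.sq hxR hxo (h.nDR hwD) hwx
    (h.right.comm hwD hv₁D) hv₁x
  have hw'R := ub_subset hxR hw'
  have hww' : w * w' * w⁻¹ * w'⁻¹ = v₁ := by
    rw [← hw'v, h.left.inv_eq hw'R, h.left.comm hw'R ((mem_normalizer_iff.mp (h.nDR hwD) w').mp hw'R)]
  have hwn₁ : w ∈ Killing.ncl (zpowers y) v₁ := by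
    rcases hv₁c with e | e
    · rw [e]; exact hwn
    · rw [e]
      exact hwn' d (h.VD h.dV) (mem_centralizer_singleton_iff.mp hy.yC)
  have kill : ∀ u ∈ R, y * u = u * y → x * u = u * x → u = 1 := by
    intro u hu hyu hxu
    by_contra hu1
    exact h.killing hv₁1 hv₁R hwn₁ hw'n hww' hu1 hu hyu hxu
  have hxr : x * r = r * x := mem_centralizer_singleton_iff.mp hxC
  refine ⟨fun e => h.left.r1 (kill r h.left.rR e hxr), ?_⟩
  -- the projection to `[R, x]`
  set S : Subgroup G := R ⊓ D ⊓ centralizer ({y} : Set G) with hS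
  set! T : Set G := {1, d, v, v * d} with hT
  have hTfin : T.Finite := by rw [hT]; exact Set.toFinite _
  have hTc : T.ncard ≤ 4 := by
    rw [hT]
    refine (Set.ncard_insert_le _ _).trans ?_
    refine Nat.succ_le_succ ((Set.ncard_insert_le _ _).trans ?_)
    refine Nat.succ_le_succ ((Set.ncard_insert_le _ _).trans ?_)
    rw [Set.ncard_singleton]
  have hdec : ∀ u : S, ∃ p : T, ∃ c ∈ R, x * c = c * x ∧ (u : G) = c * p := by
    rintro ⟨u, ⟨huR, huD⟩, hyu⟩
    obtain ⟨c, hc, hxc, p, hp, hcp, q, hq, hqp⟩ := exists_dec h.left.sq hxR hxo (h.nDR hwD) hwx huR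
      (h.right.comm hwD huD)
    have hqR := ub_subset hxR hq
    have hpT : p ∈ T := by
      have := hy.comm_R h hw hwv hqR
      have e : w * (q * w * q⁻¹) = p := by
        rw [← hqp, ← hwb q hqR, h.left.inv_eq hqR,
          h.left.comm hqR ((mem_normalizer_iff.mp (h.nDR hwD) q).mp hqR)]
      rw [e] at this
      simpa [hT] using this
    exact ⟨⟨p, hpT⟩, c, hc, hxc, hcp⟩
  choose f hf using hdec
  have hinj : Function.Injective f := by
    intro u₁ u₂ he
    obtain ⟨c₁, hc₁, hxc₁, e₁⟩ := hf u₁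
    obtain ⟨c₂, hc₂, hxc₂, e₂⟩ := hf u₂
    have hS₁ := u₁.2
    have hS₂ := u₂.2
    have e : ((u₁ : G))⁻¹⁻¹ * ((u₂ : G))⁻¹ = c₁ * c₂⁻¹ := by
      rw [inv_inv, e₁, e₂, he]; group
    have h1 : c₁ * c₂⁻¹ = 1 := by
      apply kill _ (mul_mem hc₁ (inv_mem hc₂))
      · rw [← e, inv_inv]
        have h1 : Commute y (u₁ : G) := (mem_centralizer_singleton_iff.mp hS₁.2).symm
        have h2 : Commute y (u₂ : G) := (mem_centralizer_singleton_iff.mp hS₂.2).symm
        exact (h1.mul_right h2.inv_right).eq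
      · have h1 : Commute x c₁ := hxc₁
        have h2 : Commute x c₂ := hxc₂
        exact (h1.mul_right h2.inv_right).eq
    apply Subtype.ext
    rw [e₁, e₂, he, mul_inv_eq_one.mp h1]
  have := hTfin.to_subtype
  calc Nat.card S ≤ Nat.card T := Nat.card_le_card_of_injective f hinj
    _ ≤ 4 := hTc

/-- the common last step -/
theorem final {b x : G} (hy : Wt d R L a y) (hx : Wt r D K b x) (h : Pr r d V R D K L)
    (hd1 : d ∉ ub R x) (hd2 : d * r ∉ ub R x) {v w : G}
    (hw : w ∈ ub D y) (hwv : w * (a * w * a⁻¹) = v) (hwn : w ∈ Killing.ncl (zpowers y) v)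
    (hwn' : ∀ d ∈ D, y * d = d * y → w ∈ Killing.ncl (zpowers y) (v * d))
    {v' : G} (hv' : v' ∈ ub R x) (hv'D : v' ∈ D) (hv'1 : v' ≠ 1)
    (hI : ∀ u ∈ R, u ∈ D → ∃ c ∈ R, x * c = c * x ∧ (u = c ∨ u = c * v'))
    {u₁ u₂ : G} (hu₁R : u₁ ∈ R) (hu₁D : u₁ ∈ D) (hyu₁ : y * u₁ = u₁ * y) (hu₁ : u₁ ≠ 1)
    (hu₂R : u₂ ∈ R) (hu₂D : u₂ ∈ D) (hyu₂ : y * u₂ = u₂ * y) (hu₂ : u₂ ≠ 1) (hne : u₁ ≠ u₂)
    (hwb : (w * b) * x * (w * b)⁻¹ * x⁻¹ ∈ K) : False := by
  have hyD := h.right.nR hy.yC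
  have hxR := h.left.nR hx.yC
  have hwD := ub_subset hyD hw
  have hv'R := ub_subset hxR hv'
  have hbD := hx.aR
  have hwi := h.right.inv_eq hwD
  obtain ⟨a', ha', ha'v, ha'n, ha'n'⟩ := exists_half' h.left.sq hxR hx.odd (h.nDR hbD) hx.inv
    (h.right.comm hbD hv'D) hv'
  have ha'R := ub_subset hxR ha'
  have ha'i := h.left.inv_eq ha'R
  have hwa'R : w * a' * w⁻¹ ∈ R := (mem_normalizer_iff.mp (h.nDR hwD) a').mp ha'R
  -- the commutator
  obtain ⟨z₀, hz₀⟩ : ∃ z₀, z₀ = w * a' * w⁻¹ * a'⁻¹ := ⟨_, rfl⟩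
  have h1 : z₀ = 1 ∨ z₀ = d ∨ z₀ = v ∨ z₀ = v * d := by
    have := hy.comm_R h hw hwv ha'R
    have e : w * (a' * w * a'⁻¹) = z₀ := by rw [hz₀, hwi]; group
    rwa [e] at this
  have h2 : z₀ = v' ∨ z₀ = r * v' := by
    have hba : b * a' * b⁻¹ = a' * v' := by
      rw [← ha'v, ← mul_assoc, h.left.sq a' ha'R, one_mul]
    have hwv' : w * v' * w⁻¹ = v' := by
      rw [h.right.comm hwD hv'D, mul_inv_cancel_right]
    have e0 : (w * b) * a' * (w * b)⁻¹ * a'⁻¹ = (w * a' * w⁻¹ * a'⁻¹) * v' := by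
      calc (w * b) * a' * (w * b)⁻¹ * a'⁻¹ = w * (b * a' * b⁻¹) * w⁻¹ * a'⁻¹ := by group
        _ = (w * a' * w⁻¹) * (w * v' * w⁻¹) * a'⁻¹ := by rw [hba]; group
        _ = (w * a' * w⁻¹) * (v' * a'⁻¹) := by rw [hwv']; group
        _ = (w * a' * w⁻¹) * (a'⁻¹ * v') := by rw [h.left.comm hv'R (inv_mem ha'R)]
        _ = _ := by group
    rw [← hz₀] at e0
    rcases hx.comm_cases h.symm (mul_mem hwD hbD) hwb ha' with e | e
    · left
      rw [e0] at e
      rw [mul_eq_one_iff_eq_inv.mp e, h.left.inv_eq hv'R]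
    · right
      rw [e0] at e
      rw [← e, mul_assoc, h.left.sq v' hv'R, mul_one]
  have hv'V := hx.not_mem_V h.symm hd1 hd2 hv' hv'1
  have hz₀V : z₀ ∉ V := by
    intro hV
    apply hv'V
    rcases h2 with e | e
    · rwa [← e]
    · have : v' = r⁻¹ * z₀ := by rw [e, inv_mul_cancel_left]
      rw [this]; exact mul_mem (inv_mem h.rV) hV
  have h3 : w ∈ Killing.ncl (zpowers y) z₀ := by
    rcases h1 with e | e | e | e
    · exact absurd (by rw [e]; exact one_mem _) hz₀V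
    · exact absurd (by rw [e]; exact h.dV) hz₀V
    · rw [e]; exact hwn
    · rw [e]; exact hwn' d (h.VD h.dV) (mem_centralizer_singleton_iff.mp hy.yC)
  have h4 : a' ∈ Killing.ncl (zpowers x) z₀ := by
    rcases h2 with e | e
    · rw [e]; exact ha'n
    · rw [e, h.left.comm h.left.rR hv'R]
      exact ha'n' r h.left.rR (mem_centralizer_singleton_iff.mp hx.yC)
  have hz₀1 : z₀ ≠ 1 := fun e => hz₀V (by rw [e]; exact one_mem _)
  have hz₀R : z₀ ∈ R := by rw [hz₀]; exact mul_mem hwa'R (inv_mem ha'R)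
  obtain ⟨c₁, hc₁, hxc₁, e₁⟩ := hI u₁ hu₁R hu₁D
  obtain ⟨c₂, hc₂, hxc₂, e₂⟩ := hI u₂ hu₂R hu₂D
  rcases e₁ with e₁ | e₁
  · exact h.killing hz₀1 hz₀R h3 h4 hz₀.symm hu₁ hu₁R hyu₁ (by rw [e₁]; exact hxc₁)
  · rcases e₂ with e₂ | e₂
    · exact h.killing hz₀1 hz₀R h3 h4 hz₀.symm hu₂ hu₂R hyu₂ (by rw [e₂]; exact hxc₂)
    · refine h.killing hz₀1 hz₀R h3 h4 hz₀.symm (u := u₁ * u₂) ?_ (mul_mem hu₁R hu₂R) ?_ ?_
      · intro e
        apply hne
        rw [mul_eq_one_iff_eq_inv.mp e, h.left.inv_eq hu₂R]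
      · exact ((show Commute y u₁ from hyu₁).mul_right (show Commute y u₂ from hyu₂)).eq
      · have : u₁ * u₂ = c₁ * c₂ := by
          rw [e₁, e₂]
          calc c₁ * v' * (c₂ * v') = c₁ * (v' * c₂) * v' := by group
            _ = c₁ * (c₂ * v') * v' := by rw [h.left.comm hv'R hc₂]
            _ = c₁ * c₂ * (v' * v') := by group
            _ = c₁ * c₂ := by rw [h.left.sq v' hv'R, mul_one]
        rw [this]
        exact ((show Commute x c₁ from hxc₁).mul_right (show Commute x c₂ from hxc₂)).eq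

end Wt

namespace Side.Sys

variable {r d : G} {V R D K L : Subgroup G} {n : ℕ} {a y : Fin n → G}

theorem wt (hs : Sys d L R n a y) (i : Fin n) : Wt d R L (a i) (y i) :=
  ⟨hs.aA i, hs.yC i, hs.odd i, hs.inv i, hs.nK i, fun b hb => hs.eig b hb i⟩

theorem comm_ub (hs : Sys d L R n a y) (h : Pr r d V R D K L) {i l : Fin n} (hil : i ≠ l) {p : G}
    (hp : p ∈ ub D (y l)) : y i * p = p * y i := by
  have hyl := hs.yC l
  have hyi := hs.yC i
  have hylD := h.right.nR hyl
  have hyiD := h.right.nR hyi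
  obtain ⟨k, hk⟩ := exists_pow_eq (hs.odd i)
  have haC := h.R_le (hs.aA i)
  have hinv := (h.right.rho_inv haC hyi).mp (by rw [hs.inv i, inv_mul_cancel]; exact one_mem _)
  have hfix : ∀ m ∈ Bad.blk h.right.M (h.right.ρ ⟨y l, hyl⟩), h.right.ρ ⟨a i, haC⟩ • m = m := by
    intro m hm
    obtain ⟨q, hq, rfl⟩ := h.right.exists_ub hyl hm
    have hqD := ub_subset hylD hq
    have h1 := (hs.wt l).comm_cases h (hs.aA i) (hs.fix i l hil) hq
    rw [← h.right.pi_zero _ (h.comm_mem (hs.aA i) hqD).2, h.right.pi_comm haC hqD] at h1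
    linear_combination (norm := abel) h1 - h.right.two (h.right.π q)
  have hcomm := (h.right.rho_comm hyi hyl).mp (hs.comm i l)
  have hpD := ub_subset hylD hp
  have h2 : h.right.ρ ⟨y i, hyi⟩ • h.right.π p = h.right.π p :=
    fix_inv (h.right.rho_pow hyi hk) hinv (hfix _ (h.right.pi_ub hyl hp))
      (hfix _ (Bad.smul_mem_blk hcomm (h.right.pi_ub hyl hp)))
  have h3 := h.right.pi_comm hyi hpD
  rw [h2, h.right.two, h.right.pi_zero _ (mul_mem (h.right.conj_mem hyi hpD) (inv_mem hpD))] at h3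
  have h4 : y i * p * (y i)⁻¹ * p⁻¹ = 1 := by
    refine eq_one_of_comm h.right.sq hyiD (hs.odd i) ⟨p, hpD, rfl⟩ ?_
    rcases h3 with e | e
    · rw [e, mul_one, one_mul]
    · rw [e]; exact mem_centralizer_singleton_iff.mp hyi
  calc y i * p = (y i * p * (y i)⁻¹ * p⁻¹) * p * y i := by group
    _ = p * y i := by rw [h4, one_mul]

theorem not_mem [Finite G] (hs : Sys d L R n a y) (h : Pr r d V R D K L) {i l : Fin n} (hil : i ≠ l) :
    r ∉ ub D (y l) ∧ r * d ∉ ub D (y l) := by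
  have hyiD := h.right.nR (hs.yC i)
  have hid : y i * d = d * y i := mem_centralizer_singleton_iff.mp (hs.yC i)
  have key : y i * r = r * y i → False := by
    intro hir
    refine ((hs.wt i).stepA h ?_ ?_).1 hir
    · intro hr
      exact h.left.r1 (eq_one_of_comm h.right.sq hyiD (hs.odd i) hr hir)
    · intro hr
      have h1 : r * d = 1 := eq_one_of_comm h.right.sq hyiD (hs.odd i) hr
        ((show Commute (y i) r from hir).mul_right (show Commute (y i) d from hid)).eq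
      apply h.ne
      rw [mul_eq_one_iff_eq_inv.mp h1, h.right.inv_eq h.right.rR]
  constructor
  · intro hr
    exact key (hs.comm_ub h hil hr)
  · intro hr
    apply key
    have h1 : Commute (y i) (r * d) := hs.comm_ub h hil hr
    have h2 : Commute (y i) d := hid
    have h3 : r = (r * d) * d⁻¹ := by group
    rw [h3]
    exact (h1.mul_right h2.inv_right).eq

theorem mem_I [Finite G] (hs : Sys d L R n a y) (h : Pr r d V R D K L) {i l : Fin n} (hil : i ≠ l) {v : G}
    (hv : v ∈ ub D (y i)) (hvR : v ∈ R) (hv1 : v ≠ 1) {u : G} (huR : u ∈ R) (huD : u ∈ D)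
    (hu : y l * u = u * y l) : u = 1 ∨ u = d ∨ u = v ∨ u = d * v := by
  have hyiD := h.right.nR (hs.yC i)
  have hvD := ub_subset hyiD hv
  obtain ⟨h1, h2⟩ := hs.not_mem h hil
  obtain ⟨-, hcard⟩ := (hs.wt l).stepA h h1 h2
  have hvd : v ≠ d := by
    intro e
    exact hv1 (eq_one_of_comm h.right.sq hyiD (hs.odd i) hv (by
      rw [e]; exact mem_centralizer_singleton_iff.mp (hs.yC i)))
  have hd1 := h.right.r1
  have hsub : ({1, d, v, d * v} : Set G) ⊆ (R ⊓ D ⊓ centralizer ({y l} : Set G) : Subgroup G) := by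
    have hdS : d ∈ R ⊓ D ⊓ centralizer ({y l} : Set G) :=
      ⟨⟨h.VR h.dV, h.VD h.dV⟩, mem_centralizer_singleton_iff.mpr
        (mem_centralizer_singleton_iff.mp (hs.yC l)).symm⟩
    have hvS : v ∈ R ⊓ D ⊓ centralizer ({y l} : Set G) :=
      ⟨⟨hvR, hvD⟩, mem_centralizer_singleton_iff.mpr (hs.comm_ub h hil.symm hv).symm⟩
    rintro t (rfl | rfl | rfl | rfl)
    · exact one_mem _
    · exact hdS
    · exact hvS
    · exact mul_mem hdS hvS
  have hn : ({1, d, v, d * v} : Set G).ncard = 4 := by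
    rw [Set.ncard_insert_of_notMem, Set.ncard_insert_of_notMem, Set.ncard_pair]
    · intro e
      exact hd1 (by simpa using e)
    · rintro (e | e)
      · exact hvd e.symm
      · exact hv1 (by simpa using e)
    · rintro (e | e | e)
      · exact hd1 e.symm
      · exact hv1 e.symm
      · apply hvd
        rw [← h.right.inv_eq h.right.rR]
        exact (inv_eq_of_mul_eq_one_right e.symm).symm
  have heq : ({1, d, v, d * v} : Set G) = (R ⊓ D ⊓ centralizer ({y l} : Set G) : Subgroup G) :=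
    Set.eq_of_subset_of_ncard_le hsub (by rw [hn]; exact hcard) (Set.toFinite _)
  have hmem : u ∈ ((R ⊓ D ⊓ centralizer ({y l} : Set G) : Subgroup G) : Set G) :=
    ⟨⟨huR, huD⟩, mem_centralizer_singleton_iff.mpr hu.symm⟩
  rw [← heq] at hmem
  simpa using hmem

theorem dec [Finite G] (hs : Sys d L R n a y) (h : Pr r d V R D K L) {i l : Fin n} (hil : i ≠ l) {v : G}
    (hv : v ∈ ub D (y i)) (hvR : v ∈ R) (hv1 : v ≠ 1) {u : G} (huR : u ∈ R) (huD : u ∈ D) :
    ∃ c ∈ D, y i * c = c * y i ∧ (u = c ∨ u = c * v) := by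
  have hyiD := h.right.nR (hs.yC i)
  obtain ⟨c, hc, hyc, p, hp, hcp, w, hw, hwp⟩ := Wt.exists_dec h.right.sq hyiD (hs.odd i)
    (h.nRD (hs.aA i)) (hs.inv i) huD (h.left.comm (hs.aA i) huR)
  refine ⟨c, hc, hyc, ?_⟩
  have hwD := ub_subset hyiD hw
  have hpR : p ∈ R := by
    have h1 := (h.comm_mem (hs.aA i) hwD).1
    rw [h.right.inv_eq hwD, h.right.comm ((mem_normalizer_iff.mp (h.nRD (hs.aA i)) w).mp hwD) hwD, hwp] at h1
    exact h1
  have hpD := ub_subset hyiD hp
  have hdn : d ∉ ub D (y i) := fun hd => h.right.r1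
    (eq_one_of_comm h.right.sq hyiD (hs.odd i) hd (mem_centralizer_singleton_iff.mp (hs.yC i)))
  rcases hs.mem_I h hil hv hvR hv1 hpR hpD (hs.comm_ub h hil.symm hp) with e | e | e | e
  · left; rw [hcp, e, mul_one]
  · exact absurd (by rw [← e]; exact hp) hdn
  · right; rw [hcp, e]
  · exfalso
    apply hdn
    have : d = p * v := by
      rw [e, mul_assoc, h.right.sq v (ub_subset hyiD hv), mul_one]
    rw [this]
    exact ub_mul h.right.sq hyiD hp hv

theorem two_le {A : Subgroup G} (s : Side r R K) (hs : Sys r K A n a y) (hA : A ≤ centralizer ({r} : Set G))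
    {w₁ w₂ : G} (h₁ : w₁ ∈ A) (h₂ : w₂ ∈ A) (hK₁ : w₁ ∉ K) (hK₂ : w₂ ∉ K) (hK : w₁ * w₂ ∉ K) : 2 ≤ n := by
  by_contra hn
  push Not at hn
  have key : ∀ w ∈ A, w ∉ K → ∀ j, w * y j * w⁻¹ * y j ∈ K := by
    intro w hw hwK j
    rcases hs.eig w hw j with e | e
    · exfalso
      apply hwK
      apply hs.faith w hw
      intro i
      have : i = j := by
        apply Fin.ext
        have := i.2
        have := j.2
        omega
      rw [this]; exact e
    · exact e
  apply hK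
  apply hs.faith _ (mul_mem h₁ h₂)
  intro j
  have e₁ := (s.rho_inv (hA h₁) (hs.yC j)).mp (key w₁ h₁ hK₁ j)
  have e₂ := (s.rho_inv (hA h₂) (hs.yC j)).mp (key w₂ h₂ hK₂ j)
  rw [s.rho_comm (hA (mul_mem h₁ h₂)) (hs.yC j)]
  have e3 : s.ρ ⟨w₁ * w₂, hA (mul_mem h₁ h₂)⟩ = s.ρ ⟨w₁, hA h₁⟩ * s.ρ ⟨w₂, hA h₂⟩ := by
    rw [← map_mul]; rfl
  rw [e3]
  set A₁ := s.ρ ⟨w₁, hA h₁⟩
  set A₂ := s.ρ ⟨w₂, hA h₂⟩
  set Y := s.ρ ⟨y j, hs.yC j⟩
  have e₁' : A₁ * Y⁻¹ * A₁⁻¹ = Y := by
    calc A₁ * Y⁻¹ * A₁⁻¹ = (A₁ * Y * A₁⁻¹)⁻¹ := by group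
      _ = Y := by rw [e₁, inv_inv]
  calc A₁ * A₂ * Y = A₁ * (A₂ * Y * A₂⁻¹) * A₁⁻¹ * (A₁ * A₂) := by group
    _ = Y * (A₁ * A₂) := by rw [e₂, e₁']

end Side.Sys

namespace Pr

variable {r d : G} {V R D K L : Subgroup G}

/-- **`k ≤ 1`** -/
theorem mul_mem_L [Finite G] (h : Pr r d V R D K L) {c₁ c₂ : G} (hc₁ : c₁ ∈ R) (hc₂ : c₂ ∈ R)
    (h₁ : c₁ ∉ L) (h₂ : c₂ ∉ L) : c₁ * c₂ ∈ L := by
  by_contra h₁₂
  obtain ⟨n, a, y, hs⟩ := h.right.exists_sys h.R_le h.left.sq
  have hn := hs.two_le h.right h.R_le hc₁ hc₂ h₁ h₂ h₁₂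
  set! i₀ : Fin n := ⟨0, by omega⟩ with hi₀
  set! i₁ : Fin n := ⟨1, by omega⟩ with hi₁
  have h01 : i₀ ≠ i₁ := by simp [hi₀, hi₁]
  have hyD₀ := h.right.nR (hs.yC i₀)
  have hyD₁ := h.right.nR (hs.yC i₁)
  obtain ⟨v₀, hv₀, hv₀R, hv₀1⟩ := (hs.wt i₀).exists_v h
  obtain ⟨v₁, hv₁, hv₁R, hv₁1⟩ := (hs.wt i₁).exists_v h
  have hv₀D := ub_subset hyD₀ hv₀
  have hv₁D := ub_subset hyD₁ hv₁
  obtain ⟨hr₀, hrd₀⟩ := hs.not_mem h h01.symm
  obtain ⟨hr₁, hrd₁⟩ := hs.not_mem h h01
  have hv₀V := (hs.wt i₀).not_mem_V h hr₀ hrd₀ hv₀ hv₀1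
  have hv₁V := (hs.wt i₁).not_mem_V h hr₁ hrd₁ hv₁ hv₁1
  obtain ⟨w₀, hw₀, hwv₀, hwn₀, hwn₀'⟩ := exists_half' h.right.sq hyD₀ (hs.odd i₀) (h.nRD (hs.aA i₀))
    (hs.inv i₀) (h.left.comm (hs.aA i₀) hv₀R) hv₀
  obtain ⟨w₁, hw₁, hwv₁, -, -⟩ := exists_half' h.right.sq hyD₁ (hs.odd i₁) (h.nRD (hs.aA i₁))
    (hs.inv i₁) (h.left.comm (hs.aA i₁) hv₁R) hv₁
  have hw₀D := ub_subset hyD₀ hw₀
  have hw₁D := ub_subset hyD₁ hw₁
  have hnV : ∀ v : G, v ∉ V → ¬ (v = 1 ∨ v = r) := by
    rintro v hv (rfl | rfl)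
    · exact hv (one_mem _)
    · exact hv h.rV
  have hwc : ∀ w ∈ D, ∀ b : G, w * b * w⁻¹ * b⁻¹ = w * (b * w * b⁻¹) := by
    intro w hw b
    rw [h.right.inv_eq hw]; group
  have hK₀ : w₀ ∉ K := by
    intro hK
    have := h.left.comm_of_K hK (hs.aA i₀)
    rw [hwc w₀ hw₀D, hwv₀] at this
    exact hnV _ hv₀V this
  have hK₁ : w₁ ∉ K := by
    intro hK
    have := h.left.comm_of_K hK (hs.aA i₁)
    rw [hwc w₁ hw₁D, hwv₁] at this
    exact hnV _ hv₁V this
  have hK₀₁ : w₀ * w₁ ∉ K := by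
    intro hK
    have h3 := h.left.comm_of_K hK (hs.aA i₀)
    have h4 := (hs.wt i₁).comm_cases h (hs.aA i₀) (hs.fix i₀ i₁ h01) hw₁
    have haw₁ := (mem_normalizer_iff.mp (h.nRD (hs.aA i₀)) w₁).mp hw₁D
    have haw₀ := (mem_normalizer_iff.mp (h.nRD (hs.aA i₀)) w₀).mp hw₀D
    have e : (w₀ * w₁) * a i₀ * (w₀ * w₁)⁻¹ * (a i₀)⁻¹ = v₀ * (a i₀ * w₁ * (a i₀)⁻¹ * w₁⁻¹) := by
      rw [hwc _ (mul_mem hw₀D hw₁D), ← hwv₀, h.right.inv_eq hw₁D]
      calc w₀ * w₁ * (a i₀ * (w₀ * w₁) * (a i₀)⁻¹)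
          = w₀ * (w₁ * ((a i₀ * w₀ * (a i₀)⁻¹) * (a i₀ * w₁ * (a i₀)⁻¹))) := by group
        _ = w₀ * (((a i₀ * w₀ * (a i₀)⁻¹) * (a i₀ * w₁ * (a i₀)⁻¹)) * w₁) := by
          rw [h.right.comm hw₁D (mul_mem haw₀ haw₁)]
        _ = _ := by group
    rw [e] at h3
    have h5 : v₀ ∈ V := by
      rcases h4 with e4 | e4
      · rw [e4, mul_one] at h3
        rcases h3 with e3 | e3
        · rw [e3]; exact one_mem _
        · rw [e3]; exact h.rV
      · rw [e4] at h3
        have e5 : v₀ = (v₀ * d) * d⁻¹ := by group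
        rcases h3 with e3 | e3
        · rw [e5, e3]; exact mul_mem (one_mem _) (inv_mem h.dV)
        · rw [e5, e3]; exact mul_mem h.rV (inv_mem h.dV)
    exact hv₀V h5
  -- the other side
  obtain ⟨n', b, x, hs'⟩ := h.left.exists_sys h.D_le h.right.sq
  have hn' := hs'.two_le h.left h.D_le hw₀D hw₁D hK₀ hK₁ hK₀₁
  obtain ⟨j, hj⟩ : ∃ j, w₀ * x j * w₀⁻¹ * x j ∈ K := by
    by_contra hcon
    push Not at hcon
    exact hK₀ (hs'.faith w₀ hw₀D fun j => (hs'.eig w₀ hw₀D j).resolve_right (hcon j))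
  obtain ⟨l, hl⟩ : ∃ l : Fin n', l ≠ j := by
    by_cases h0 : j = ⟨0, by omega⟩
    · exact ⟨⟨1, by omega⟩, by rw [h0]; simp⟩
    · exact ⟨⟨0, by omega⟩, fun e => h0 e.symm⟩
  obtain ⟨v', hv', hv'D, hv'1⟩ := (hs'.wt j).exists_v h.symm
  obtain ⟨hd₁, hd₂⟩ := hs'.not_mem h.symm hl
  have hwb : (w₀ * b j) * x j * (w₀ * b j)⁻¹ * (x j)⁻¹ ∈ K := by
    have hwC := h.D_le hw₀D
    have hbC := h.D_le (hs'.aA j)
    have e₁ := (h.left.rho_inv hwC (hs'.yC j)).mp hj
    have e₂ := (h.left.rho_inv hbC (hs'.yC j)).mp (by rw [hs'.inv j, inv_mul_cancel]; exact one_mem _)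
    rw [h.left.rho_comm (mul_mem hwC hbC) (hs'.yC j)]
    have e3 : h.left.ρ ⟨w₀ * b j, mul_mem hwC hbC⟩ = h.left.ρ ⟨w₀, hwC⟩ * h.left.ρ ⟨b j, hbC⟩ := by
      rw [← map_mul]; rfl
    rw [e3]
    set! A₁ := h.left.ρ ⟨w₀, hwC⟩ with hset8; rewrite [← hset8] at e3 e₁ ⊢; clear hset8
    set! A₂ := h.left.ρ ⟨b j, hbC⟩ with hset8; rewrite [← hset8] at e3 e₂ ⊢; clear hset8
    set! Y := h.left.ρ ⟨x j, hs'.yC j⟩ with hset8; rewrite [← hset8] at e₂ e₁ ⊢; clear hset8
    have e₁' : A₁ * Y⁻¹ * A₁⁻¹ = Y := by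
      calc A₁ * Y⁻¹ * A₁⁻¹ = (A₁ * Y * A₁⁻¹)⁻¹ := by group
        _ = Y := by rw [e₁, inv_inv]
    calc A₁ * A₂ * Y = A₁ * (A₂ * Y * A₂⁻¹) * A₁⁻¹ * (A₁ * A₂) := by group
      _ = Y * (A₁ * A₂) := by rw [e₂, e₁']
  have hv₁d : d ≠ v₁ := by
    intro e
    exact hv₁V (by rw [← e]; exact h.dV)
  exact (hs.wt i₀).final (hs'.wt j) h hd₁ hd₂ hw₀ hwv₀ hwn₀ hwn₀' hv' hv'D hv'1
    (fun u huR huD => hs'.dec h.symm hl.symm hv' hv'D hv'1 huD huR)
    (h.VR h.dV) (h.VD h.dV) (mem_centralizer_singleton_iff.mp (hs.yC i₀)) h.right.r1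
    hv₁R hv₁D (hs.comm_ub h h01 hv₁) hv₁1 hv₁d hwb

/-- for `k = 1`: every inverted element is a weight -/
theorem wt_of_inv [Finite G] (h : Pr r d V R D K L) {a y : G} (ha : a ∈ R)
    (hyC : y ∈ centralizer ({d} : Set G)) (ho : Odd (orderOf y)) (inv : a * y * a⁻¹ = y⁻¹) (nL : y ∉ L) :
    Wt d R L a y := by
  refine ⟨ha, hyC, ho, inv, nL, ?_⟩
  intro b hb
  have hinv := (h.right.rho_inv (h.R_le ha) hyC).mp (by rw [inv, inv_mul_cancel]; exact one_mem _)
  by_cases hbL : b ∈ L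
  · left
    rw [h.right.rho_comm (h.R_le hb) hyC, (h.right.ker ⟨b, h.R_le hb⟩).mpr hbL, one_mul, mul_one]
  · right
    have haL : a ∉ L := by
      intro haL
      apply nL
      rw [(h.right.ker ⟨a, h.R_le ha⟩).mpr haL, one_mul, inv_one, mul_one] at hinv
      obtain ⟨k, hk⟩ := exists_pow_eq ho
      have h1 := h.right.rho_pow hyC hk
      rw [pow_succ, pow_mul] at h1
      have h2 : h.right.ρ ⟨y, hyC⟩ ^ 2 = 1 := by
        rw [pow_two]
        nth_rewrite 2 [hinv]
        exact mul_inv_cancel _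
      rw [h2, one_pow, one_mul] at h1
      exact (h.right.ker ⟨y, hyC⟩).mp h1
    have hba := h.mul_mem_L hb ha hbL haL
    have h1 := (h.right.ker ⟨b * a, h.R_le (mul_mem hb ha)⟩).mpr hba
    have h2 : h.right.ρ ⟨b * a, h.R_le (mul_mem hb ha)⟩ =
        h.right.ρ ⟨b, h.R_le hb⟩ * h.right.ρ ⟨a, h.R_le ha⟩ := by
      rw [← map_mul]; rfl
    rw [h2] at h1
    rw [h.right.rho_inv (h.R_le hb) hyC, mul_eq_one_iff_eq_inv.mp h1]
    set A := h.right.ρ ⟨a, h.R_le ha⟩
    set Y := h.right.ρ ⟨y, hyC⟩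
    calc A⁻¹ * Y * A⁻¹⁻¹ = A⁻¹ * Y⁻¹⁻¹ * A := by group
      _ = A⁻¹ * (A * Y * A⁻¹)⁻¹ * A := by rw [hinv]
      _ = Y⁻¹ := by group

/-- natural blocks contain the line vector (one of the two sides) -/
theorem natural [Finite G] (h : Pr r d V R D K L) {a y b x v₀ v' : G} (ha : a ∈ R)
    (hyC : y ∈ centralizer ({d} : Set G)) (hyo : Odd (orderOf y)) (hyi : a * y * a⁻¹ = y⁻¹) (hyL : y ∉ L)
    (hv₀ : ∀ v ∈ ub D y, v ∈ R → v = 1 ∨ v = v₀)
    (hb : b ∈ D) (hxC : x ∈ centralizer ({r} : Set G)) (hxo : Odd (orderOf x)) (hxi : b * x * b⁻¹ = x⁻¹)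
    (hxK : x ∉ K) (hv' : ∀ v ∈ ub R x, v ∈ D → v = 1 ∨ v = v') :
    r ∈ ub D y ∨ r * d ∈ ub D y ∨ d ∈ ub R x ∨ d * r ∈ ub R x := by
  by_contra hcon
  push Not at hcon
  obtain ⟨hr1, hr2, hd1, hd2⟩ := hcon
  have hy := h.wt_of_inv ha hyC hyo hyi hyL
  have hx := h.symm.wt_of_inv hb hxC hxo hxi hxK
  have hyD := h.right.nR hyC
  have hxR := h.left.nR hxC
  obtain ⟨v, hv, hvR, hv1⟩ := hy.exists_v h
  obtain ⟨t, ht, htD, ht1⟩ := hx.exists_v h.symm
  have ev : v₀ = v := by
    rcases hv₀ v hv hvR with e | e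
    · exact absurd e hv1
    · exact e.symm
  have et : v' = t := by
    rcases hv' t ht htD with e | e
    · exact absurd e ht1
    · exact e.symm
  rw [ev] at hv₀
  rw [et] at hv'
  obtain ⟨w, hw, hwv, hwn, hwn'⟩ := exists_half' h.right.sq hyD hyo (h.nRD ha) hyi (h.left.comm ha hvR) hv
  have hwD := ub_subset hyD hw
  have hvV := hy.not_mem_V h hr1 hr2 hv hv1
  have hwK : w ∉ K := by
    intro hK
    have h1 := h.left.comm_of_K hK ha
    have h2 : w * a * w⁻¹ * a⁻¹ = v := by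
      rw [← hwv, h.right.inv_eq hwD]; group
    rw [h2] at h1
    rcases h1 with e | e
    · exact hv1 e
    · exact hvV (by rw [e]; exact h.rV)
  have hbK : b ∉ K := by
    intro hbK
    have hbC := h.D_le hb
    have hinv := (h.left.rho_inv hbC hxC).mp (by rw [hxi, inv_mul_cancel]; exact one_mem _)
    apply hxK
    rw [(h.left.ker ⟨b, hbC⟩).mpr hbK, one_mul, inv_one, mul_one] at hinv
    obtain ⟨k, hk⟩ := exists_pow_eq hxo
    have h1 := h.left.rho_pow hxC hk
    rw [pow_succ, pow_mul] at h1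
    have h2 : h.left.ρ ⟨x, hxC⟩ ^ 2 = 1 := by
      rw [pow_two]
      nth_rewrite 2 [hinv]
      exact mul_inv_cancel _
    rw [h2, one_pow, one_mul] at h1
    exact (h.left.ker ⟨x, hxC⟩).mp h1
  have hwb := h.symm.mul_mem_L hwD hb hwK hbK
  have hwb' : (w * b) * x * (w * b)⁻¹ * x⁻¹ ∈ K := by
    have hC := h.D_le (mul_mem hwD hb)
    rw [h.left.rho_comm hC hxC, (h.left.ker ⟨w * b, hC⟩).mpr hwb, one_mul, mul_one]
  -- the second common element
  obtain ⟨c, hc, hyc, p, hp, hcp, q, hq, hqp⟩ := Wt.exists_dec h.right.sq hyD hyo (h.nRD ha) hyi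
    (h.VD h.rV) (h.left.comm ha h.left.rR)
  have hpR : p ∈ R := by
    have hqD := ub_subset hyD hq
    have h1 := (h.comm_mem ha hqD).1
    rw [h.right.inv_eq hqD, h.right.comm ((mem_normalizer_iff.mp (h.nRD ha) q).mp hqD) hqD, hqp] at h1
    exact h1
  have hpD := ub_subset hyD hp
  have hc' : c = r * p := by rw [hcp, mul_assoc, h.right.sq p hpD, mul_one]
  have hcR : c ∈ R := by rw [hc']; exact mul_mem h.left.rR hpR
  have hc1 : c ≠ 1 := by
    intro e
    apply hr1
    rw [hcp, e, one_mul]; exact hp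
  have hcd : d ≠ c := by
    intro e
    apply hr2
    have : r * d = p := by
      rw [hcp, ← e, mul_assoc, h.right.comm hpD h.right.rR, ← mul_assoc, h.right.sq d h.right.rR, one_mul]
    rw [this]; exact hp
  refine hy.final hx h hd1 hd2 hw hwv hwn hwn' ht htD ht1 ?_ (h.VR h.dV) (h.VD h.dV)
    (mem_centralizer_singleton_iff.mp hyC) h.right.r1 hcR hc hyc hc1 hcd hwb'
  intro u huR huD
  obtain ⟨c, hc, hxc, p, hp, hcp, q, hq, hqp⟩ := Wt.exists_dec h.left.sq hxR hxo (h.nDR hb) hxi huR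
    (h.right.comm hb huD)
  refine ⟨c, hc, hxc, ?_⟩
  have hpD : p ∈ D := by
    have hqR := ub_subset hxR hq
    have h1 := (h.symm.comm_mem hb hqR).1
    rw [h.left.inv_eq hqR, h.left.comm ((mem_normalizer_iff.mp (h.nDR hb) q).mp hqR) hqR, hqp] at h1
    exact h1
  rcases hv' p hp hpD with e | e
  · left; rw [hcp, e, mul_one]
  · right; rw [hcp, e]

end Pr

end Cfsg.Agent.MinSimple.OddKPair
end

-- part: MinSimple/OddK
section
/-!
# (E1)(b), `n = 1`: `k = 1`

* `exists_pair`: two collinear points give a pair in the sense of `OddKPair`;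
* `mul_mem_kq`, `relIndex_le_two`: `|ws V y : ws V y ∩ kq V x| ≤ 2` for collinear `x`, `y`;
* `exists_one`: `OddN T V z 1 → One T V z`;
* `mem_of_natural`.
-/

set_option autoImplicit false
set_option linter.unusedSectionVars false

namespace Cfsg.Agent.MinSimple.OddK

open Subgroup Cfsg Cfsg.Agent.ZN Cfsg.Agent.MinSimple.Geo Cfsg.Agent.MinSimple.BTwoA
  Cfsg.Agent.MinSimple.OddLine Cfsg.Agent.MinSimple.OddBase Cfsg.Agent.MinSimple.SecRep
  Cfsg.Agent.MinSimple.OddRep Cfsg.Agent.MinSimple.OddKPair Cfsg.Agent.MinSimple.OddKHalf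
open Cfsg.Agent.ZN.Block (conj_mem_of_normalizer conj_mem_of_normalizer' le_normalizer_of_forall
  mem_normalizer_of)

universe u

variable {G : Type u} [Group G]

/-- the Fitting subgroup of a solvable group with `O₂ = 1` has odd order -/
theorem odd_card_fitting {X : Type u} [Group X] [Finite X] (ho : pCore 2 X = ⊥) :
    _root_.Odd (Nat.card (fittingSubgroup X)) := by
  have hf : Fact (Nat.Prime 2) := ⟨Nat.prime_two⟩
  have h2 : fittingSubgroup X ≤ pPrimeCore 2 X := by
    rw [Lib.Cores.fittingSubgroup_eq_iSup_pCore]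
    refine iSup_le fun p => ?_
    have hp : Fact (p : ℕ).Prime := ⟨p.2⟩
    by_cases hp2 : (p : ℕ) = 2
    · rw [hp2, ho]
      exact bot_le
    · refine Lib.Cores.le_pPrimeCore (Lib.Cores.pCore_normal _) ?_
      obtain ⟨n, hn⟩ := IsPGroup.iff_card.mp (Lib.Cores.pCore_isPGroup (G := X) (p : ℕ))
      rw [hn]
      exact Nat.Coprime.pow_left n ((Nat.coprime_primes p.2 Nat.prime_two).mpr hp2)
  have h3 := (Nat.coprime_two_right.mp (Lib.Cores.pPrimeCore_coprime (G := X) 2))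
  exact h3.of_dvd_nat (card_dvd_of_le h2)

variable [Finite G] {T V : Subgroup G} {z x y : G}

/-- the side given by a representation -/
def side (h : _root_.Cfsg.Agent.MinSimple.OddLine.Odd T V z) (hx : Pt z x) {M X : Type u} [AddCommGroup M] [Group X] [DistribMulAction X M]
    (R : _root_.Cfsg.Agent.MinSimple.OddRep.Rep V x M X) : Side x (ws V x) (kq V x) where
  M := M
  X := X
  π := R.pi
  ρ := R.hom
  F := fittingSubgroup X
  r1 := OddBase.Pt.ne_one h.toGeo hx
  rR := self_mem_ws h.toGeo hx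
  sq := fun a ha => OddBase.ws_sq h hx ha
  nR := Geo.centralizer_le_normalizer_ws V x
  KC := BTwoB.kq_le V x
  pi_mul := R.pi_mul
  pi_zero := fun a ha => OddRep.Rep.pi_eq_zero' h hx R ha
  pi_surj := R.pi_surj
  pi_conj := fun c a ha => (R.smul_pi c c.2 a ha).symm
  surj := R.hom_surj
  ker := fun c => OddRep.Rep.rho_eq_one R c.2
  faithful := R.faithful
  fin := R.finite_right
  normal := Lib.Cores.fittingSubgroup_normal
  odd := by
    have hf : Fact (Nat.Prime 2) := ⟨Nat.prime_two⟩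
    have := R.finite_right
    exact odd_card_fitting
      (OddRep.Rep.o2_eq_bot h hx R (Lib.Cores.pCore_normal 2) (Lib.Cores.pCore_isPGroup 2))
  nil := by
    have := R.finite_right
    exact Lib.Cores.fittingSubgroup_isNilpotent
  cent := by
    have := R.finite_right
    have hsol : Group.IsSolvable X := OddRep.Rep.isSolvable h hx R
    exact Cfsg.Agent.S0044.result

theorem exists_side (h : _root_.Cfsg.Agent.MinSimple.OddLine.Odd T V z) (hx : Pt z x) : Nonempty (Side x (ws V x) (kq V x)) := by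
  obtain ⟨M, X, _, _, _, ⟨R⟩⟩ := exists_rep h hx
  exact ⟨side h hx R⟩

/-- the line through two collinear points -/
theorem exists_line (h : _root_.Cfsg.Agent.MinSimple.OddLine.Odd T V z) (hc : Col V x y) : ∃ g : G, x ∈ cj g V ∧ y ∈ cj g V ∧
    Odd (cj g T) (cj g V) x := by
  obtain ⟨g, hg, hy, h1⟩ := exists_odd_col h hc
  exact ⟨g, h1.toGeo.z_mem, hy, h1⟩

theorem gen (h : _root_.Cfsg.Agent.MinSimple.OddLine.Odd T V z) (N : Subgroup G) (hVN : V ≤ N)
    (hn : centralizer ({z} : Set G) ≤ normalizer (N : Set G)) : ws V z ≤ N := by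
  refine ws_le fun L hL => ?_
  obtain ⟨c, hc, rfl⟩ := h.toGeo.exists_of_mem_lines hL
  intro t ht
  rw [mem_cj] at ht
  have h1 := conj_mem_of_normalizer hn hc (hVN ht)
  have e : c * (c⁻¹ * t * c) * c⁻¹ = t := by group
  rwa [e] at h1

theorem exists_pair' (h : _root_.Cfsg.Agent.MinSimple.OddLine.Odd T V z) (hc : Col V x y) (s : Side x (ws V x) (kq V x))
    (t : Side y (ws V y) (kq V y)) :
    ∃ (V' : Subgroup G) (p : Pr x y V' (ws V x) (ws V y) (kq V x) (kq V y)), p.left = s ∧ p.right = t := by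
  have hx := hc.pt_left h.toGeo
  have hy := hc.pt h.toGeo
  obtain ⟨g, hxg, hyg, h1⟩ := exists_line h hc
  obtain ⟨k, hk, hk2, h2⟩ := h1.toGeo.point hyg hc.2.1
  have hx1 := hc.1
  have hy1 := hc.2.1
  refine ⟨cj g V, {
    left := s
    right := t
    ne := hc.2.2.1
    rV := hxg
    dV := hyg
    four := fun v hv => h1.toGeo.four hxg hyg hx1 hy1 hc.2.2.1 hv
    VR := ?_
    VD := ?_
    genR := ?_
    genD := ?_
    loc := ?_ }, rfl, rfl⟩
  · have := h1.toGeo.V_le_ws
    rwa [ws_cj] at this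
  · have := h2.V_le_ws
    rwa [ws_cj] at this
  · intro N hN hn
    have := gen h1 N hN hn
    rwa [ws_cj] at this
  · intro N hN hn
    have h3 : _root_.Cfsg.Agent.MinSimple.OddLine.Odd (cj k (cj g T)) (cj g V) y := by
      have := h1.conj k
      rwa [cj_eq_of_mem_normalizer hk, hk2] at this
    have := gen h3 N hN hn
    rwa [ws_cj] at this
  · intro U hU hU1
    exact h.solv _ ⟨U, hU, hU1, rfl⟩

theorem exists_pair (h : _root_.Cfsg.Agent.MinSimple.OddLine.Odd T V z) (hc : Col V x y) :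
    ∃ V' : Subgroup G, Nonempty (Pr x y V' (ws V x) (ws V y) (kq V x) (kq V y)) := by
  obtain ⟨s⟩ := exists_side h (hc.pt_left h.toGeo)
  obtain ⟨t⟩ := exists_side h (hc.pt h.toGeo)
  obtain ⟨V', p, -, -⟩ := exists_pair' h hc s t
  exact ⟨V', ⟨p⟩⟩

/-- **`k ≤ 1`** -/
theorem mul_mem_kq (h : _root_.Cfsg.Agent.MinSimple.OddLine.Odd T V z) (hc : Col V x y) {a b : G} (ha : a ∈ ws V x) (hb : b ∈ ws V x)
    (h1 : a ∉ kq V y) (h2 : b ∉ kq V y) : a * b ∈ kq V y := by
  obtain ⟨V', ⟨p⟩⟩ := exists_pair h hc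
  exact p.mul_mem_L ha hb h1 h2

theorem relIndex_le_two (h : _root_.Cfsg.Agent.MinSimple.OddLine.Odd T V z) (hc : Col V x y) : (kq V x).relIndex (ws V y) ≤ 2 := by
  by_cases hall : ws V y ≤ kq V x
  · rw [relIndex_eq_one.mpr hall]; norm_num
  · obtain ⟨a, ha, hna⟩ := Set.not_subset.mp hall
    have : ((kq V x).subgroupOf (ws V y)).index = 2 := by
      rw [index_eq_two_iff]
      refine ⟨⟨a, ha⟩, fun b => ?_⟩
      rw [mem_subgroupOf, mem_subgroupOf]
      by_cases hb : (b : G) ∈ kq V x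
      · right
        refine ⟨hb, fun h3 => hna ?_⟩
        have := mul_mem (inv_mem hb) h3
        rwa [coe_mul, inv_mul_cancel_left] at this
      · left
        exact ⟨mul_mem_kq h hc.symm b.2 ha hb hna, hb⟩
    exact this.le

/-- all ordered pairs of collinear points are conjugate -/
theorem exists_cj (h : _root_.Cfsg.Agent.MinSimple.OddLine.Odd T V z) {x' y' : G} (hc : Col V x y) (hc' : Col V x' y') :
    ∃ k : G, k * x * k⁻¹ = x' ∧ k * y * k⁻¹ = y' := by
  have key : ∀ {x y : G}, Col V x y → ∃ g : G, x = g * z * g⁻¹ ∧ g⁻¹ * y * g ∈ V ∧ g⁻¹ * y * g ≠ 1 ∧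
      g⁻¹ * y * g ≠ z := by
    intro x y hc
    obtain ⟨g, hg, hy, -⟩ := exists_odd_col h hc
    refine ⟨g, hg, mem_cj.mp hy, fun e => hc.2.1 ?_, fun e => hc.2.2.1 ?_⟩
    · have : y = g * (g⁻¹ * y * g) * g⁻¹ := by group
      rw [this, e]; group
    · have : y = g * (g⁻¹ * y * g) * g⁻¹ := by group
      rw [this, e, hg]
  obtain ⟨g, rfl, hq, hq1, hqz⟩ := key hc
  obtain ⟨g', rfl, hq', hq1', hqz'⟩ := key hc'
  have hy : y = g * (g⁻¹ * y * g) * g⁻¹ := by group
  have hy' : y' = g' * (g'⁻¹ * y' * g') * g'⁻¹ := by group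
  rcases h.toGeo.four h.z_mem hq h.z_ne hq1 (Ne.symm hqz) hq' with e | e | e | e
  · exact absurd e hq1'
  · exact absurd e hqz'
  · refine ⟨g' * g⁻¹, by group, ?_⟩
    rw [hy', e]; group
  · obtain ⟨t, ht, ht2⟩ := h.exists_swap
    have htz : t * z * t⁻¹ = z := h.kq_conj ht.2
    refine ⟨g' * t * g⁻¹, ?_, ?_⟩
    · calc g' * t * g⁻¹ * (g * z * g⁻¹) * (g' * t * g⁻¹)⁻¹ = g' * (t * z * t⁻¹) * g'⁻¹ := by group
        _ = g' * z * g'⁻¹ := by rw [htz]
    · rw [hy', e, ← ht2 _ hq hq1 hqz]; group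

theorem not_le (h : OddN T V z 1) (hc : Col V x y) : ¬ ws V y ≤ kq V x := by
  intro hle
  have h0 := h.toOdd
  have hall : ∀ {x' y' : G}, Col V x' y' → ws V y' ≤ kq V x' := by
    intro x' y' hc'
    obtain ⟨k, rfl, rfl⟩ := exists_cj h0 hc hc'
    rw [← cj_ws, ← OddBase.cj_kq]
    exact cj_mono hle
  obtain ⟨x₀, y₀, hx₀, hw, a, ha, b, hb, hab⟩ := h.crit
  rcases walk_one.mp hw with rfl | hc₀
  · exact hab (OddBase.ws_comm h0 hx₀ ha hb)
  · have h1 := (hall hc₀.symm ha).2.1 b hb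
    have h2 := (hall hc₀ hb).2.1 a ha
    have h3 : a * b * a⁻¹ * b⁻¹ = (b * a * b⁻¹ * a⁻¹)⁻¹ := by group
    have h4 : a * b * a⁻¹ * b⁻¹ ∈ zpowers x₀ := by rw [h3]; exact inv_mem h2
    have hy₀ := hc₀.pt h0.toGeo
    rw [mem_zpowers_iff_of_mul_self (OddBase.Pt.sq h0.toGeo hy₀)] at h1
    rw [mem_zpowers_iff_of_mul_self (OddBase.Pt.sq h0.toGeo hx₀)] at h4
    rcases h1 with e | e
    · apply hab
      calc a * b = (a * b * a⁻¹ * b⁻¹) * (b * a) := by group
        _ = b * a := by rw [e, one_mul]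
    · rcases h4 with e' | e'
      · exact hc₀.2.1 (by rw [← e, e'])
      · exact hc₀.2.2.1 (by rw [← e', e])

/-- **`n = 1` implies `k = 1`** -/
theorem one (h : OddN T V z 1) : OddOne.One T V z where
  toOdd := h.toOdd
  k1 := by
    intro x y _ hc
    have h1 := relIndex_le_two h.toOdd hc
    have h2 : (kq V x).relIndex (ws V y) ≠ 1 := fun e => not_le h hc (relIndex_eq_one.mp e)
    have h3 : (kq V x).relIndex (ws V y) ≠ 0 := index_ne_zero_of_finite
    omega

/-- **(D1)** If `b ∈ ws V y` inverts `g ≠ 1` of odd order and `[M, g, b]` has order at most two, then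
`π y ∈ [M, g]`. -/
theorem pi_mem_of_inverts (h : _root_.Cfsg.Agent.MinSimple.OddLine.Odd T V z) (hc : Col V x y) {M X : Type u} [AddCommGroup M] [Group X]
    [DistribMulAction X M] (R : _root_.Cfsg.Agent.MinSimple.OddRep.Rep V x M X) {b : G} (hb : b ∈ ws V y) {g : X} (hgo : _root_.Odd (orderOf g))
    (hg1 : g ≠ 1) (hinv : R.rho b * g * (R.rho b)⁻¹ = g⁻¹)
    (hnat : ∃ n₀ : M, ∀ m : M, R.rho b • (g • m + m) + (g • m + m) = 0 ∨
      R.rho b • (g • m + m) + (g • m + m) = n₀) : ∃ m : M, R.pi y = g • m + m := by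
  have hx := hc.pt_left h.toGeo
  have hy := hc.pt h.toGeo
  obtain ⟨s⟩ := exists_side h hy
  obtain ⟨V', p, -, hp⟩ := exists_pair' h hc.symm s (side h hx R)
  obtain ⟨k, hkx, hky⟩ := exists_cj h hc hc.symm
  have hbC : b ∈ centralizer ({x} : Set G) := p.R_le hb
  -- exact lift of `g`
  obtain ⟨c, hcC, hco, hci, hcg⟩ := (side h hx R).exists_lift hbC (OddBase.ws_sq h hy hb) (x := g) hgo hinv
  have hcg' : R.rho c = g := hcg
  have hxN := (side h hx R).nR hcC
  have hsq := (side h hx R).sq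
  have hbN : b ∈ normalizer ((ws V x : Subgroup G) : Set G) := (side h hx R).nR hbC
  have hck : c ∉ kq V x := by
    intro hk
    exact hg1 (by rw [← hcg']; exact (OddRep.Rep.rho_eq_one R hcC).mpr hk)
  have hxc : c * x = x * c := mem_centralizer_singleton_iff.mp hcC
  have hxub : x ∉ ub (ws V x) c := fun hxu =>
    (side h hx R).r1 (eq_one_of_comm hsq hxN hco hxu hxc)
  have hpi : ∀ v ∈ ub (ws V x) c, ∃ m : M, R.pi v = g • m + m := by
    intro v hv
    obtain ⟨m, hm⟩ := (side h hx R).pi_ub hcC hv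
    refine ⟨m, ?_⟩
    have e : (side h hx R).ρ ⟨c, hcC⟩ = g := hcg
    rw [e] at hm
    exact hm
  obtain ⟨n₀, hn₀⟩ := hnat
  -- uniqueness of the common element
  have huniq : ∃ v₀, ∀ v ∈ ub (ws V x) c, v ∈ ws V y → v = 1 ∨ v = v₀ := by
    have h1 : ∀ v ∈ ub (ws V x) c, v ∈ ws V y → v = 1 ∨ R.pi v = n₀ := by
      intro v hv hvy
      have hvx := ub_subset hxN hv
      obtain ⟨w, hw, hwv, -, -⟩ := exists_half' hsq hxN hco hbN hci (OddBase.ws_comm h hy hb hvy) hv
      have hwx := ub_subset hxN hw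
      have hbw : b * w * b⁻¹ ∈ ws V x := (mem_normalizer_iff.mp hbN w).mp hwx
      have h2 : R.pi v = R.rho b • R.pi w + R.pi w := by
        rw [← hwv, R.pi_mul w hwx _ hbw, R.smul_pi b hbC w hwx, add_comm]
      obtain ⟨m, hm'⟩ := hpi w hw
      rw [hm'] at h2
      rcases hn₀ m with e | e
      · left
        rw [← h2] at e
        rcases (OddRep.Rep.pi_eq_zero' h hx R hvx).mp e with e | e
        · exact e
        · rw [e] at hv
          exact absurd hv hxub
      · right; rw [h2, e]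
    by_cases hex : ∃ v₀ ∈ ub (ws V x) c, v₀ ∈ ws V y ∧ v₀ ≠ 1
    · obtain ⟨v₀, hv₀, hv₀y, hv₀1⟩ := hex
      refine ⟨v₀, fun v hv hvy => ?_⟩
      rcases h1 v hv hvy with e | e
      · exact Or.inl e
      · right
        have e₀ := (h1 v₀ hv₀ hv₀y).resolve_left hv₀1
        have hvx := ub_subset hxN hv
        have hv₀x := ub_subset hxN hv₀
        have h3 : R.pi (v * v₀) = 0 := by
          rw [R.pi_mul v hvx v₀ hv₀x, e, e₀]
          exact OddRep.Rep.two h hx R n₀
        rcases (OddRep.Rep.pi_eq_zero' h hx R (mul_mem hvx hv₀x)).mp h3 with e4 | e4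
        · rw [mul_eq_one_iff_eq_inv.mp e4, OddBase.ws_inv h hx hv₀x]
        · have h5 := ub_mul hsq hxN hv hv₀
          rw [e4] at h5
          exact absurd h5 hxub
    · push Not at hex
      exact ⟨1, fun v hv hvy => Or.inl (hex v hv hvy)⟩
  obtain ⟨v₀, hv₀⟩ := huniq
  -- the conjugate configuration
  have hkx' : k⁻¹ * y * k = x := by rw [← hkx]; group
  have hky' : k⁻¹ * x * k = y := by rw [← hky]; group
  have hub : ∀ v, v ∈ ub (ws V y) (k * c * k⁻¹) → k⁻¹ * v * k ∈ ub (ws V x) c := by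
    rintro v ⟨m, hm, rfl⟩
    refine ⟨k⁻¹ * m * k, ?_, by group⟩
    rw [← hkx, ← cj_ws, mem_cj] at hm
    exact hm
  have hconj : ∀ v, v ∈ ws V x → k⁻¹ * v * k ∈ ws V y := by
    intro v hv
    rw [← hky, ← cj_ws, mem_cj] at hv
    exact hv
  have hnat' := p.natural (a := b) (y := c) (b := k * b * k⁻¹) (x := k * c * k⁻¹) (v₀ := v₀)
    (v' := k * v₀ * k⁻¹) hb hcC hco hci hck hv₀
    (by rw [← hky, ← cj_ws]; exact conj_mem_cj hb)
    (by
      rw [← hkx, ← cj_centralizer_singleton]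
      exact conj_mem_cj hcC)
    (by
      have : orderOf (k * c * k⁻¹) = orderOf c := by
        have := orderOf_injective (MulAut.conj k).toMonoidHom (MulAut.conj k).injective c
        exact this
      rw [this]; exact hco)
    (by
      calc k * b * k⁻¹ * (k * c * k⁻¹) * (k * b * k⁻¹)⁻¹ = k * (b * c * b⁻¹) * k⁻¹ := by group
        _ = (k * c * k⁻¹)⁻¹ := by rw [hci]; group)
    (by
      rw [← hkx, ← OddBase.cj_kq, mem_cj]
      have : k⁻¹ * (k * c * k⁻¹) * k = c := by group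
      rw [this]; exact hck)
    (by
      intro v hv hvx
      have h5 := hv₀ _ (hub v hv) (hconj v hvx)
      have e : v = k * (k⁻¹ * v * k) * k⁻¹ := by group
      rcases h5 with e5 | e5
      · left; rw [e, e5]; group
      · right; rw [e, e5])
  have hyx := hc.symm.mem_ws
  have hyx' := hc.mem_ws
  have hfin : y ∈ ub (ws V x) c ∨ y * x ∈ ub (ws V x) c := by
    rcases hnat' with e | e | e | e
    · exact Or.inl e
    · exact Or.inr e
    · left
      have := hub _ e
      rwa [hky'] at this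
    · right
      have := hub _ e
      have e2 : k⁻¹ * (x * y) * k = (k⁻¹ * x * k) * (k⁻¹ * y * k) := by group
      rwa [e2, hky', hkx'] at this
  rcases hfin with e | e
  · exact hpi y e
  · obtain ⟨m, hm⟩ := hpi _ e
    refine ⟨m, ?_⟩
    rw [← hm, R.pi_mul y hyx' x (self_mem_ws h.toGeo hx), OddRep.Rep.pi_self h hx R, add_zero]

end Cfsg.Agent.MinSimple.OddK
end

-- part: Classification/TitsFin/TriIn
section
/-!
# (E1)(b), `n = 1`, `k = 1`, no transvections: the Tits case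

`finHyp_of_one`: `One T V z`, no element of `ws V y ∖ kq V x` (`x`, `y` collinear) induces a transvection on
`ws V x / ⟨x⟩`, and the vector of `y` is in `[M, g]` for each `g ∈ O₃(X)` of order 3 inverted by the involution of `y` with
`|[M, g]| = 4`; then `FinHyp z q` (`G` without subgroups of index 2), and `G` is not minimal simple.
-/

set_option autoImplicit false

namespace Cfsg.Agent.Classification.TitsFin.TriIn

open Subgroup Cfsg Cfsg.Agent.MinSimple.Geo Cfsg.Agent.MinSimple.OddRep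
open Cfsg.Agent.MinSimple.OddOne (One)
open Cfsg.Agent.MinSimple.OddBase (Col)
open Cfsg.Agent.MinSimple.OddRTMod (cm)
open Cfsg.Agent.Classification.TitsFin.TriGlue Cfsg.Agent.Classification.TitsFin.TriBlk

universe u

variable {G : Type u} [Group G] [Finite G] {T V : Subgroup G} {z q : G} {M X : Type u} [AddCommGroup M] [Group X]
  [DistribMulAction X M]

theorem cm_eq_im {M X : Type*} [AddCommGroup M] [Group X] [DistribMulAction X M] (g : X) : cm M g = im M g := by
  ext m; exact Iff.rfl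

/-- no transvections -/
abbrev NoTv (R : _root_.Cfsg.Agent.MinSimple.OddRep.Rep V z M X) : Prop := ∀ y b, Col V z y → b ∈ ws V y → b ∉ kq V z →
  ¬ ∃ n : M, ∀ m : M, R.rho b • m = m ∨ R.rho b • m = m + n

/-- (D1') at `z` -/
abbrev InD (R : _root_.Cfsg.Agent.MinSimple.OddRep.Rep V z M X) : Prop := ∀ y b g, Col V z y → b ∈ ws V y → b ∉ kq V z → g ∈ pCore 3 X → g ^ 3 = 1 →
  g ≠ 1 → R.rho b * g * R.rho b = g⁻¹ → Nat.card (cm M g) = 4 → R.pi y ∈ cm M g

theorem in_of_one (h : _root_.Cfsg.Agent.MinSimple.OddOne.One T V z) (R : _root_.Cfsg.Agent.MinSimple.OddRep.Rep V z M X) (htv : NoTv R) (hD : InD R) (hq : q ∈ V) (hq1 : q ≠ 1)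
    (hqz : q ≠ z) : ∃ a : X, In T V z q R a := by
  have hcol : Col V z q := MinSimple.OddBase.col_of_mem h.toGeo h.z_mem hq h.z_ne hq1 (Ne.symm hqz)
  have hzz := MinSimple.OddBase.Pt.refl z
  obtain ⟨b, hb, hbn⟩ := h.exists_not_mem hcol
  have hrt := MinSimple.OddRankTwo.rt h hzz R htv hD
  have hE : R.pi q ∈ MinSimple.OddRankTwo.EE R := ⟨q, hcol, rfl⟩
  have haa := MinSimple.OddRankTwo.aa_eq h R hcol hb hbn
  refine ⟨R.rho b,
    { odd := h.toOdd
      q_mem := hq
      q_ne := hq1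
      q_ne' := hqz
      ind := ?_
      exi := ⟨b, hb, rfl⟩
      card := ?_
      mem := ?_
      nl := ?_
      r3 := ?_ }⟩
  · intro w hw
    by_cases hwn : w ∈ kq V z
    · left
      exact (Rep.rho_eq_one R (MinSimple.BTwoB.kq_le V z hwn)).mpr hwn
    · right
      exact h.rho_eq R hcol hw hb hwn hbn
  · rw [← cm_eq_im, ← haa]; exact hrt.card _ hE
  · rw [← cm_eq_im, ← haa]; exact hrt.mem _ hE
  · intro c hc
    rw [← cm_eq_im, ← haa] at hc
    exact hrt.only _ hE _ (hrt.inv c _ hE) hc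
  · intro g hg
    have h3 := MinSimple.OddRankTwo.pCore_eq_bot h hzz R htv hD Nat.prime_three (by norm_num)
    rw [h3, mem_bot] at hg
    rw [hg, mul_one, one_mul]

/-- **(R2)** -/
theorem finHyp_of_one (h : _root_.Cfsg.Agent.MinSimple.OddOne.One T V z) (R : _root_.Cfsg.Agent.MinSimple.OddRep.Rep V z M X) (htv : NoTv R) (hD : InD R)
    (hG : ∀ N : Subgroup G, N.index ≠ 2) : ∃ q, FinHyp z q := by
  obtain ⟨q, hq, hq1, hqz⟩ := h.exists_y
  obtain ⟨a, ha⟩ := in_of_one h R htv hD hq hq1 hqz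
  exact ⟨q, TriEnd.finHyp_of_in ha hG⟩

/-! ### (D1') always holds -/

/-- an involution on a group of order four -/
theorem exists_n0 [Finite M] (two : ∀ m : M, m + m = 0) {b g : X} (hb : b * b = 1) (hbg : b * g * b⁻¹ = g⁻¹)
    (hcard : Nat.card (im M g) = 4) :
    ∃ n₀ : M, ∀ m : M, b • (g • m + m) + (g • m + m) = 0 ∨ b • (g • m + m) + (g • m + m) = n₀ := by
  have hinv : ∀ m ∈ im M g, b • m ∈ im M g := fun m hm => smul_im two hbg hm
  have h1 := card_eq two b (im M g)
  rw [hcard] at h1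
  have h2 : im M g ⊓ fx M b ≠ ⊥ := by
    intro e
    have h3 : ∀ m ∈ im M g, b • m = m := by
      intro m hm
      have h4 : b • m + m ∈ im M g ⊓ fx M b := by
        refine ⟨add_mem (hinv m hm) hm, ?_⟩
        change b • (b • m + m) = b • m + m
        rw [smul_add, ← mul_smul, hb, one_smul, add_comm]
      rw [e, AddSubgroup.mem_bot] at h4
      exact (add_eq_zero two).mp h4
    have h5 : im M g ≤ im M g ⊓ fx M b := fun m hm => ⟨hm, h3 m hm⟩
    rw [e, le_bot_iff] at h5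
    rw [h5, AddSubgroup.card_bot] at hcard
    exact absurd hcard (by norm_num)
  have h3 : Nat.card ↥(im M g ⊓ fx M b) ≠ 1 := fun e => h2 (AddSubgroup.card_eq_one.mp e)
  have h3' : 0 < Nat.card ↥(im M g ⊓ fx M b) := Nat.card_pos
  have h4 : Nat.card ↥((im M g).map (dl M b)) ≤ 2 := by
    by_contra hcon
    have h5 : 2 * 3 ≤ Nat.card ↥(im M g ⊓ fx M b) * Nat.card ↥((im M g).map (dl M b)) :=
      Nat.mul_le_mul (by omega) (by omega)
    omega
  have hmem : ∀ m : M, b • (g • m + m) + (g • m + m) ∈ (im M g).map (dl M b) := fun m =>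
    ⟨g • m + m, im_mem g m, rfl⟩
  by_cases h0 : ∃ n₀ ∈ (im M g).map (dl M b), n₀ ≠ 0
  · obtain ⟨n₀, hn₀, hn0⟩ := h0
    refine ⟨n₀, fun m => ?_⟩
    by_contra hcon
    push Not at hcon
    set N := (im M g).map (dl M b) with hN
    have h5 : ({0, n₀, b • (g • m + m) + (g • m + m)} : Set M) ⊆ (N : Set M) := by
      rintro x (rfl | rfl | rfl)
      · exact zero_mem _
      · exact hn₀
      · exact hmem m
    have h6 := Set.ncard_le_ncard h5 (Set.toFinite _)
    have h7 : ({0, n₀, b • (g • m + m) + (g • m + m)} : Set M).ncard = 3 := by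
      rw [Set.ncard_insert_of_notMem, Set.ncard_pair]
      · exact fun e => hcon.2 e.symm
      · rintro (e | e)
        · exact hn0 e.symm
        · exact hcon.1 e.symm
    have h8 : (N : Set M).ncard = Nat.card N := rfl
    omega
  · push Not at h0
    exact ⟨0, fun m => Or.inl (h0 _ (hmem m))⟩

theorem inD (h : _root_.Cfsg.Agent.MinSimple.OddOne.One T V z) (R : _root_.Cfsg.Agent.MinSimple.OddRep.Rep V z M X) : InD R := by
  intro y b g hc hb _ _ hg3 hg1 hinv hcard
  have hfin : Finite M := R.finite_left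
  have hbb := h.rho_sq R hc hb
  have hbi : (R.rho b)⁻¹ = R.rho b := inv_eq_of_mul_eq_one_left hbb
  have hinv' : R.rho b * g * (R.rho b)⁻¹ = g⁻¹ := by rw [hbi]; exact hinv
  have hodd : Odd (orderOf g) := by
    rw [orderOf_eq_prime hg3 hg1]; exact ⟨1, by norm_num⟩
  have two := Rep.two h.toOdd (MinSimple.OddBase.Pt.refl z) R
  rw [cm_eq_im] at hcard
  obtain ⟨m, hm⟩ := MinSimple.OddK.pi_mem_of_inverts h.toOdd hc R hb hodd hg1 hinv' (exists_n0 two hbb hinv' hcard)
  exact ⟨m, hm.symm⟩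

/-- **(R2)**, final form: `n = 1`, no transvections at `z`. -/
theorem finHyp (h : _root_.Cfsg.Agent.MinSimple.OddOne.One T V z) (R : _root_.Cfsg.Agent.MinSimple.OddRep.Rep V z M X) (htv : NoTv R) (hG : ∀ N : Subgroup G, N.index ≠ 2) :
    ∃ q, FinHyp z q := finHyp_of_one h R htv (inD h R) hG

end Cfsg.Agent.Classification.TitsFin.TriIn
end

-- part: MinSimple/OddOneEnd
section
/-!
# (E1)(b), `n = 1`, `k = 1`: the final configuration

`finHyp_of_one`: `One T V z` in a simple group gives `FinHyp z q`.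
-/

set_option autoImplicit false

namespace Cfsg.Agent.MinSimple.OddOneEnd

open Subgroup Cfsg Cfsg.Agent.MinSimple.Geo
open Cfsg.Agent.MinSimple.OddOne (One)
open Cfsg.Agent.Classification.TitsFin (FinHyp)

universe u

variable {G : Type u} [Group G] [Finite G] {T V : Subgroup G} {z : G}

/-- (T) for `n = 1`, `k = 1`. -/
theorem finHyp_of_one (hG : IsSimpleGroup G) (hi : ∀ N : Subgroup G, N.index ≠ 2) (h : _root_.Cfsg.Agent.MinSimple.OddOne.One T V z) :
    ∃ q, FinHyp z q := by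
  obtain ⟨M, X, _, _, _, ⟨R⟩⟩ := OddRep.exists_rep h.toOdd (OddBase.Pt.refl z)
  exact Classification.TitsFin.TriIn.finHyp h R
    (fun _ _ hc hb hn hR => OddNatEnd.false_of_tv hG h R hc hb hn hR) hi

end Cfsg.Agent.MinSimple.OddOneEnd
end

-- part: MinSimple/OddTwoMain
section
/-!
# (E1)(b), `s = 2`: the contradiction

`false_of_star : OddN T V z 2 → Star V z → False`.
-/

set_option autoImplicit false
set_option linter.unusedSectionVars false

namespace Cfsg.Agent.MinSimple.OddTwoMain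

open Subgroup Cfsg Cfsg.Agent.ZN Cfsg.Agent.MinSimple.Geo Cfsg.Agent.MinSimple.BTwoA
  Cfsg.Agent.MinSimple.OddLine Cfsg.Agent.MinSimple.OddBase Cfsg.Agent.MinSimple.OddTwoRep
open Cfsg.Agent.ZN.Block (conj_mem_of_normalizer conj_mem_of_normalizer' le_normalizer_of_forall
  mem_normalizer_of)

universe u

variable {G : Type u} [Group G] {T V : Subgroup G} {z : G}

theorem crit_of_comm_ne {x y : G} (hx : Pt z x) (hw : Walk V 2 x y) {a b : G} (ha : a ∈ ws V x)
    (hb : b ∈ ws V y) (hab : a * b ≠ b * a) : Crit V z 2 x y := ⟨hx, hw, a, ha, b, hb, hab⟩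

theorem col_conj_of_comm {x y c : G} (h : Col V x y) (hc : c * x = x * c) : Col V x (c * y * c⁻¹) := by
  have h1 := h.conj c
  rwa [hc, mul_inv_cancel_right] at h1

/-- `C(x)` is transitive on the points collinear with `x` -/
theorem exists_conj_col [Finite G] (h : _root_.Cfsg.Agent.MinSimple.OddLine.Odd T V z) {x y y' : G} (hy : Col V x y) (hy' : Col V x y') :
    ∃ c ∈ centralizer ({x} : Set G), c * y * c⁻¹ = y' := by
  have hx1 := hy.1
  obtain ⟨_, hy1, hne, L, ⟨⟨g, rfl⟩, hxL⟩, hyL⟩ := hy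
  obtain ⟨_, hy1', hne', L', hL', hyL'⟩ := hy'
  obtain ⟨T', h1⟩ := h.line hxL hx1
  rw [← lines_cj V g] at hL'
  obtain ⟨c, hc, rfl⟩ := h1.toGeo.exists_of_mem_lines hL'
  have h2 : c⁻¹ * y' * c ∈ cj g V := mem_cj.mp hyL'
  have h3 : c⁻¹ * y' * c ≠ 1 := fun e => hy1' (by
    have : y' = c * (c⁻¹ * y' * c) * c⁻¹ := by group
    rw [this, e]; group)
  have hcx : c * x = x * c := mem_centralizer_singleton_iff.mp hc
  have h4 : c⁻¹ * y' * c ≠ x := fun e => hne' (by
    have : y' = c * (c⁻¹ * y' * c) * c⁻¹ := by group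
    rw [this, e, hcx]; group)
  rcases h1.toGeo.four hxL hyL hx1 hy1 hne h2 with e | e | e | e
  · exact absurd e h3
  · exact absurd e h4
  · exact ⟨c, hc, by rw [← e]; group⟩
  · obtain ⟨w, hw, hwm⟩ := h1.exists_swap
    refine ⟨c * w, mul_mem hc (BTwoB.kq_le _ x hw.2), ?_⟩
    have e2 := hwm y hyL hy1 (Ne.symm hne)
    calc c * w * y * (c * w)⁻¹ = c * (w * y * w⁻¹) * c⁻¹ := by group
      _ = y' := by rw [e2, ← e]; group

theorem conj_centralizer_ws {c x a : G} (ha : a ∈ centralizer (ws V x : Set G)) :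
    c * a * c⁻¹ ∈ centralizer (ws V (c * x * c⁻¹) : Set G) := by
  refine mem_centralizer_iff.mpr fun w hw => ?_
  rw [← cj_ws, SetLike.mem_coe, mem_cj] at hw
  have h1 := mem_centralizer_iff.mp ha _ hw
  calc w * (c * a * c⁻¹) = c * (c⁻¹ * w * c * a) * c⁻¹ := by group
    _ = c * (a * (c⁻¹ * w * c)) * c⁻¹ := by rw [h1]
    _ = c * a * c⁻¹ * w := by group

section squares

variable [Finite G]

/-- `tt V 1 x` centralizes the points collinear with `x` -/
theorem tt_col (h : OddN T V z 2) {x m : G} (hc : Col V x m) {u : G} (hu : u ∈ tt V 1 x) : u * m = m * u :=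
  mem_centralizer_singleton_iff.mp (tt_comm h hc.symm hu)

theorem tt_self (h : OddN T V z 2) {x : G} (hx : Pt z x) {u : G} (hu : u ∈ tt V 1 x) : u * x = x * u := by
  have h1 := tt_le_centralizer_ws h (j := 1) (by norm_num) hx hu
  exact (mem_centralizer_iff.mp h1 x (self_mem_ws h.toGeo hx)).symm

theorem tt_normal {x c u : G} (hc : c * x = x * c) (hu : u ∈ tt V 1 x) :
    c * u * c⁻¹ ∈ tt V 1 x := by
  have h1 := conj_mem_cj (g := c) hu
  rwa [cj_tt, hc, mul_inv_cancel_right] at h1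

/-- commutators in `tt V 1 x` -/
theorem tt_comm_mem (hs : _root_.Cfsg.Agent.MinSimple.OddTwoRep.Star V z) (h : OddN T V z 2) {x : G} (hx : Pt z x) {a b : G} (ha : a ∈ tt V 1 x)
    (hb : b ∈ tt V 1 x) : a * b * a⁻¹ * b⁻¹ ∈ zpowers x := by
  have hC : ∀ {u}, u ∈ tt V 1 x → u ∈ centralizer ({x} : Set G) := fun hu =>
    mem_centralizer_singleton_iff.mpr (tt_self h hx hu)
  have hcx : ∀ {c y : G}, c ∈ centralizer ({x} : Set G) → y ∈ zpowers x → c * y * c⁻¹ = y := by
    rintro c y hc ⟨n, rfl⟩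
    have h1 : Commute c (x ^ n) := (show Commute c x from mem_centralizer_singleton_iff.mp hc).zpow_right n
    change c * x ^ n * c⁻¹ = x ^ n
    rw [h1.eq, mul_inv_cancel_right]
  -- the elements commuting with `g` modulo `⟨x⟩`
  let B : G → Subgroup G := fun g =>
    { carrier := {b | b ∈ centralizer ({x} : Set G) ∧ g * b * g⁻¹ * b⁻¹ ∈ zpowers x}
      mul_mem' := by
        rintro a b ⟨ha, ha1⟩ ⟨hb, hb1⟩
        refine ⟨mul_mem ha hb, ?_⟩
        have e : g * (a * b) * g⁻¹ * (a * b)⁻¹ = (g * a * g⁻¹ * a⁻¹) * (a * (g * b * g⁻¹ * b⁻¹) * a⁻¹) := by group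
        rw [e, hcx ha hb1]
        exact mul_mem ha1 hb1
      one_mem' := ⟨one_mem _, by simp⟩
      inv_mem' := by
        rintro a ⟨ha, ha1⟩
        refine ⟨inv_mem ha, ?_⟩
        have e : g * a⁻¹ * g⁻¹ * a⁻¹⁻¹ = (a⁻¹ * (g * a * g⁻¹ * a⁻¹) * a⁻¹⁻¹)⁻¹ := by group
        rw [e, hcx (inv_mem ha) ha1]
        exact inv_mem ha1 }
  have hgen : ∀ w w', Walk V 1 x w → Walk V 1 x w' → ∀ a ∈ ws V w, ∀ b ∈ ws V w', a * b * a⁻¹ * b⁻¹ ∈ zpowers x := by
    intro w w' hw hw' a ha b hb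
    by_cases hab : a * b = b * a
    · rw [hab]; simp
    rcases walk_one.mp hw with rfl | hw1
    · exfalso
      exact hab (h.lt x w' 1 (by norm_num) hx hw' a ha b hb)
    rcases walk_one.mp hw' with rfl | hw1'
    · exfalso
      exact hab (h.lt w x 1 (by norm_num) (hw1.pt h.toGeo) hw.symm a ha b hb)
    have hcr : Crit V z 2 w w' := crit_of_comm_ne (hw1.pt h.toGeo) (hw1.symm.walk.trans hw1'.walk) ha hb hab
    rcases hs.s1 hcr hw1.symm hw1' a ha b hb with e | e
    · exact absurd e hab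
    · rw [e]
      have e2 : x * (b * a) * a⁻¹ * b⁻¹ = x := by group
      rw [e2]; exact mem_zpowers x
  have h1 : ∀ w, Walk V 1 x w → ∀ a ∈ ws V w, tt V 1 x ≤ B a := by
    intro w hw a ha
    refine tt_le fun w' hw' b hb => ⟨hC (ws_le_tt hw' hb), hgen w w' hw hw' a ha b hb⟩
  have h2 : tt V 1 x ≤ B b := by
    refine tt_le fun w hw a ha => ⟨hC (ws_le_tt hw ha), ?_⟩
    have h3 := (h1 w hw a ha hb).2
    have h4 := inv_mem h3
    have e : (a * b * a⁻¹ * b⁻¹)⁻¹ = b * a * b⁻¹ * a⁻¹ := by group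
    rwa [e] at h4
  have h3 := inv_mem (h2 ha).2
  have e : (b * a * b⁻¹ * a⁻¹)⁻¹ = a * b * a⁻¹ * b⁻¹ := by group
  rwa [e] at h3

/-- squares in `tt V 1 x` -/
theorem tt_sq_mem (hs : _root_.Cfsg.Agent.MinSimple.OddTwoRep.Star V z) (h : OddN T V z 2) {x : G} (hx : Pt z x) {a : G} (ha : a ∈ tt V 1 x) :
    a * a ∈ zpowers x := by
  have hcx : ∀ {c y : G}, c ∈ tt V 1 x → y ∈ zpowers x → c * y = y * c := by
    rintro c y hc ⟨n, rfl⟩
    exact (show Commute c x from tt_self h hx hc).zpow_right n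
  let B : Subgroup G :=
    { carrier := {b | b ∈ tt V 1 x ∧ b * b ∈ zpowers x}
      mul_mem' := by
        rintro a b ⟨ha, ha1⟩ ⟨hb, hb1⟩
        refine ⟨mul_mem ha hb, ?_⟩
        have h1 := tt_comm_mem hs h hx hb ha
        have e : a * b * (a * b) = a * (b * a * b⁻¹ * a⁻¹) * a * (b * b) := by group
        rw [e, hcx ha h1, mul_assoc (b * a * b⁻¹ * a⁻¹)]
        exact mul_mem (mul_mem h1 ha1) hb1
      one_mem' := ⟨one_mem _, by simp⟩
      inv_mem' := by
        rintro a ⟨ha, ha1⟩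
        refine ⟨inv_mem ha, ?_⟩
        have e : a⁻¹ * a⁻¹ = (a * a)⁻¹ := by group
        rw [e]; exact inv_mem ha1 }
  have h1 : tt V 1 x ≤ B := by
    refine tt_le fun w hw a ha => ⟨ws_le_tt hw ha, ?_⟩
    rw [ws_sq h.toOdd (Walk.pt h.toGeo hx hw) ha]
    exact one_mem _
  exact (h1 ha).2

/-- **(SQ)** -/
theorem sq_comm (hs : _root_.Cfsg.Agent.MinSimple.OddTwoRep.Star V z) (h : OddN T V z 2) {x y u w : G} (hc : Col V x y) (hu : u ∈ tt V 1 x)
    (hw : w ∈ tt V 1 y) (hww : w * w = 1) : w * (u * w * u⁻¹) = (u * w * u⁻¹) * w := by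
  have hx : Pt z x := hc.pt_left h.toGeo
  have hy : Pt z y := hc.pt h.toGeo
  have huy : u * y = y * u := tt_col h hc hu
  have hwx : w * x = x * w := tt_col h hc.symm hw
  have hwi : w⁻¹ = w := inv_eq_of_mul_eq_one_left hww
  set! c := w * u * w⁻¹ * u⁻¹ with hcdef
  have hcx : c ∈ tt V 1 x := mul_mem (tt_normal hwx hu) (inv_mem hu)
  have hcy : c ∈ tt V 1 y := by
    have e : c = w * (u * w⁻¹ * u⁻¹) := by rw [hcdef]; group
    rw [e]
    exact mul_mem hw (tt_normal huy (inv_mem hw))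
  have hcc : c * c = 1 := by
    have h1 := tt_sq_mem hs h hx hcx
    have h2 := tt_sq_mem hs h hy hcy
    rcases (mem_zpowers_iff_of_mul_self (OddBase.Pt.sq h.toGeo hx)).mp h1 with e | e
    · exact e
    · rcases (mem_zpowers_iff_of_mul_self (OddBase.Pt.sq h.toGeo hy)).mp h2 with e' | e'
      · exact e'
      · exfalso; exact hc.2.2.1 (e.symm.trans e')
  have hci : c⁻¹ = c := inv_eq_of_mul_eq_one_left hcc
  have h3 : w * c * w⁻¹ = c⁻¹ := by
    rw [hcdef]
    have e1 : w * (w * u * w⁻¹ * u⁻¹) * w⁻¹ = (w * w) * u * w⁻¹ * u⁻¹ * w⁻¹ := by group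
    have e2 : (w * u * w⁻¹ * u⁻¹)⁻¹ = u * w * u⁻¹ * w⁻¹ := by group
    rw [e1, e2, hww, one_mul, hwi]
  rw [hci] at h3
  have h4 : w * c = c * w := by
    calc w * c = (w * c * w⁻¹) * w := by group
      _ = c * w := by rw [h3]
  have h5 : u * w * u⁻¹ = w⁻¹ * c := by
    calc u * w * u⁻¹ = u * w⁻¹ * u⁻¹ := by rw [hwi]
      _ = w⁻¹ * c := by rw [hcdef]; group
  rw [h5, mul_assoc, ← h4]; group

end squares

section six

variable [Finite G]

/-- conjugating by a noncentralizing element: the point `m * m'` -/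
theorem mem_centralizer_conj_iff {c x a : G} (hca : c * a = a * c) :
    a ∈ centralizer (ws V (c * x * c⁻¹) : Set G) ↔ a ∈ centralizer (ws V x : Set G) := by
  constructor
  · intro h1
    have h2 := conj_centralizer_ws (V := V) (c := c⁻¹) h1
    have e1 : c⁻¹ * (c * x * c⁻¹) * c⁻¹⁻¹ = x := by group
    have e2 : c⁻¹ * a * c⁻¹⁻¹ = a := by
      rw [inv_inv, mul_assoc, ← hca]; group
    rwa [e1, e2] at h2
  · intro h1
    have h2 := conj_centralizer_ws (V := V) (c := c) h1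
    rwa [hca, mul_inv_cancel_right] at h2

/-- **(6)** `tt V 1 p'` centralizes `p` for a critical pair `p`, `p'` -/
theorem tt_fix (hs : _root_.Cfsg.Agent.MinSimple.OddTwoRep.Star V z) (h : OddN T V z 2) {p p' r : G} (hc : Crit V z 2 p p') (hpr : Col V p r)
    (hrp : Col V r p') {u : G} (hu : u ∈ tt V 1 p') : u * p * u⁻¹ = p := by
  by_contra hup
  have hp : Pt z p := hc.pt
  have hp' : Pt z p' := hrp.pt h.toGeo
  have h1 : u * p * u⁻¹ = p' * p := eq_mul_of_ne hs hrp hu hpr.symm.mem_ws hup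
  obtain ⟨v, hv, hvn⟩ := hs.s3c hpr.symm
  have h2 : v * p' * v⁻¹ = p * p' := sym_pt hs h hrp hpr.symm hu hup hv hvn
  obtain ⟨a, ha, b, hb, hab⟩ := hc.2.2
  have han : a ∉ centralizer (ws V p' : Set G) := fun hcon => hab (mem_centralizer_iff.mp hcon b hb).symm
  -- the commutation of `p` and `p'`
  have hpp : p * p' = p' * p := by
    have hr : Pt z r := hrp.pt_left h.toGeo
    exact ws_comm h.toOdd hr hpr.symm.mem_ws hrp.mem_ws
  set q := p' * p with hq
  have h2' : v * p' * v⁻¹ = q := by rw [h2, hpp]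
  have haU : a ∈ tt V 1 r := ws_le_tt hpr.symm.walk ha
  have haa : a * a = 1 := ws_sq h.toOdd hp ha
  have hcomm := sq_comm hs h hrp.symm hu haU haa
  set a2 := u * a * u⁻¹ with ha2
  have ha2q : a2 ∈ ws V q := by
    rw [← h1, ← cj_ws]
    exact conj_mem_cj ha
  -- `v` centralizes `ws V p`
  have hvW : ∀ w ∈ ws V p, v * w = w * v := fun w hw =>
    (mem_centralizer_iff.mp (tt_le_centralizer_ws h (j := 1) (by norm_num) hp hv) w hw).symm
  have huW : ∀ w ∈ ws V p', u * w = w * u := fun w hw =>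
    (mem_centralizer_iff.mp (tt_le_centralizer_ws h (j := 1) (by norm_num) hp' hu) w hw).symm
  have haq : a ∉ centralizer (ws V q : Set G) := by
    rw [← h2', mem_centralizer_conj_iff (hvW a ha)]
    exact han
  -- `a2` does not centralize `ws V p`
  have ha2n : a2 ∉ centralizer (ws V p : Set G) := by
    intro hcon
    have h3 := conj_centralizer_ws (V := V) (c := u⁻¹) hcon
    have e1 : u⁻¹ * a2 * u⁻¹⁻¹ = a := by rw [ha2]; group
    have e2 : u⁻¹ * p * u⁻¹⁻¹ = q := by
      have e3 : u * q * u⁻¹ = p := by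
        have hp1 : p' * p' = 1 := OddBase.Pt.sq h.toGeo hp'
        calc u * q * u⁻¹ = (u * p') * u⁻¹ * (u * p * u⁻¹) := by rw [hq]; group
          _ = p' * (p' * p) := by rw [huW p' (self_mem_ws h.toGeo hp'), h1, hq]; group
          _ = p := by rw [← mul_assoc, hp1, one_mul]
      calc u⁻¹ * p * u⁻¹⁻¹ = u⁻¹ * (u * q * u⁻¹) * u := by rw [e3, inv_inv]
        _ = q := by group
    rw [e1, e2] at h3
    exact haq h3
  -- `p`, `q` is critical
  have hrq : Col V r q := by
    rw [← h1]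
    refine col_conj_of_comm hpr.symm ?_
    exact tt_col h hrp.symm hu
  have hw2 : Walk V 2 p q := hpr.walk.trans hrq.walk
  obtain ⟨a1, ha1, ha12⟩ : ∃ a1 ∈ ws V p, a1 * a2 ≠ a2 * a1 := by
    by_contra hcon
    push Not at hcon
    exact ha2n (mem_centralizer_iff.mpr hcon)
  have hcr : Crit V z 2 p q := crit_of_comm_ne hp hw2 ha1 ha2q ha12
  have ha1n : a1 ∉ centralizer (ws V q : Set G) := fun hcon => ha12 (mem_centralizer_iff.mp hcon a2 ha2q).symm
  have h4 := hs.s2 hcr a ha a1 ha1 haq ha1n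
  have h5 := mem_centralizer_iff.mp h4 a2 ha2q
  apply ha12
  have h6 : a * (a1 * a2) = a * (a2 * a1) := by
    calc a * (a1 * a2) = a * a1 * a2 := by group
      _ = a2 * (a * a1) := h5.symm
      _ = (a2 * a) * a1 := by group
      _ = a * (a2 * a1) := by rw [← hcomm]; group
  exact mul_left_cancel h6

end six

section seven

variable [Finite G]

/-- an element of `ws V x` is moved by a noncentralizing element: it moves a collinear point -/
theorem exists_col_moved (h : _root_.Cfsg.Agent.MinSimple.OddLine.Odd T V z) {x a : G} (hx : Pt z x) (hax : a * x = x * a)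
    (ha : a ∉ centralizer (ws V x : Set G)) : ∃ s, Col V x s ∧ a * s * a⁻¹ ≠ s := by
  by_contra hcon
  push Not at hcon
  apply ha
  have h1 : ws V x ≤ centralizer ({a} : Set G) := by
    refine ws_le fun L hL s hs => ?_
    rw [mem_centralizer_singleton_iff]
    by_cases hs1 : s = 1
    · rw [hs1]; simp
    by_cases hsx : s = x
    · rw [hsx]; exact hax.symm
    have h2 := hcon s ⟨OddBase.Pt.ne_one h.toGeo hx, hs1, Ne.symm hsx, L, hL, hs⟩
    calc s * a = (a * s * a⁻¹) * a := by rw [h2]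
      _ = a * s := by group
  exact mem_centralizer_iff.mpr fun w hw => mem_centralizer_singleton_iff.mp (h1 hw)

/-- the index bound by counting conjugates of `a` -/
theorem relIndex_le {W D : Subgroup G} {a b c d : G} (hD : ∀ g ∈ W, g * a = a * g → g ∈ D)
    (hg : ∀ g ∈ W, g * a * g⁻¹ ∈ [a, b, c, d]) : D.relIndex W ≤ 4 := by
  classical
  let C : Subgroup G := W ⊓ centralizer ({a} : Set G)
  have hCD : C ≤ D := fun g hg' => hD g hg'.1 (mem_centralizer_singleton_iff.mp hg'.2)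
  refine (Subgroup.relIndex_le_of_le_left hCD ?_).trans ?_
  · exact Subgroup.index_ne_zero_of_finite
  let f : W ⧸ C.subgroupOf W → {x // x ∈ ([a, b, c, d] : List G).toFinset} :=
    fun q => ⟨((Quotient.out q : W) : G) * a * ((Quotient.out q : W) : G)⁻¹, by
      rw [List.mem_toFinset]; exact hg (Quotient.out q : W) (Quotient.out q : W).2⟩
  have hf : Function.Injective f := by
    intro q q' hqq
    have h1 : ((Quotient.out q : W) : G) * a * ((Quotient.out q : W) : G)⁻¹ =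
        ((Quotient.out q' : W) : G) * a * ((Quotient.out q' : W) : G)⁻¹ := congrArg Subtype.val hqq
    rw [← Quotient.out_eq q, ← Quotient.out_eq q']
    change (QuotientGroup.mk (Quotient.out q) : W ⧸ C.subgroupOf W) = QuotientGroup.mk (Quotient.out q')
    rw [QuotientGroup.eq, mem_subgroupOf]
    refine mem_inf.mpr ⟨(((Quotient.out q)⁻¹ * Quotient.out q' : W)).2, mem_centralizer_singleton_iff.mpr ?_⟩
    push_cast
    set g := ((Quotient.out q : W) : G)
    set g' := ((Quotient.out q' : W) : G)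
    calc g⁻¹ * g' * a = g⁻¹ * (g' * a * g'⁻¹) * g' := by group
      _ = g⁻¹ * (g * a * g⁻¹) * g' := by rw [h1]
      _ = a * (g⁻¹ * g') := by group
  have h2 := Nat.card_le_card_of_injective f hf
  have h3 : Nat.card {x // x ∈ ([a, b, c, d] : List G).toFinset} ≤ 4 := by
    rw [Nat.card_eq_fintype_card, Fintype.card_coe]
    exact List.toFinset_card_le _
  exact h2.trans h3

/-- **(7a)** -/
theorem exists_two (hs : _root_.Cfsg.Agent.MinSimple.OddTwoRep.Star V z) (h : OddN T V z 2) {p p' r : G} (hc : Crit V z 2 p p') (hpr : Col V p r)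
    (hrp : Col V r p') : ∃ r2, Col V p' r2 ∧ (ws V r2).relIndex (ws V r) ≤ 4 ∧
      (∀ v ∈ tt V 1 r, v ∉ centralizer (ws V p' : Set G) → v * r2 * v⁻¹ = r * r2) ∧
      ∃ u ∈ tt V 1 r2, u * r * u⁻¹ = r2 * r := by
  have hp : Pt z p := hc.pt
  have hp' : Pt z p' := hrp.pt h.toGeo
  have hr : Pt z r := hrp.pt_left h.toGeo
  obtain ⟨a, ha, ha1, ha2⟩ := bn_pt hs h hpr
  -- `a` does not centralize `ws V p'`
  obtain ⟨a0, ha0, b0, hb0, hab0⟩ := hc.2.2
  have hb0n : b0 ∉ centralizer (ws V p : Set G) := fun hcon => hab0 (mem_centralizer_iff.mp hcon a0 ha0)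
  have hb0U : b0 ∈ tt V 1 r := ws_le_tt hrp.walk hb0
  have h1 := ha1 b0 hb0U hb0n
  have han : a ∉ centralizer (ws V p' : Set G) := by
    intro hcon
    have h2 := mem_centralizer_iff.mp hcon b0 hb0
    rw [h2, mul_inv_cancel_right] at h1
    exact hr.ne_one h.toGeo (mul_eq_right.mp h1.symm)
  have haU : a ∈ tt V 1 r := ws_le_tt hpr.symm.walk ha
  have hap' : a * p' = p' * a := tt_col h hrp haU
  have har : a * r = r * a := tt_self h hr haU
  obtain ⟨s, hs1, hs2⟩ := exists_col_moved h.toOdd hp' hap' han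
  have hs3 : a * s * a⁻¹ = r * s := eq_mul_of_ne hs hrp.symm haU hs1.mem_ws hs2
  have hspt : Pt z s := hs1.pt h.toGeo
  -- the index of `ws V (r * s)` in `ws V s`
  have hidx : (ws V (r * s)).relIndex (ws V s) ≤ 4 := by
    refine relIndex_le (a := a) (b := r * a) (c := p * a) (d := p * (r * a)) ?_ ?_
    · intro g hg hga
      rw [← hs3, ← cj_ws, mem_cj]
      have e : a⁻¹ * g * a = g := by rw [mul_assoc, hga]; group
      rw [e]; exact hg
    · intro g hg
      have hgU : g ∈ tt V 1 p' := ws_le_tt hs1.walk hg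
      refine ha2 g ?_ ?_
      · rw [mem_centralizer_singleton_iff]
        have := tt_fix hs h hc hpr hrp hgU
        calc g * p = (g * p * g⁻¹) * g := by group
          _ = p * g := by rw [this]
      · rw [tt_col h hrp.symm hgU, mul_inv_cancel_right]
  -- an element of `tt V 1 (r * s)` interchanging `r` and `s`
  obtain ⟨v, hv, hvn⟩ := hs.s3c hs1
  have h2 : v * r * v⁻¹ = s * r := sym_pt hs h hrp.symm hs1 haU hs2 hv hvn
  have hcol' : Col V p' (r * s) := by
    rw [← hs3]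
    exact col_conj_of_comm hs1 hap'
  have hrs : r * s = s * r := ws_comm h.toOdd hp' hrp.symm.mem_ws hs1.mem_ws
  have hrr : r * r = 1 := OddBase.Pt.sq h.toGeo hr
  have hss : s * s = 1 := OddBase.Pt.sq h.toGeo hspt
  set! v' := a * v * a⁻¹ with hv'
  have hv'U : v' ∈ tt V 1 (r * s) := by
    rw [← hs3, ← cj_tt]
    exact conj_mem_cj hv
  have h3 : v' * r * v'⁻¹ = s := by
    have e1 : a⁻¹ * r * a = r := by rw [mul_assoc, ← har]; group
    calc v' * r * v'⁻¹ = a * (v * (a⁻¹ * r * a) * v⁻¹) * a⁻¹ := by rw [hv']; group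
      _ = (a * s * a⁻¹) * (a * r) * a⁻¹ := by rw [e1, h2]; group
      _ = r * s * r := by rw [hs3, har]; group
      _ = s := by rw [hrs, mul_assoc, hrr, mul_one]
  have hv'n : v' * r * v'⁻¹ ≠ r := by
    rw [h3]
    intro e
    apply hs2
    rw [e, har, mul_inv_cancel_right]
  have h4 : v' * s * v'⁻¹ = r := by
    have h5 : v' * s * v'⁻¹ ≠ s := by
      intro e
      have h6 : v' * s * v'⁻¹ = v' * r * v'⁻¹ := by rw [e, h3]
      exact hv'n (by rw [← conj_inj h6, e])
    rw [eq_mul_of_ne hs hcol' hv'U hs1.mem_ws h5, mul_assoc, hss, mul_one]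
  -- conjugate `s` to `r`
  obtain ⟨c, hcc, hcs⟩ := exists_conj_col h.toOdd hs1 hrp.symm
  have hcp : c * p' = p' * c := mem_centralizer_singleton_iff.mp hcc
  have hr2 : c * (r * s) * c⁻¹ = (c * r * c⁻¹) * r := by
    rw [← hcs]; group
  have hcr2 : Col V p' (c * (r * s) * c⁻¹) := col_conj_of_comm hcol' hcp
  have hu4 : c * v' * c⁻¹ ∈ tt V 1 (c * (r * s) * c⁻¹) := by
    rw [← cj_tt]; exact conj_mem_cj hv'U
  have hu4r : c * v' * c⁻¹ * r * (c * v' * c⁻¹)⁻¹ = c * (r * s) * c⁻¹ * r := by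
    have e1 : c⁻¹ * r * c = s := by rw [← hcs]; group
    calc c * v' * c⁻¹ * r * (c * v' * c⁻¹)⁻¹ = c * (v' * (c⁻¹ * r * c) * v'⁻¹) * c⁻¹ := by group
      _ = c * r * c⁻¹ := by rw [e1, h4]
      _ = c * (r * s) * c⁻¹ * r := by rw [hr2, mul_assoc (c * r * c⁻¹), hrr, mul_one]
  refine ⟨c * (r * s) * c⁻¹, hcr2, ?_, ?_, c * v' * c⁻¹, hu4, hu4r⟩
  · have e1 : (ws V (c * (r * s) * c⁻¹)).relIndex (ws V (c * s * c⁻¹)) = (ws V (r * s)).relIndex (ws V s) := by
      rw [← cj_ws, ← cj_ws]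
      exact Subgroup.relIndex_map_map_of_injective _ _ (MulAut.conj c).injective
    rw [hcs] at e1
    rw [e1]; exact hidx
  · intro w hw hwn
    refine sym_pt hs h hcr2 hrp.symm hu4 ?_ hw hwn
    rw [hu4r]
    intro e
    exact hcr2.2.1 (mul_eq_right.mp e)

/-- **the theorem** -/
theorem false_of_star (h : OddN T V z 2) (hs : _root_.Cfsg.Agent.MinSimple.OddTwoRep.Star V z) : False := by
  obtain ⟨p, p', hp, hw, hex⟩ := h.crit
  have hc : Crit V z 2 p p' := ⟨hp, hw, hex⟩
  obtain ⟨r, hpr, hw1⟩ := hc.head h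
  have hrp : Col V r p' := by
    rcases walk_one.mp hw1 with e | e
    · exfalso
      exact hc.not_walk h (m := 1) (by norm_num) (by rw [← e]; exact hpr.walk)
    · exact e
  have hr : Pt z r := hrp.pt_left h.toGeo
  obtain ⟨r2, hr2, hi1, hm1, u, hu, hur⟩ := exists_two hs h hc hpr hrp
  obtain ⟨q2, hq2, hi2, hm2, v, hv, hvr⟩ := exists_two hs h (hc.symm h.toOdd) hrp.symm hpr.symm
  -- `r2` and `q2` do not commute
  obtain ⟨a, ha, b, hb, hab⟩ := hex
  have han : a ∉ centralizer (ws V p' : Set G) := fun hcon => hab (mem_centralizer_iff.mp hcon b hb).symm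
  have h1 := hm1 a (ws_le_tt hpr.symm.walk ha) han
  have hr2n : r2 ∉ centralizer (ws V p : Set G) := by
    intro hcon
    have h2 := mem_centralizer_iff.mp hcon a ha
    rw [h2, mul_inv_cancel_right] at h1
    exact hr.ne_one h.toGeo (mul_eq_right.mp h1.symm)
  have h3 : r2 * q2 * r2⁻¹ = r * q2 := hm2 r2 (ws_le_tt hrp.walk hr2.mem_ws) hr2n
  -- the killing lemma
  set! X := tt V 1 r ⊔ tt V 1 r2 with hX
  set! Y := tt V 1 r ⊔ tt V 1 q2 with hY
  have hrr : r ∈ tt V 1 r := ws_le_tt (Walk.refl V 1 r) (self_mem_ws h.toGeo hr)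
  have hrX : r ∈ X := (le_sup_left : tt V 1 r ≤ X) hrr
  have hr2X : r2 ∈ Killing.ncl X r := by
    have h4 := Killing.conj_mem_ncl (X := X) (v := r) ((le_sup_right : tt V 1 r2 ≤ X) hu)
    rw [hur] at h4
    have h5 := mul_mem h4 (inv_mem (Killing.self_mem_ncl X r))
    rwa [mul_inv_cancel_right] at h5
  have hq2Y : q2 ∈ Killing.ncl Y r := by
    have h4 := Killing.conj_mem_ncl (X := Y) (v := r) ((le_sup_right : tt V 1 q2 ≤ Y) hv)
    rw [hvr] at h4
    have h5 := mul_mem h4 (inv_mem (Killing.self_mem_ncl Y r))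
    rwa [mul_inv_cancel_right] at h5
  have hrmem : r ∈ ⁅Killing.ncl X r, Killing.ncl Y r⁆ := by
    have h4 := commutator_mem_commutator hr2X hq2Y
    rwa [commutatorElement_def, h3, mul_inv_cancel_right] at h4
  have hkill : ∀ w : G, orderOf w = 2 → X ≤ centralizer ({w} : Set G) → Y ≤ centralizer ({w} : Set G) → False := by
    intro w hw2 hwX hwY
    refine Killing.killing_centralizer (fun U hU hU1 => ?_) hrX (hr.ne_one h.toGeo) le_rfl le_rfl hrmem hw2 hwX hwY
    exact h.solv _ ⟨U, hU, hU1, rfl⟩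
  have hcent : ∀ {x w : G}, Pt z x → w ∈ ws V x → tt V 1 x ≤ centralizer ({w} : Set G) := by
    intro x w hx hw t ht
    rw [mem_centralizer_singleton_iff]
    exact (mem_centralizer_iff.mp (tt_le_centralizer_ws h (j := 1) (by norm_num) hx ht) w hw).symm
  have hbot : ws V r2 ⊓ ws V q2 ⊓ ws V r = ⊥ := by
    rw [eq_bot_iff]
    rintro w ⟨⟨hw2, hwq⟩, hwr⟩
    rw [mem_bot]
    by_contra hw1
    have hww : w * w = 1 := ws_sq h.toOdd hr hwr
    exact hkill w (orderOf_eq_prime (by rw [pow_two]; exact hww) hw1)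
      (sup_le (hcent hr hwr) (hcent (hr2.pt h.toGeo) hw2)) (sup_le (hcent hr hwr) (hcent (hq2.pt h.toGeo) hwq))
  have hcard : Nat.card (ws V r) ≤ 16 := by
    have h4 : (ws V r2 ⊓ ws V q2).relIndex (ws V r) = Nat.card (ws V r) := by
      rw [← Subgroup.inf_relIndex_right, hbot, Subgroup.relIndex_bot_left]
    rw [← h4]
    calc (ws V r2 ⊓ ws V q2).relIndex (ws V r) ≤ (ws V r2).relIndex (ws V r) * (ws V q2).relIndex (ws V r) :=
          Subgroup.relIndex_inf_le
      _ ≤ 4 * 4 := Nat.mul_le_mul hi1 hi2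
      _ = 16 := rfl
  have h32 : 32 ≤ Nat.card (ws V r) := by
    refine card_pt hs h hpr.symm hrp ?_ ?_ (fun w hw => tt_fix hs h hc hpr hrp hw)
    · intro e
      exact hc.not_walk h (m := 1) (by norm_num) (by rw [e]; exact Walk.refl V 1 p)
    · intro e
      refine hc.not_walk h (m := 1) (by norm_num) (walk_one.mpr (Or.inr ?_))
      obtain ⟨h5, h6, h7, L, hL, hrL⟩ := hpr
      refine ⟨h5, hrp.2.1, ?_, L, hL, ?_⟩
      · rw [e]; intro e2
        exact h6 (mul_eq_right.mp e2.symm)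
      · rw [e]; exact mul_mem hrL hL.2
  omega

end seven

end Cfsg.Agent.MinSimple.OddTwoMain
end

-- part: MinSimple/OddTwo
section
/-!
# (E1)(b): the critical distance is not 2
-/

set_option autoImplicit false

namespace Cfsg.Agent.MinSimple.OddTwo

open Subgroup Cfsg Cfsg.Agent.ZN Cfsg.Agent.MinSimple.Geo Cfsg.Agent.MinSimple.BTwoA
  Cfsg.Agent.MinSimple.OddLine Cfsg.Agent.MinSimple.OddBase

universe u

variable {G : Type u} [Group G] [Finite G] {T V : Subgroup G} {z : G}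

theorem star (h : OddN T V z 2) : OddTwoRep.Star V z where
  s1 := fun hc h1 h2 _ ha _ hb => OddTwoStar.comm_cases h hc h1 h2 ha hb
  s2 := by
    intro x y hc a ha a' ha' hn hn'
    obtain ⟨p, h1, h2⟩ := OddTwoStar.exists_middle h hc
    exact OddTwoStar.index_two h hc h1 h2 ha ha' hn hn'
  s3a := by
    intro x m hc u hu a ha
    rcases OddTwoStar.tt_comm h hc ha hu with e | e
    · exact Or.inl e
    · right
      rw [e]
      exact ws_comm h.toOdd (hc.pt_left h.toGeo) ha hc.mem_ws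
  s3b := fun hc _ hu _ hu' hn hn' => OddTwoStar.tt_index_two h hc hu hu' hn hn'
  s3c := by
    intro x m hc
    obtain ⟨y, h1, h2⟩ := OddTwoStar.exists_crit h hc
    obtain ⟨_, _, a, ha, b, hb, hab⟩ := h2
    exact ⟨b, ws_le_tt h1.walk hb, fun hcon => hab (mem_centralizer_iff.mp hcon a ha)⟩

/-- **(E1)(b), `s = 2`** -/
theorem not_two (h : OddN T V z 2) : False := OddTwoMain.false_of_star h (star h)

end Cfsg.Agent.MinSimple.OddTwo
end

-- part: MinSimple/OddBeta
section
/-!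
# (E1)(b): the derived length argument, general form

Step (6) of helper424's row 4406 in the form of helper583's row 5033: there is no `Beta T V z`, i.e. it is
impossible that `dd V ≠ V`, `C_{ws V z}(kq V z) = ⟨z⟩` and, for `u ∈ dd V \ V`, the subgroup `ee V z u` generated by
`u` and the conjugates of `V` under `C_G(z) ∩ C_G(u)` is proper in `ws V z`, while `ee V z u` and `ee V z (u * v)`
generate `ws V z` (`v ∈ V \ ⟨z⟩`).
-/

set_option autoImplicit false
set_option linter.unusedSectionVars false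

namespace Cfsg.Agent.MinSimple.OddBeta

open Subgroup Cfsg Cfsg.Agent.ZN Cfsg.Agent.MinSimple.Geo Cfsg.Agent.MinSimple.BTwoA
  Cfsg.Agent.MinSimple.BTwoB Cfsg.Agent.MinSimple.OddLine
open Cfsg.Agent.MinSimple.ThompsonLineC (comm_iff_conj exists_core exists_dual)
open Cfsg.Agent.ZN.Block (conj_mem_of_normalizer conj_mem_of_normalizer' le_normalizer_of_forall
  mem_normalizer_of)

universe u

variable {G : Type u} [Group G]

/-- the subgroup generated by `u` and the conjugates of `V` under `C_G(q) ∩ C_G(u)` -/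
def ee (V : Subgroup G) (q u : G) : Subgroup G :=
  zpowers u ⊔ ⨆ j : ↥(centralizer ({q} : Set G) ⊓ centralizer ({u} : Set G)), cj (j : G) V

theorem mem_ee (V : Subgroup G) (q u : G) : u ∈ ee V q u :=
  (le_sup_left : zpowers u ≤ _) (mem_zpowers u)

theorem cj_le_ee {V : Subgroup G} {q u j : G} (h1 : j * q = q * j) (h2 : j * u = u * j) :
    cj j V ≤ ee V q u :=
  (le_iSup (fun j : ↥(centralizer ({q} : Set G) ⊓ centralizer ({u} : Set G)) => cj (j : G) V)
    ⟨j, mem_centralizer_singleton_iff.mpr h1, mem_centralizer_singleton_iff.mpr h2⟩).trans le_sup_right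

theorem le_ee (V : Subgroup G) (q u : G) : V ≤ ee V q u := by
  have := cj_le_ee (V := V) (q := q) (u := u) (j := 1) (by group) (by group)
  rwa [cj_one] at this

theorem ee_le {V X : Subgroup G} {q u : G} (hu : u ∈ X)
    (hX : ∀ j, j * q = q * j → j * u = u * j → cj j V ≤ X) : ee V q u ≤ X :=
  sup_le ((zpowers_le).mpr hu) (iSup_le fun j => hX j (mem_centralizer_singleton_iff.mp j.2.1)
    (mem_centralizer_singleton_iff.mp j.2.2))

theorem ee_mul_le {V : Subgroup G} {q u : G} (hq : q ∈ V) : ee V q (u * q) ≤ ee V q u := by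
  refine ee_le (mul_mem (mem_ee _ _ _) (le_ee _ _ _ hq)) (fun j h1 h2 => cj_le_ee h1 ?_)
  have h3 : j * u * q = u * j * q := by
    calc j * u * q = j * (u * q) := by rw [mul_assoc]
      _ = u * (q * j) := by rw [h2, mul_assoc]
      _ = u * j * q := by rw [← h1, ← mul_assoc]
  exact mul_right_cancel h3

theorem ee_mul {V : Subgroup G} {q u : G} (hq : q ∈ V) : ee V q (u * q) = ee V q u := by
  refine le_antisymm (ee_mul_le hq) ?_
  refine ee_le ?_ (fun j h1 h2 => cj_le_ee h1 ?_)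
  · have e : u = (u * q) * q⁻¹ := by group
    have h1 := mul_mem (mem_ee V q (u * q)) (inv_mem (le_ee V q (u * q) hq))
    rwa [← e] at h1
  · rw [← mul_assoc, h2, mul_assoc, h1, ← mul_assoc]

theorem cj_ee {V : Subgroup G} {g q u : G} (hg : g ∈ normalizer (V : Set G)) :
    cj g (ee V q u) ≤ ee V (g * q * g⁻¹) (g * u * g⁻¹) := by
  rw [cj_le_iff]
  refine ee_le ?_ (fun j h1 h2 => ?_)
  · rw [mem_cj, inv_inv]
    exact mem_ee _ _ _
  · rw [← cj_le_iff]
    have e : cj g (cj j V) = cj (g * j * g⁻¹) V := by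
      rw [cj_cj]
      conv_rhs => rw [← cj_eq_of_mem_normalizer hg, cj_cj]
      congr 1
      group
    rw [e]
    have key : ∀ x, j * x = x * j → g * j * g⁻¹ * (g * x * g⁻¹) = g * x * g⁻¹ * (g * j * g⁻¹) := by
      intro x hx
      calc g * j * g⁻¹ * (g * x * g⁻¹) = g * (j * x) * g⁻¹ := by group
        _ = g * (x * j) * g⁻¹ := by rw [hx]
        _ = _ := by group
    exact cj_le_ee (key q h1) (key u h2)

/-- The configuration of the derived length argument. -/
structure Beta (T V : Subgroup G) (z : G) : Prop extends _root_.Cfsg.Agent.MinSimple.OddLine.Odd T V z where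
  cent : ∀ w ∈ ws V z, (∀ k ∈ kq V z, k * w = w * k) → w ∈ zpowers z
  nt : ∃ u ∈ dd V, u ∉ V
  ne : ∀ u ∈ dd V, u ∉ V → ee V z u ≠ ws V z
  sup : ∀ u ∈ dd V, u ∉ V → ∀ v ∈ V, v ∉ zpowers z → ws V z ≤ ee V z u ⊔ ee V z (u * v)

namespace Beta

variable {T V : Subgroup G} {z : G} [Finite G]

theorem ann (h : Beta T V z) : ∀ w ∈ ws V z, (∀ k ∈ kq V z, k * w = w * k) → w = 1 ∨ w = z :=
  fun w hw hk => (mem_zpowers_iff_of_mul_self h.zz).mp (h.cent w hw hk)

/-- the annihilator condition at an arbitrary point of `V` -/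
theorem ann_move (h : Beta T V z) {g : G} (hg : g ∈ normalizer (V : Set G)) :
    _root_.Cfsg.Agent.MinSimple.OddLine.Odd (cj g T) V (g * z * g⁻¹) ∧ ∀ w ∈ ws V (g * z * g⁻¹),
      (∀ k ∈ kq V (g * z * g⁻¹), k * w = w * k) → w = 1 ∨ w = g * z * g⁻¹ := by
  refine ⟨?_, ?_⟩
  · have := h.toOdd.conj g
    rwa [cj_eq_of_mem_normalizer hg] at this
  · intro w hw hk
    rw [← cj_ws, mem_cj] at hw
    have h9 : ∀ k ∈ kq V z, k * (g⁻¹ * w * g) = g⁻¹ * w * g * k := by
      intro k hkk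
      have h1 : g * k * g⁻¹ ∈ kq V (g * z * g⁻¹) := by
        rw [← cj_kq]; exact conj_mem_cj hkk
      have h2 := hk _ h1
      calc k * (g⁻¹ * w * g) = g⁻¹ * (g * k * g⁻¹ * w) * g := by group
        _ = g⁻¹ * (w * (g * k * g⁻¹)) * g := by rw [h2]
        _ = g⁻¹ * w * g * k := by group
    rcases h.ann _ hw h9 with e | e
    · left
      calc w = g * (g⁻¹ * w * g) * g⁻¹ := by group
        _ = 1 := by rw [e]; group
    · right
      calc w = g * (g⁻¹ * w * g) * g⁻¹ := by group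
        _ = g * z * g⁻¹ := by rw [e]

end Beta

section Point

variable {T V : Subgroup G} {z : G} [Finite G]

/-- an element of `ws V z` commuting with `kq V z ∩ C(t)` -/
theorem mem_four (h : _root_.Cfsg.Agent.MinSimple.OddLine.Odd T V z)
    (hann : ∀ w ∈ ws V z, (∀ k ∈ kq V z, k * w = w * k) → w = 1 ∨ w = z) {t d : G} (ht : t ∈ ws V z)
    (hd : d ∈ ws V z) (hc : ∀ k ∈ kq V z, k * t = t * k → k * d = d * k) :
    (d = 1 ∨ d = z) ∨ d * t = 1 ∨ d * t = z := by
  have hzz := h.zz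
  by_cases hall : ∀ k ∈ kq V z, k * d = d * k
  · exact Or.inl (hann d hd hall)
  right
  push Not at hall
  obtain ⟨k₀, hk₀, hk₀d⟩ := hall
  have h0d : k₀ * d * k₀⁻¹ = z * d := by
    rcases kq_ws h.toGeo hk₀ hd with e | e
    · exact absurd (comm_iff_conj.mp e) hk₀d
    · exact e
  have h0t : k₀ * t * k₀⁻¹ = z * t := by
    rcases kq_ws h.toGeo hk₀ ht with e | e
    · exact absurd (hc k₀ hk₀ (comm_iff_conj.mp e)) hk₀d
    · exact e
  refine hann _ (mul_mem hd ht) (fun k hk => ?_)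
  rw [← comm_iff_conj]
  rcases kq_ws h.toGeo hk ht with e | e
  · have h1 := hc k hk (comm_iff_conj.mp e)
    calc k * (d * t) * k⁻¹ = (k * d * k⁻¹) * (k * t * k⁻¹) := by group
      _ = d * t := by rw [comm_iff_conj.mpr h1, e]
  · have h3 : (k₀⁻¹ * k) * t = t * (k₀⁻¹ * k) := by
      rw [← comm_iff_conj]
      have e1 : k₀⁻¹ * k * t * (k₀⁻¹ * k)⁻¹ = k₀⁻¹ * (k * t * k⁻¹) * k₀ := by group
      rw [e1, e, ← h0t]; group
    have h4 := hc _ (mul_mem (inv_mem hk₀) hk) h3
    have h5 : k * d * k⁻¹ = z * d := by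
      have e1 : k * d * k⁻¹ = k₀ * ((k₀⁻¹ * k) * d * (k₀⁻¹ * k)⁻¹) * k₀⁻¹ := by group
      rw [e1, comm_iff_conj.mpr h4, h0d]
    calc k * (d * t) * k⁻¹ = (k * d * k⁻¹) * (k * t * k⁻¹) := by group
      _ = (z * d) * (z * t) := by rw [h5, e]
      _ = (z * z) * (d * t) := by
        rw [mul_assoc, ← mul_assoc d z t, h.ab d hd z (h.V_le_ws h.z_mem)]; group
      _ = d * t := by rw [hzz, one_mul]

/-- the elements of `D` fixing `z` centralize `V` -/
theorem comm_V (h : _root_.Cfsg.Agent.MinSimple.OddLine.Odd T V z)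
    (hann : ∀ w ∈ ws V z, (∀ k ∈ kq V z, k * w = w * k) → w = 1 ∨ w = z) {t : G} (ht : t ∈ dd V)
    {D : Subgroup G} (_ : D ≤ centralizer ({t} : Set G))
    (hDn : centralizer ({t} : Set G) ≤ normalizer (D : Set G))
    (hD : ∀ g ∈ D, g ∈ normalizer (V : Set G) → g * z = z * g → g ∈ centralizer (V : Set G)) :
    ∀ g ∈ D, g * z = z * g → g ∈ centralizer (V : Set G) := by
  intro g hg hgz
  have hzz := h.zz
  have htw : t ∈ ws V z := h.dd_le_ws h.z_mem h.z_ne ht
  have htt : t * t = 1 := h.dd_sq ht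
  have hgc : g ∈ centralizer ({z} : Set G) := mem_centralizer_singleton_iff.mpr hgz
  have hgws := _root_.Cfsg.Agent.MinSimple.Geo.centralizer_le_normalizer_ws V z hgc
  -- `g v g⁻¹ ∈ {v, z v, t v, z t v}`
  have key : ∀ v ∈ V, g * v * g⁻¹ ∈ V ⊔ zpowers t := by
    intro v hv
    have hvw : v ∈ ws V z := h.V_le_ws hv
    set v' := g * v * g⁻¹ with hv'
    have hv'w : v' ∈ ws V z := (mem_normalizer_iff.mp hgws v).mp hvw
    have hcomm : ∀ k ∈ kq V z, k * t = t * k → k * (v * v') = v * v' * k := by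
      intro k hk hkt
      have hkJ : k ∈ centralizer ({t} : Set G) := mem_centralizer_singleton_iff.mpr hkt
      have heD : g⁻¹ * (k * g * k⁻¹) ∈ D := mul_mem (inv_mem hg) (conj_mem_of_normalizer hDn hkJ hg)
      have heK : (g⁻¹ * k * g) * k⁻¹ ∈ kq V z :=
        mul_mem (conj_mem_of_normalizer' (centralizer_le_normalizer_kq V z) hgc hk) (inv_mem hk)
      have hassoc : g⁻¹ * (k * g * k⁻¹) = (g⁻¹ * k * g) * k⁻¹ := by group
      rw [hassoc] at heD
      set e := (g⁻¹ * k * g) * k⁻¹ with he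
      have heV : e ∈ centralizer (V : Set G) :=
        hD e heD (kq_le_normalizer h.toGeo heK) (mem_centralizer_singleton_iff.mp (kq_le V z heK))
      have hev : e * v * e⁻¹ = v := comm_iff_conj.mpr (mem_centralizer_iff.mp heV v hv).symm
      have hez : e * z * e⁻¹ = z := comm_iff_conj.mpr (mem_centralizer_iff.mp heV z h.z_mem).symm
      have hgzc : g * z * g⁻¹ = z := comm_iff_conj.mpr hgz
      have hkv' : k * v' * k⁻¹ = g * (e * (k * v * k⁻¹) * e⁻¹) * g⁻¹ := by
        rw [hv', he]; group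
      rw [← comm_iff_conj]
      rcases kq_ws h.toGeo hk hvw with e1 | e1
      · have e2 : k * v' * k⁻¹ = v' := by rw [hkv', e1, hev]
        calc k * (v * v') * k⁻¹ = (k * v * k⁻¹) * (k * v' * k⁻¹) := by group
          _ = v * v' := by rw [e1, e2]
      · have e2 : k * v' * k⁻¹ = z * v' := by
          rw [hkv', e1]
          calc g * (e * (z * v) * e⁻¹) * g⁻¹ = g * ((e * z * e⁻¹) * (e * v * e⁻¹)) * g⁻¹ := by group
            _ = g * (z * v) * g⁻¹ := by rw [hez, hev]
            _ = (g * z * g⁻¹) * (g * v * g⁻¹) := by group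
            _ = z * v' := by rw [hgzc]
        calc k * (v * v') * k⁻¹ = (k * v * k⁻¹) * (k * v' * k⁻¹) := by group
          _ = (z * v) * (z * v') := by rw [e1, e2]
          _ = (z * z) * (v * v') := by
            rw [mul_assoc, ← mul_assoc v z v', h.ab v hvw z (h.V_le_ws h.z_mem)]; group
          _ = v * v' := by rw [hzz, one_mul]
    have hvv : v * v = 1 := h.sq v hv
    have hzS : z ∈ V ⊔ zpowers t := (le_sup_left : V ≤ _) h.z_mem
    have hvS : v ∈ V ⊔ zpowers t := (le_sup_left : V ≤ _) hv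
    have htS : t ∈ V ⊔ zpowers t := (le_sup_right : zpowers t ≤ _) (mem_zpowers t)
    have e1 : v' = v * (v * v') := by rw [← mul_assoc, hvv, one_mul]
    rcases mem_four h hann htw (mul_mem hvw hv'w) hcomm with (e | e) | e | e
    · rw [e1, e, mul_one]; exact hvS
    · rw [e1, e]; exact mul_mem hvS hzS
    · have e2 : v * v' = t := by
        rw [mul_eq_one_iff_eq_inv.mp e, inv_eq_self htt]
      rw [e1, e2]; exact mul_mem hvS htS
    · have e2 : v * v' = z * t := by rw [← e, mul_assoc, htt, mul_one]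
      rw [e1, e2]; exact mul_mem hvS (mul_mem hzS htS)
  have hcj : cj g V = V := by
    refine h.eq_of_le_sup ht ?_
    rintro _ ⟨v, hv, rfl⟩
    exact key v hv
  exact hD g hg (mem_normalizer_iff_cj.mpr hcj) hgz

/-- the elements of `D` fixing `z` centralize `ee V z t` -/
theorem comm_ee (h : _root_.Cfsg.Agent.MinSimple.OddLine.Odd T V z)
    (hann : ∀ w ∈ ws V z, (∀ k ∈ kq V z, k * w = w * k) → w = 1 ∨ w = z) {t : G} (ht : t ∈ dd V)
    {D : Subgroup G} (hDJ : D ≤ centralizer ({t} : Set G))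
    (hDn : centralizer ({t} : Set G) ≤ normalizer (D : Set G))
    (hD : ∀ g ∈ D, g ∈ normalizer (V : Set G) → g * z = z * g → g ∈ centralizer (V : Set G)) :
    ∀ g ∈ D, g * z = z * g → g ∈ centralizer (ee V z t : Set G) := by
  intro g hg hgz
  have hle : ee V z t ≤ centralizer ({g} : Set G) := by
    refine ee_le ?_ (fun j h1 h2 => ?_)
    · rw [mem_centralizer_singleton_iff]
      exact (mem_centralizer_singleton_iff.mp (hDJ hg)).symm
    · have hjJ : j ∈ centralizer ({t} : Set G) := mem_centralizer_singleton_iff.mpr h2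
      have hg' : j⁻¹ * g * j ∈ D := conj_mem_of_normalizer' hDn hjJ hg
      have hgz' : (j⁻¹ * g * j) * z = z * (j⁻¹ * g * j) := by
        rw [← comm_iff_conj]
        have hjz : j * z * j⁻¹ = z := comm_iff_conj.mpr h1
        have hjz' : j⁻¹ * z * j = z := by
          calc j⁻¹ * z * j = j⁻¹ * (j * z * j⁻¹) * j := by rw [hjz]
            _ = z := by group
        calc j⁻¹ * g * j * z * (j⁻¹ * g * j)⁻¹ = j⁻¹ * (g * (j * z * j⁻¹) * g⁻¹) * j := by group
          _ = z := by rw [hjz, comm_iff_conj.mpr hgz, hjz']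
      have hV := comm_V h hann ht hDJ hDn hD _ hg' hgz'
      rintro _ ⟨v, hv, rfl⟩
      rw [mem_centralizer_singleton_iff]
      change j * v * j⁻¹ * g = g * (j * v * j⁻¹)
      have h3 := mem_centralizer_iff.mp hV v hv
      calc j * v * j⁻¹ * g = j * (v * (j⁻¹ * g * j)) * j⁻¹ := by group
        _ = j * ((j⁻¹ * g * j) * v) * j⁻¹ := by rw [h3]
        _ = g * (j * v * j⁻¹) := by group
  rw [mem_centralizer_iff]
  intro x hx
  exact mem_centralizer_singleton_iff.mp (hle hx)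

end Point

namespace Beta

variable {T V : Subgroup G} {z : G} [Finite G]

/-- **the centralizer of `ee V q u` does not depend on the point `q` of `V`** -/
theorem cent_le (h : Beta T V z) {u : G} (hud : u ∈ dd V) (huV : u ∉ V) {q q' : G} (hq : q ∈ V)
    (hq1 : q ≠ 1) (hq' : q' ∈ V) (hq'1 : q' ≠ 1) :
    centralizer (ee V q u : Set G) ≤ centralizer (ee V q' u : Set G) := by
  obtain ⟨D, hDJ, hDn, hD, d, hd, hdn, hdm⟩ := exists_core h.toOdd hud huV
  have hdu : d * u = u * d := mem_centralizer_singleton_iff.mp (hDJ hd)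
  have hduu : d * u * d⁻¹ = u := comm_iff_conj.mpr hdu
  have hdV : ∀ {v : G}, v ∈ V → d⁻¹ * v * d ∈ V := by
    intro v hv
    have := (mem_normalizer_iff.mp (inv_mem hdn) v).mp hv
    rwa [inv_inv] at this
  have hdne : ∀ {v : G}, v ≠ 1 → d⁻¹ * v * d ≠ 1 := fun {v} hv e => hv (by
    have : v = d * (d⁻¹ * v * d) * d⁻¹ := by group
    rw [this, e]; group)
  have step : ∀ q ∈ V, q ≠ 1 →
      centralizer (ee V q u : Set G) ≤ centralizer (ee V (d⁻¹ * q * d) u : Set G) := by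
    intro q hq hq1 c hc
    have hcV : c ∈ centralizer (V : Set G) :=
      mem_centralizer_iff.mpr fun v hv => mem_centralizer_iff.mp hc v (le_ee V q u hv)
    have hcu : c * u = u * c := (mem_centralizer_iff.mp hc u (mem_ee V q u)).symm
    have hcJ : c ∈ centralizer ({u} : Set G) := mem_centralizer_singleton_iff.mpr hcu
    have h1 : d * (c * d⁻¹ * c⁻¹) ∈ D := mul_mem hd (conj_mem_of_normalizer hDn hcJ (inv_mem hd))
    have h2 : d * (c * d⁻¹ * c⁻¹) ∈ centralizer (V : Set G) := by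
      have e : d * (c * d⁻¹ * c⁻¹) = (d * c * d⁻¹) * c⁻¹ := by group
      rw [e]
      refine mul_mem ?_ (inv_mem hcV)
      rw [mem_centralizer_iff] at hcV ⊢
      intro v hv
      have h3 := hcV _ (hdV hv)
      calc v * (d * c * d⁻¹) = d * ((d⁻¹ * v * d) * c) * d⁻¹ := by group
        _ = d * (c * (d⁻¹ * v * d)) * d⁻¹ := by rw [h3]
        _ = d * c * d⁻¹ * v := by group
    have h3 : d * (c * d⁻¹ * c⁻¹) ∈ centralizer (ee V q u : Set G) := by
      obtain ⟨g, hg, rfl⟩ := h.trans q hq hq1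
      obtain ⟨ho, ha⟩ := h.ann_move hg
      exact comm_ee ho ha hud hDJ hDn (fun x hx hxn hxq => hD _ hq hq1 x hx hxn hxq) _ h1
        (mem_centralizer_iff.mp h2 _ hq).symm
    have h4 : d * c * d⁻¹ ∈ centralizer (ee V q u : Set G) := by
      have e : d * c * d⁻¹ = d * (c * d⁻¹ * c⁻¹) * c := by group
      rw [e]; exact mul_mem h3 hc
    rw [mem_centralizer_iff]
    intro x hx
    have h5 : d * x * d⁻¹ ∈ ee V q u := by
      have := cj_ee hdn (conj_mem_cj (g := d) hx)
      have e1 : d * (d⁻¹ * q * d) * d⁻¹ = q := by group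
      rwa [e1, hduu] at this
    have h6 := mem_centralizer_iff.mp h4 _ h5
    calc x * c = d⁻¹ * ((d * x * d⁻¹) * (d * c * d⁻¹)) * d := by group
      _ = d⁻¹ * ((d * c * d⁻¹) * (d * x * d⁻¹)) * d := by rw [h6]
      _ = c * x := by group
  obtain ⟨T', h'⟩ := h.toOdd.point hq hq1
  set! a := d⁻¹ * q * d with ha
  have haV : a ∈ V := hdV hq
  have ha1 : a ≠ 1 := hdne hq1
  have haq : a ≠ q := fun e => hdm q hq hq1 (by
    have : q = d * (d⁻¹ * q * d) * d⁻¹ := by group
    rw [← ha, e] at this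
    exact this.symm)
  set! b := d⁻¹ * a * d with hb
  have hbV : b ∈ V := hdV haV
  have hb1 : b ≠ 1 := hdne ha1
  have hba : b ≠ a := fun e => hdm a haV ha1 (by
    have : a = d * (d⁻¹ * a * d) * d⁻¹ := by group
    rw [← hb, e] at this
    exact this.symm)
  have hqa1 : q * a ≠ 1 := fun e => haq (by
    rw [← mul_right_inj q, e, h.sq q hq])
  have hbqa : b = q * a := by
    rcases h.four hq haV hq1 ha1 (Ne.symm haq) hbV with e | e | e | e
    · exact absurd e hb1
    · exfalso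
      apply hdm (q * a) (mul_mem hq haV) hqa1
      have e1 : d⁻¹ * (q * a) * d = q * a := by
        calc d⁻¹ * (q * a) * d = (d⁻¹ * q * d) * (d⁻¹ * a * d) := by group
          _ = a * b := by rw [← ha, ← hb]
          _ = a * q := by rw [e]
          _ = q * a := h.comm haV hq
      calc d * (q * a) * d⁻¹ = d * (d⁻¹ * (q * a) * d) * d⁻¹ := by rw [e1]
        _ = q * a := by group
    · exact absurd e hba
    · exact e
  have s1 := step q hq hq1
  have s2 := step a haV ha1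
  rw [← ha] at s1
  rw [← hb] at s2
  rcases h.four hq haV hq1 ha1 (Ne.symm haq) hq' with rfl | rfl | rfl | rfl
  · exact absurd rfl hq'1
  · exact le_rfl
  · exact s1
  · rw [← hbqa]; exact s1.trans s2

/-- **There is no `Beta`.** -/
theorem false (h : Beta T V z) : False := by
  obtain ⟨u, hud, huV⟩ := h.nt
  obtain ⟨q, hq, hq1, hqz⟩ := h.exists_y
  have hzV := h.z_mem
  have hzz := h.zz
  have hmemV : ∀ {a v : G}, a ∉ V → v ∈ V → a * v ∉ V := by
    intro a v ha hv hav
    apply ha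
    have e : a = a * v * v⁻¹ := by group
    rw [e]; exact mul_mem hav (inv_mem hv)
  have hd1 : u * z ∈ dd V := mul_mem hud (h.V_le_dd hzV)
  have hV1 : u * z ∉ V := hmemV huV hzV
  have hd2 : u * z * q ∈ dd V := mul_mem hd1 (h.V_le_dd hq)
  have hV2 : u * z * q ∉ V := hmemV hV1 hq
  have hR : centralizer (ee V z u : Set G) ≤ centralizer (ee V z (u * z * q) : Set G) := by
    rw [← ee_mul hzV]
    refine (h.cent_le hd1 hV1 hzV h.z_ne hq hq1).trans ?_
    rw [← ee_mul hq]
    exact h.cent_le hd2 hV2 hq hq1 hzV h.z_ne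
  have hv : z * q ∉ zpowers z := by
    intro hm
    rcases (mem_zpowers_iff_of_mul_self hzz).mp hm with e | e
    · exact hqz (by rw [mul_eq_one_iff_eq_inv.mp e, h.inv_eq hq])
    · exact hq1 (by simpa using e)
  have hsup := h.sup u hud huV (z * q) (mul_mem hzV hq) hv
  rw [← mul_assoc] at hsup
  have hAW : ee V z u ≤ ws V z := by
    refine ee_le (h.dd_le_ws hzV h.z_ne hud) (fun j h1 _ => ?_)
    exact le_ws (h.toGeo.cj_mem_lines (mem_centralizer_singleton_iff.mpr h1))
  obtain ⟨w, hw, hwA⟩ : ∃ w ∈ ws V z, w ∉ ee V z u := by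
    by_contra hcon
    push Not at hcon
    exact h.ne u hud huV (le_antisymm hAW hcon)
  have hKz : ∀ k ∈ kq V z, k * z = z * k := fun k hk => mem_centralizer_singleton_iff.mp (kq_le V z hk)
  obtain ⟨k, hk, hkA, hkw⟩ := exists_dual (W := ws V z) (K := kq V z) (z := z) h.ab
    (fun a ha => h.ws_sq ha) (h.V_le_ws h.z_mem) (fun k hk w hw => kq_ws h.toGeo hk hw) hKz h.ann
    hAW (le_ee V z u hzV) hw hwA
  have hk0 : k ∈ centralizer (ee V z u : Set G) :=
    mem_centralizer_iff.mpr fun a ha => (hkA a ha).symm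
  have hk1 := hR hk0
  have hle : ws V z ≤ centralizer ({k} : Set G) := by
    refine hsup.trans (sup_le ?_ ?_)
    · intro x hx
      exact mem_centralizer_singleton_iff.mpr (mem_centralizer_iff.mp hk0 x hx)
    · intro x hx
      exact mem_centralizer_singleton_iff.mpr (mem_centralizer_iff.mp hk1 x hx)
  have h5 := mem_centralizer_singleton_iff.mp (hle hw)
  rw [comm_iff_conj.mpr h5.symm] at hkw
  exact h.z_ne (by simpa using hkw.symm)

end Beta

end Cfsg.Agent.MinSimple.OddBeta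
end

-- part: MinSimple/ThompsonCount
section
/-!
# (E1)(b): the Thompson count

Step (4) of helper424's row 4406: `T` contains an elementary abelian subgroup `A` of maximal order with
`[V, A] ≠ 1`, and `ws V r`, `ws V s` commute for the points `r`, `s` of `V`.  Then for `r ≠ z`
`|ws V r| |A ∩ kq V r| ≤ |C_A(V)| |C_{dd V}(C_A(V))|`.
-/

set_option autoImplicit false
set_option linter.unusedSectionVars false

namespace Cfsg.Agent.MinSimple.ThompsonCount

open Subgroup Cfsg Cfsg.Agent.ZN Cfsg.Agent.MinSimple.Geo Cfsg.Agent.MinSimple.BTwoA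
  Cfsg.Agent.MinSimple.BTwoB Cfsg.Agent.MinSimple.OddLine
open Cfsg.Agent.MinSimple.ThompsonLineC (comm_iff_conj)
open Cfsg.Agent.ZN.Block (conj_mem_of_normalizer conj_mem_of_normalizer' le_normalizer_of_forall
  mem_normalizer_of card_sup_mul_card_inf)

universe u

variable {G : Type u} [Group G]

/-! ### general facts -/

theorem mem_sup_of_comm {X Y : Subgroup G} (hc : ∀ x ∈ X, ∀ y ∈ Y, x * y = y * x) {u : G}
    (hu : u ∈ X ⊔ Y) : ∃ x ∈ X, ∃ y ∈ Y, u = x * y := by
  let D : Subgroup G := {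
    carrier := {p | ∃ a ∈ X, ∃ b ∈ Y, p = a * b}
    one_mem' := ⟨1, one_mem _, 1, one_mem _, (one_mul 1).symm⟩
    mul_mem' := by
      rintro x y ⟨a, ha, b, hb, rfl⟩ ⟨c, hcX, d, hd, rfl⟩
      refine ⟨a * c, X.mul_mem ha hcX, b * d, Y.mul_mem hb hd, ?_⟩
      have e := hc c hcX b hb
      calc a * b * (c * d) = a * (b * c) * d := by group
        _ = a * (c * b) * d := by rw [e]
        _ = a * c * (b * d) := by group
    inv_mem' := by
      rintro x ⟨a, ha, b, hb, rfl⟩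
      refine ⟨a⁻¹, X.inv_mem ha, b⁻¹, Y.inv_mem hb, ?_⟩
      rw [hc a ha b hb, mul_inv_rev] }
  have hD0 : X ≤ D := fun x hx => ⟨x, hx, 1, one_mem _, (mul_one x).symm⟩
  have hD1 : Y ≤ D := fun x hx => ⟨1, one_mem _, x, hx, (one_mul x).symm⟩
  exact (sup_le hD0 hD1) hu

/-- elementary abelian 2-subgroups -/
def El (B : Subgroup G) : Prop := (∀ a ∈ B, ∀ b ∈ B, a * b = b * a) ∧ ∀ a ∈ B, a * a = 1

theorem El.sup {X Y : Subgroup G} (hX : El X) (hY : El Y) (hc : ∀ x ∈ X, ∀ y ∈ Y, x * y = y * x) :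
    El (X ⊔ Y) := by
  have key : ∀ {x y x' y' : G}, x ∈ X → y ∈ Y → x' ∈ X → y' ∈ Y →
      x * y * (x' * y') = x * x' * (y * y') := by
    intro x y x' y' hx hy hx' hy'
    calc x * y * (x' * y') = x * (y * x') * y' := by group
      _ = x * (x' * y) * y' := by rw [hc x' hx' y hy]
      _ = x * x' * (y * y') := by group
  constructor
  · intro a ha b hb
    obtain ⟨x, hx, y, hy, rfl⟩ := mem_sup_of_comm hc ha
    obtain ⟨x', hx', y', hy', rfl⟩ := mem_sup_of_comm hc hb
    rw [key hx hy hx' hy', key hx' hy' hx hy, hX.1 x hx x' hx', hY.1 y hy y' hy']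
  · intro a ha
    obtain ⟨x, hx, y, hy, rfl⟩ := mem_sup_of_comm hc ha
    rw [key hx hy hx hy, hX.2 x hx, hY.2 y hy, one_mul]

theorem le_normalizer_of_comm {X Y : Subgroup G} (hc : ∀ x ∈ X, ∀ y ∈ Y, x * y = y * x) :
    X ≤ normalizer (Y : Set G) := by
  refine le_normalizer_of_forall fun x hx y hy => ?_
  rw [comm_iff_conj.mpr (hc x hx y hy)]
  exact hy

theorem card_comm [Finite G] {X Y : Subgroup G} (hc : ∀ x ∈ X, ∀ y ∈ Y, x * y = y * x) :
    Nat.card ↥(X ⊔ Y) * Nat.card ↥(X ⊓ Y) = Nat.card X * Nat.card Y :=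
  card_sup_mul_card_inf (le_normalizer_of_comm hc)

theorem two_mul_card_le [Finite G] {X Y : Subgroup G} (h : X ≤ Y) {y : G} (hy : y ∈ Y) (hyX : y ∉ X) :
    2 * Nat.card X ≤ Nat.card Y := by
  obtain ⟨k, hk⟩ := card_dvd_of_le h
  have h1 : 0 < Nat.card Y := Nat.card_pos
  have hk0 : k ≠ 0 := by rintro rfl; omega
  have hk1 : k ≠ 1 := by
    rintro rfl
    rw [mul_one] at hk
    have := Subgroup.eq_of_le_of_card_ge h hk.le
    rw [this] at hyX
    exact hyX hy
  rw [hk, mul_comm]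
  exact Nat.mul_le_mul_left _ (by omega)

section Main

variable {T V : Subgroup G} {z : G} [Finite G]

theorem ws_le_T (h : _root_.Cfsg.Agent.MinSimple.OddLine.Odd T V z) {r : G} (hr : r ∈ V) (hr1 : r ≠ 1) : ws V r ≤ T := by
  obtain ⟨T', h'⟩ := h.point hr hr1
  have h1 : ws V r ≤ o2 (centralizer (V : Set G)) := by
    refine le_o2 (h.ws_le_centralizer_V hr hr1) (h'.two.to_le h'.ws_le_T) ?_
    refine le_trans ?_ (_root_.Cfsg.Agent.MinSimple.Geo.centralizer_le_normalizer_ws V r)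
    intro c hc
    exact mem_centralizer_singleton_iff.mpr (mem_centralizer_iff.mp hc r hr).symm
  have h2 : o2 (centralizer (V : Set G)) ≤ o2 (normalizer (V : Set G)) := by
    refine le_o2 ((o2_le _).trans (centralizer_le_normalizer _)) (isPGroup_o2 _) ?_
    refine le_trans ?_ (normalizer_le_normalizer_o2 _)
    refine le_normalizer_of_forall fun g hg c hc => ?_
    rw [mem_centralizer_iff] at hc ⊢
    intro v hv
    have hv' : g⁻¹ * v * g ∈ V := by
      have := (mem_normalizer_iff.mp (inv_mem hg) v).mp hv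
      rwa [inv_inv] at this
    have h3 := hc _ hv'
    calc v * (g * c * g⁻¹) = g * ((g⁻¹ * v * g) * c) * g⁻¹ := by group
      _ = g * (c * (g⁻¹ * v * g)) * g⁻¹ := by rw [h3]
      _ = g * c * g⁻¹ * v := by group
  exact (h1.trans h2).trans (o2_le_of_sylow h.T_norm h.two h.T_syl')

/-- an element commuting with `z` and another point of `V` centralizes `V` -/
theorem mem_cent (h : _root_.Cfsg.Agent.MinSimple.OddLine.Odd T V z) {x r : G} (hr : r ∈ V) (hr1 : r ≠ 1) (hrz : r ≠ z) (h1 : x * z = z * x)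
    (h2 : x * r = r * x) : x ∈ centralizer (V : Set G) := by
  rw [mem_centralizer_iff]
  intro v hv
  rcases h.four h.z_mem hr h.z_ne hr1 (Ne.symm hrz) hv with rfl | rfl | rfl | rfl
  · simp
  · exact h1.symm
  · exact h2.symm
  · rw [mul_assoc, ← h2, ← mul_assoc, ← h1, mul_assoc]

/-- **The Thompson count.** -/
theorem count (h : _root_.Cfsg.Agent.MinSimple.OddLine.Odd T V z) {A : Subgroup G} (hAT : A ≤ T) (hA : El A)
    (hmax : ∀ B ≤ T, El B → Nat.card B ≤ Nat.card A) (hAV : ¬ A ≤ centralizer (V : Set G))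
    (hcomm : ∀ r ∈ V, ∀ s ∈ V, r ≠ 1 → s ≠ 1 → ∀ a ∈ ws V r, ∀ b ∈ ws V s, a * b = b * a) {r : G}
    (hr : r ∈ V) (hr1 : r ≠ 1) (hrz : r ≠ z) :
    Nat.card (ws V r) * Nat.card ↥(A ⊓ kq V r) ≤ Nat.card ↥(A ⊓ centralizer (V : Set G)) *
      Nat.card ↥(dd V ⊓ centralizer ((A ⊓ centralizer (V : Set G) : Subgroup G) : Set G)) := by
  obtain ⟨a, ha, haV⟩ := Set.not_subset.mp hAV
  have hrr : r * r = 1 := h.sq r hr
  set! s := z * r with hs
  have hsV : s ∈ V := mul_mem h.z_mem hr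
  have hs1 : s ≠ 1 := fun e => hrz (by
    rw [hs, mul_eq_one_iff_eq_inv, h.inv_eq hr] at e; exact e.symm)
  have hrs : r ≠ s := fun e => h.z_ne (by
    rw [hs] at e
    exact (mul_eq_right.mp e.symm))
  have hss : s * s = 1 := h.sq s hsV
  have har : a * r * a⁻¹ = s := move h.toGeo (h.T_le (hAT ha)) (h.T_norm (hAT ha)) haV hr hr1 hrz
  obtain ⟨T₁, h₁⟩ := h.point hr hr1
  obtain ⟨T₂, h₂⟩ := h.point hsV hs1
  set W := ws V r with hW
  set! W' := ws V s with hW'
  set D := dd V with hD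
  have hcjW : cj a W = W' := by rw [hW, cj_ws, har]
  have hWW' : W ⊓ W' = D := h.inf_eq_dd hr hr1 hsV hs1 hrs
  have hDW : D ≤ W := hWW' ▸ inf_le_left
  have hDW' : D ≤ W' := hWW' ▸ inf_le_right
  have hWc : ∀ x ∈ W, ∀ y ∈ W', x * y = y * x := hcomm r hr s hsV hr1 hs1
  have hWel : El W := ⟨h₁.ab, fun x hx => h₁.ws_sq hx⟩
  have hW'el : El W' := ⟨h₂.ab, fun x hx => h₂.ws_sq hx⟩
  set A₀ := A ⊓ centralizer (V : Set G) with hA₀
  set AK := A ⊓ kq V r with hAK
  set! Y := W ⊔ W' with hY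
  have hYel : El Y := hWel.sup hW'el hWc
  have hYT : Y ≤ T := sup_le (ws_le_T h hr hr1) (ws_le_T h hsV hs1)
  -- (a) `|A| ≤ 2 |A₀|`
  have hcardA : Nat.card A ≤ 2 * Nat.card A₀ := by
    classical
    have hmem : ∀ b ∈ A, b ∉ centralizer (V : Set G) → a⁻¹ * b ∈ A₀ := by
      intro b hb hbV
      refine mem_inf.mpr ⟨A.mul_mem (A.inv_mem ha) hb, ?_⟩
      have hbr : b * r * b⁻¹ = s := move h.toGeo (h.T_le (hAT hb)) (h.T_norm (hAT hb)) hbV hr hr1 hrz
      have haz : a * z = z * a := mem_centralizer_singleton_iff.mp (h.T_le (hAT ha))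
      have hbz : b * z = z * b := mem_centralizer_singleton_iff.mp (h.T_le (hAT hb))
      refine mem_cent h hr hr1 hrz ?_ ?_
      · rw [← comm_iff_conj]
        calc a⁻¹ * b * z * (a⁻¹ * b)⁻¹ = a⁻¹ * (b * z * b⁻¹) * a := by group
          _ = a⁻¹ * (a * z * a⁻¹) * a := by rw [comm_iff_conj.mpr hbz, comm_iff_conj.mpr haz]
          _ = z := by group
      · rw [← comm_iff_conj]
        calc a⁻¹ * b * r * (a⁻¹ * b)⁻¹ = a⁻¹ * (b * r * b⁻¹) * a := by group
          _ = a⁻¹ * (a * r * a⁻¹) * a := by rw [hbr, har]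
          _ = r := by group
    let f : A → A₀ × Bool := fun b =>
      if hb : (b : G) ∈ centralizer (V : Set G) then (⟨b, b.2, hb⟩, true)
      else (⟨a⁻¹ * b, hmem b b.2 hb⟩, false)
    have hf : Function.Injective f := by
      intro b c hbc
      have h1 := congrArg Prod.snd hbc
      have h2 := congrArg (fun p => ((p.1 : A₀) : G)) hbc
      by_cases hb : (b : G) ∈ centralizer (V : Set G)
      · by_cases hc : (c : G) ∈ centralizer (V : Set G)
        · simp only [f, hb, hc, dite_true] at h2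
          exact Subtype.ext h2
        · simp only [f, hb, hc, dite_true, dite_false] at h1
          exact absurd h1 (by decide)
      · by_cases hc : (c : G) ∈ centralizer (V : Set G)
        · simp only [f, hb, hc, dite_true, dite_false] at h1
          exact absurd h1 (by decide)
        · simp only [f, hb, hc, dite_false] at h2
          exact Subtype.ext (mul_left_cancel h2)
    have := Nat.card_le_card_of_injective f hf
    rw [Nat.card_prod, Nat.card_eq_fintype_card (α := Bool), Fintype.card_bool] at this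
    omega
  -- (b) `AK` centralizes `D`
  have hKa : ∀ b ∈ AK, b ∈ kq V s := by
    intro b hb
    have h1 : a * b * a⁻¹ = b := comm_iff_conj.mpr (hA.1 a ha b hb.1)
    have h2 := conj_mem_cj (g := a) hb.2
    rw [cj_kq, har, h1] at h2
    exact h2
  have hKD : ∀ b ∈ AK, ∀ d ∈ D, b * d = d * b := by
    intro b hb d hd
    rcases h.kq_dd hr hr1 hb.2 hd with e | e
    · exact comm_iff_conj.mp e
    · rcases h.kq_dd hsV hs1 (hKa b hb) hd with e' | e'
      · exact comm_iff_conj.mp e'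
      · exfalso
        rw [e] at e'
        exact hrs (mul_right_cancel e')
  -- (c) Thompson
  have hThom : Nat.card Y * Nat.card ↥(A ⊓ centralizer (Y : Set G)) ≤
      Nat.card A * Nat.card ↥(Y ⊓ centralizer (A : Set G)) := by
    have hc : ∀ x ∈ Y, ∀ y ∈ A ⊓ centralizer (Y : Set G), x * y = y * x := fun x hx y hy =>
      mem_centralizer_iff.mp hy.2 x hx
    have hel : El (A ⊓ centralizer (Y : Set G)) :=
      ⟨fun x hx y hy => hA.1 x hx.1 y hy.1, fun x hx => hA.2 x hx.1⟩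
    have h1 := card_comm hc
    have h2 : Nat.card ↥(Y ⊔ (A ⊓ centralizer (Y : Set G))) ≤ Nat.card A :=
      hmax _ (sup_le hYT (inf_le_left.trans hAT)) (hYel.sup hel hc)
    have h3 : Nat.card ↥(Y ⊓ (A ⊓ centralizer (Y : Set G))) ≤ Nat.card ↥(Y ⊓ centralizer (A : Set G)) := by
      refine card_le_of_le (fun x hx => mem_inf.mpr ⟨hx.1, mem_centralizer_iff.mpr fun y hy => ?_⟩)
      exact hA.1 y hy x hx.2.1
    rw [← h1]
    exact Nat.mul_le_mul h2 h3
  -- (d)
  have hKW : Nat.card ↥(AK ⊓ centralizer (W : Set G)) ≤ Nat.card ↥(A ⊓ centralizer (Y : Set G)) := by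
    refine card_le_of_le (fun b hb => mem_inf.mpr ⟨hb.1.1, ?_⟩)
    have hbW := mem_centralizer_iff.mp hb.2
    rw [mem_centralizer_iff]
    have hbW' : ∀ x ∈ W', x * b = b * x := by
      intro x hx
      rw [← hcjW, mem_cj] at hx
      have h3 := hbW _ hx
      have h1 : a * b * a⁻¹ = b := comm_iff_conj.mpr (hA.1 a ha b hb.1.1)
      calc x * b = x * (a * b * a⁻¹) := by rw [h1]
        _ = a * ((a⁻¹ * x * a) * b) * a⁻¹ := by group
        _ = a * (b * (a⁻¹ * x * a)) * a⁻¹ := by rw [h3]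
        _ = (a * b * a⁻¹) * x := by group
        _ = b * x := by rw [h1]
    intro y hy
    obtain ⟨x, hx, x', hx', rfl⟩ := mem_sup_of_comm hWc hy
    rw [mul_assoc, hbW' x' hx', ← mul_assoc, hbW x hx, mul_assoc]
  -- (e) `|C_Y(A)| |D| ≤ |C_W(AK)| |C_D(A)|`
  have hCY : Nat.card ↥(Y ⊓ centralizer (A : Set G)) * Nat.card D ≤
      Nat.card ↥(W ⊓ centralizer (AK : Set G)) * Nat.card ↥(D ⊓ centralizer (A : Set G)) := by
    set CY := Y ⊓ centralizer (A : Set G) with hCYd
    set CW := W ⊓ centralizer (AK : Set G) with hCWd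
    have hYW' : ∀ x ∈ Y, ∀ y ∈ W', x * y = y * x := fun x hx y hy =>
      hYel.1 x hx y ((le_sup_right : W' ≤ Y) hy)
    have h1 := card_comm (X := CY) (Y := W') (fun x hx y hy => hYW' x hx.1 y hy)
    have h2 := card_comm (X := CW) (Y := W') (fun x hx y hy => hWc x hx.1 y hy)
    have h3 : CW ⊓ W' = D := by
      refine le_antisymm (fun x hx => ?_) (fun x hx => mem_inf.mpr ⟨mem_inf.mpr ⟨hDW hx,
        mem_centralizer_iff.mpr fun b hb => hKD b hb x hx⟩, hDW' hx⟩)
      rw [← hWW']; exact ⟨hx.1.1, hx.2⟩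
    have h4 : CY ⊓ W' ≤ D ⊓ centralizer (A : Set G) := by
      intro x hx
      refine mem_inf.mpr ⟨?_, hx.1.2⟩
      rw [← hWW']
      refine mem_inf.mpr ⟨?_, hx.2⟩
      have h5 : a⁻¹ * x * a = x := by
        have := mem_centralizer_iff.mp hx.1.2 a ha
        rw [mul_assoc, ← this]; group
      have h6 : x ∈ W' := hx.2
      rw [← hcjW, mem_cj, h5] at h6
      exact h6
    have h5 : CY ⊔ W' ≤ CW ⊔ W' := by
      refine sup_le ?_ le_sup_right
      intro y hy
      obtain ⟨w, hw, w', hw', rfl⟩ := mem_sup_of_comm hWc hy.1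
      refine mul_mem ((le_sup_left : CW ≤ _) (mem_inf.mpr ⟨hw, mem_centralizer_iff.mpr fun b hb => ?_⟩))
        ((le_sup_right : W' ≤ _) hw')
      have h6 : b * (w * w') * b⁻¹ = w * w' := comm_iff_conj.mpr (mem_centralizer_iff.mp hy.2 b hb.1)
      have h7 : b * (w * w') * b⁻¹ = (b * w * b⁻¹) * (b * w' * b⁻¹) := by group
      rw [h7] at h6
      rcases kq_ws h₁.toGeo hb.2 hw with e | e
      · exact comm_iff_conj.mp e
      · exfalso
        rw [e] at h6
        rcases kq_ws h₂.toGeo (hKa b hb) hw' with e' | e'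
        · rw [e', mul_assoc] at h6
          exact hr1 (mul_eq_right.mp h6)
        · rw [e'] at h6
          have h8 : r * w * (s * w') = (r * s) * (w * w') := by
            calc r * w * (s * w') = r * (w * s) * w' := by group
              _ = r * (s * w) * w' := by rw [hWc w hw s (h₂.V_le_ws hsV)]
              _ = (r * s) * (w * w') := by group
          rw [h8] at h6
          have h9 : r * s = 1 := mul_eq_right.mp h6
          exact hrs (by rw [mul_eq_one_iff_eq_inv.mp h9, inv_eq_self hss])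
    have h6 : Nat.card ↥(CY ⊔ W') ≤ Nat.card ↥(CW ⊔ W') := card_le_of_le h5
    have h7 : Nat.card ↥(CY ⊓ W') ≤ Nat.card ↥(D ⊓ centralizer (A : Set G)) := card_le_of_le h4
    rw [h3] at h2
    have hW'pos : 0 < Nat.card W' := Nat.card_pos
    refine Nat.le_of_mul_le_mul_right ?_ hW'pos
    calc Nat.card CY * Nat.card D * Nat.card W' = (Nat.card CY * Nat.card W') * Nat.card D := by ring
      _ = (Nat.card ↥(CY ⊔ W') * Nat.card ↥(CY ⊓ W')) * Nat.card D := by rw [h1]
      _ ≤ (Nat.card ↥(CW ⊔ W') * Nat.card ↥(D ⊓ centralizer (A : Set G))) * Nat.card D :=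
        Nat.mul_le_mul_right _ (Nat.mul_le_mul h6 h7)
      _ = (Nat.card ↥(CW ⊔ W') * Nat.card D) * Nat.card ↥(D ⊓ centralizer (A : Set G)) := by ring
      _ = (Nat.card CW * Nat.card W') * Nat.card ↥(D ⊓ centralizer (A : Set G)) := by rw [h2]
      _ = Nat.card CW * Nat.card ↥(D ⊓ centralizer (A : Set G)) * Nat.card W' := by ring
  -- (f) pairing
  have hpair : Nat.card ↥(AK ⊓ centralizer (W : Set G)) * Nat.card W =
      Nat.card AK * Nat.card ↥(W ⊓ centralizer (AK : Set G)) := by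
    refine BTwoD.pairing (z := r) hrr hr1 ?_ ?_ ?_
    · intro b hb
      exact (mem_centralizer_singleton_iff.mp (kq_le V r hb.2)).symm
    · intro w hw
      exact h₁.ab r (h₁.V_le_ws hr) w hw
    · intro b hb w hw
      rcases kq_ws h₁.toGeo hb.2 hw with e | e
      · exact Or.inl (comm_iff_conj.mp e)
      · right
        rw [mul_inv_eq_iff_eq_mul] at e
        rw [e, mul_assoc]
  -- (g)
  have hCD : 2 * Nat.card ↥(D ⊓ centralizer (A : Set G)) ≤
      Nat.card ↥(D ⊓ centralizer (A₀ : Set G)) := by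
    refine two_mul_card_le (y := r) ?_ ?_ ?_
    · intro x hx
      exact mem_inf.mpr ⟨hx.1, mem_centralizer_iff.mpr fun b hb => mem_centralizer_iff.mp hx.2 b hb.1⟩
    · exact mem_inf.mpr ⟨h.V_le_dd hr, mem_centralizer_iff.mpr fun b hb =>
        (mem_centralizer_iff.mp hb.2 r hr).symm⟩
    · intro hx
      have h1 := mem_centralizer_iff.mp hx.2 a ha
      rw [comm_iff_conj.mpr h1] at har
      exact hrs har
  -- the count
  have hcY : Nat.card Y * Nat.card D = Nat.card W * Nat.card W := by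
    have h1 := card_comm hWc
    rw [hWW'] at h1
    have h2 : Nat.card W' = Nat.card W := by rw [← hcjW, card_cj]
    rw [hY, h1, h2]
  have hpos : 0 < Nat.card ↥(W ⊓ centralizer (AK : Set G)) := Nat.card_pos
  refine Nat.le_of_mul_le_mul_right ?_ hpos
  calc Nat.card W * Nat.card AK * Nat.card ↥(W ⊓ centralizer (AK : Set G)) =
      Nat.card W * (Nat.card AK * Nat.card ↥(W ⊓ centralizer (AK : Set G))) := by ring
    _ = Nat.card W * (Nat.card ↥(AK ⊓ centralizer (W : Set G)) * Nat.card W) := by rw [hpair]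
    _ = (Nat.card W * Nat.card W) * Nat.card ↥(AK ⊓ centralizer (W : Set G)) := by ring
    _ = (Nat.card Y * Nat.card D) * Nat.card ↥(AK ⊓ centralizer (W : Set G)) := by rw [hcY]
    _ ≤ (Nat.card Y * Nat.card D) * Nat.card ↥(A ⊓ centralizer (Y : Set G)) :=
      Nat.mul_le_mul_left _ hKW
    _ = (Nat.card Y * Nat.card ↥(A ⊓ centralizer (Y : Set G))) * Nat.card D := by ring
    _ ≤ (Nat.card A * Nat.card ↥(Y ⊓ centralizer (A : Set G))) * Nat.card D :=
      Nat.mul_le_mul_right _ hThom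
    _ = Nat.card A * (Nat.card ↥(Y ⊓ centralizer (A : Set G)) * Nat.card D) := by ring
    _ ≤ (2 * Nat.card A₀) * (Nat.card ↥(W ⊓ centralizer (AK : Set G)) *
        Nat.card ↥(D ⊓ centralizer (A : Set G))) := Nat.mul_le_mul hcardA hCY
    _ = Nat.card A₀ * (2 * Nat.card ↥(D ⊓ centralizer (A : Set G))) *
        Nat.card ↥(W ⊓ centralizer (AK : Set G)) := by ring
    _ ≤ Nat.card A₀ * Nat.card ↥(D ⊓ centralizer (A₀ : Set G)) *
        Nat.card ↥(W ⊓ centralizer (AK : Set G)) :=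
      Nat.mul_le_mul_right _ (Nat.mul_le_mul_left _ hCD)

end Main

end Cfsg.Agent.MinSimple.ThompsonCount
end

-- part: MinSimple/ThompsonLine
section
/-!
# (E1)(b), row 4406: `n ≥ 2` and `[V, J(T)] ≠ 1` imply `|ws V z| = 8`

* `card_ws`: for an elementary abelian subgroup `A` of maximal order of `T` with `A ≰ C(V)`, provided that `ws V r`
  and `ws V s` commute for `r`, `s ∈ V`;
* `card_ws_of_jj`: for `OddN T V z n`, `2 ≤ n`, `¬ jj T ≤ C(V)`.
-/

set_option autoImplicit false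
set_option linter.unusedSectionVars false

namespace Cfsg.Agent.MinSimple.ThompsonLine

open Subgroup Cfsg Cfsg.Agent.ZN Cfsg.Agent.MinSimple.Geo Cfsg.Agent.MinSimple.BTwoA
  Cfsg.Agent.MinSimple.OddLine Cfsg.Agent.MinSimple.OddBase Cfsg.Agent.MinSimple.ThompsonCount

universe u

variable {G : Type u} [Group G] [Finite G] {T V : Subgroup G} {z : G} {n : ℕ}

theorem card_ws (h : _root_.Cfsg.Agent.MinSimple.OddLine.Odd T V z) {A : Subgroup G} (hAT : A ≤ T) (hA : El A)
    (hmax : ∀ B ≤ T, El B → Nat.card B ≤ Nat.card A) (hAV : ¬ A ≤ centralizer (V : Set G))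
    (hcomm : ∀ r ∈ V, ∀ s ∈ V, r ≠ 1 → s ≠ 1 → ∀ a ∈ ws V r, ∀ b ∈ ws V s, a * b = b * a) :
    Nat.card (ws V z) = 8 := by
  obtain ⟨r, hr, hr1, hrz⟩ := h.exists_y
  obtain ⟨g, hg, e, h1⟩ := h.toGeo.point hr hr1
  obtain ⟨T', h'⟩ := h.point hr hr1
  have hcnt := count h hAT hA hmax hAV hcomm hr hr1 hrz
  have hc : TvPoint.Cnt T' V r (A ⊓ centralizer (V : Set G)) :=
    { toOdd := h'
      A_le := inf_le_right
      A_sq := fun a ha => hA.2 a ha.1
      cnt := by
        refine (Nat.mul_le_mul_left _ (card_le_of_le ?_)).trans hcnt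
        exact inf_le_inf_right _ inf_le_left }
  have hcard : Nat.card (ws V z) = Nat.card (ws V r) := by
    rw [← e, ← cj_ws, card_cj]
  rcases hc.main h.z_mem h.z_ne (Ne.symm hrz) with h8 | ⟨h2, h3, h4, h5⟩
  · rw [hcard, h8]
  · exfalso
    refine OddBeta.Beta.false (T := T') (V := V) (z := r)
      { toOdd := h'
        cent := h2
        nt := h3
        ne := fun u hu huV => ?_
        sup := fun u hu huV v hv hvz => ?_ }
    · obtain ⟨P, hP, huP, hPj⟩ := h4 u hu huV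
      refine (lt_of_le_of_lt (OddBeta.ee_le huP fun j hj1 hj2 => hPj j ?_ ?_) hP).ne
      · exact mem_centralizer_singleton_iff.mpr hj1
      · exact mem_centralizer_singleton_iff.mpr hj2
    · refine h5 u hu huV v hv hvz _ (fun j hj1 hj2 => ?_) (fun j hj1 hj2 => ?_)
      · exact (OddBeta.cj_le_ee (mem_centralizer_singleton_iff.mp hj1)
          (mem_centralizer_singleton_iff.mp hj2)).trans le_sup_left
      · exact (OddBeta.cj_le_ee (mem_centralizer_singleton_iff.mp hj1)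
          (mem_centralizer_singleton_iff.mp hj2)).trans le_sup_right

/-- **Row 4406.** -/
theorem card_ws_of_jj (h : OddN T V z n) (hn : 2 ≤ n) (hJ : ¬ jj T ≤ centralizer (V : Set G)) :
    Nat.card (ws V z) = 8 := by
  obtain ⟨A, hA, hAV⟩ : ∃ A ∈ ChoiceBase.AA T, ¬ A ≤ centralizer (V : Set G) := by
    by_contra hcon
    push Not at hcon
    apply hJ
    rw [ChoiceBase.jj_eq]
    exact sSup_le hcon
  have hel : ∀ {B : Subgroup G}, IsElementaryAbelian 2 B ↔ El B := by
    intro B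
    rw [Cfsg.Agent.PLocal.ThompsonJ.isElementaryAbelian_iff]
    constructor
    · rintro ⟨h1, h2⟩
      exact ⟨h1, fun a ha => by rw [← pow_two]; exact h2 a ha⟩
    · rintro ⟨h1, h2⟩
      exact ⟨h1, fun a ha => by rw [pow_two]; exact h2 a ha⟩
  refine card_ws h.toOdd hA.2.1 (hel.mp hA.1) (fun B hB hB' => hA.2.2 B (hel.mpr hB') hB) hAV ?_
  intro r hr s hs hr1 hs1 a ha b hb
  have hzr : Pt z r := by
    obtain ⟨g, -, e, -⟩ := h.toGeo.point hr hr1
    exact ⟨g, e.symm⟩
  refine h.lt r s 1 (by omega) hzr ?_ a ha b hb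
  rw [walk_one]
  by_cases hrs : r = s
  · exact Or.inl hrs
  · exact Or.inr ⟨hr1, hs1, hrs, V, ⟨⟨1, (cj_one V).symm⟩, hr⟩, hs⟩

end Cfsg.Agent.MinSimple.ThompsonLine
end

-- part: MinSimple/OddOneZero
section
/-!
# (E1)(b), `n ≥ 3`: everything is Case 1

`exists_case_one`: for `n ≥ 3`, if the centralisers of the points are maximal 2-locals, there is a critical pair `(x, y)` with
`x ∉ ws V y` and `y ∉ ws V x`.
-/

set_option autoImplicit false
set_option linter.unusedSectionVars false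

namespace Cfsg.Agent.MinSimple.OddOneZero

open Subgroup Cfsg Cfsg.Agent.ZN Cfsg.Agent.MinSimple.Geo Cfsg.Agent.MinSimple.BTwoA
  Cfsg.Agent.MinSimple.OddLine Cfsg.Agent.MinSimple.OddBase Cfsg.Agent.MinSimple.SecRep
  Cfsg.Agent.MinSimple.OddRep Cfsg.Agent.MinSimple.OddThreeMod Cfsg.Agent.MinSimple.OddThreeM
open Cfsg.Agent.ZN.Block (conj_mem_of_normalizer conj_mem_of_normalizer' le_normalizer_of_forall
  mem_normalizer_of)

universe u

variable {G : Type u} [Group G] [Finite G] {T V : Subgroup G} {z : G} {n : ℕ}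

/-- `A` acts on `ws V q`, `w ∈ A` acts with `[ws V q, w] ≤ ⟨p⟩`, `p ∈ A`: some `b ∈ ws V q` moved by `w` satisfies
`[A, b] ≤ ⟨p, q⟩`. -/
theorem exists_b (h : _root_.Cfsg.Agent.MinSimple.OddLine.Odd T V z) {q : G} (hq : Pt z q) {A : Subgroup G}
    (hA : A ≤ centralizer ({q} : Set G)) (hsq : ∀ a ∈ A, a * a = 1) {w p : G} (hw : w ∈ A) (hp : p ∈ A)
    (hpq : p ∈ ws V q) (hwK : w ∉ kq V q)
    (hwp : ∀ b ∈ ws V q, w * b * w⁻¹ * b⁻¹ = 1 ∨ w * b * w⁻¹ * b⁻¹ = p) :
    ∃ b ∈ ws V q, b * w ≠ w * b ∧ ∀ u ∈ A, u * b * u⁻¹ * b⁻¹ = 1 ∨ u * b * u⁻¹ * b⁻¹ = q ∨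
      u * b * u⁻¹ * b⁻¹ = p ∨ u * b * u⁻¹ * b⁻¹ = q * p := by
  obtain ⟨M, X, _, _, _, ⟨R⟩⟩ := exists_rep h hq
  have : Finite M := R.finite_left
  have two := Rep.two h hq R
  obtain ⟨η, hηo, hη1, hinv, hall⟩ := exists_weight_rep h hq R hA hsq hw hwK
  have hwC := hA hw
  -- `π` of a commutator
  have hpi : ∀ c ∈ centralizer ({q} : Set G), ∀ v ∈ ws V q,
      R.pi (c * v * c⁻¹ * v⁻¹) = R.rho c • R.pi v + R.pi v := by
    intro c hc v hv
    rw [R.pi_mul _ (R.conj_mem hc hv) _ (inv_mem hv), R.pi_inv hv, OddRep.Rep.neg_eq h hq R,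
      R.smul_pi c hc v hv]
  have hw0 : ∀ m : M, R.rho w • m + m = 0 ∨ R.rho w • m + m = R.pi p := by
    intro m
    obtain ⟨b, hb, rfl⟩ := R.pi_surj m
    rw [← hpi w hwC b hb]
    rcases hwp b hb with e | e
    · left; rw [e, R.pi_one]
    · right; rw [e]
  have hup : ∀ u ∈ A, R.rho u • R.pi p = R.pi p := by
    intro u hu
    rw [R.smul_pi u (hA hu) p hpq, OddKHalf.comm_of_sq hsq hu hp, mul_inv_cancel_right]
  obtain ⟨m, hm, hwm⟩ : ∃ m ∈ rg M η, R.rho w • m ≠ m := by
    by_contra hcon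
    push Not at hcon
    exact hη1 (R.faithful η (fixed_of_inv two hηo hinv hcon))
  obtain ⟨b, hb, rfl⟩ := R.pi_surj m
  refine ⟨b, hb, fun e => hwm ?_, fun u hu => ?_⟩
  · rw [R.smul_pi w hwC b hb, ← e, mul_inv_cancel_right]
  · have huC := hA hu
    have hd : R.pi b + R.rho u • R.pi b ∈ rg M η := add_mem hm (smul_mem_rg two (hall u hu) hm)
    have hwb : R.rho w • R.pi b = R.pi b + R.pi p := by
      rcases hw0 (R.pi b) with e | e
      · exfalso
        apply hwm
        exact (add_eq_zero_iff_eq_neg.mp e).trans (OddRep.Rep.neg_eq h hq R _)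
      · rw [← e, add_comm (R.rho w • R.pi b), ← add_assoc, two, zero_add]
    have hfix : R.rho w • (R.pi b + R.rho u • R.pi b) = R.pi b + R.rho u • R.pi b := by
      have h4 : R.rho w • R.rho u • R.pi b = R.rho u • R.rho w • R.pi b := by
        rw [← mul_smul, ← mul_smul, ← R.rho_mul u huC w hwC, ← R.rho_mul w hwC u huC,
          OddKHalf.comm_of_sq hsq hu hw]
      rw [smul_add, h4, hwb, smul_add, hup u hu]
      rw [show R.pi b + R.pi p + (R.rho u • R.pi b + R.pi p) =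
        R.pi b + R.rho u • R.pi b + (R.pi p + R.pi p) by abel, two, add_zero]
    obtain ⟨m', -, hm'⟩ := exists_add_smul two hηo hinv hd hfix
    have h5 : R.pi (u * b * u⁻¹ * b⁻¹) = R.rho w • m' + m' := by
      rw [hpi u huC b hb, add_comm, hm', add_comm]
    have hmem : u * b * u⁻¹ * b⁻¹ ∈ ws V q := mul_mem (R.conj_mem huC hb) (inv_mem hb)
    rcases hw0 m' with e | e
    · rw [e, Rep.pi_eq_zero' h hq R hmem] at h5
      rcases h5 with h5 | h5
      · exact Or.inl h5
      · exact Or.inr (Or.inl h5)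
    · rw [e, Rep.pi_eq_pi h hq R hmem hpq] at h5
      rcases h5 with h5 | h5
      · exact Or.inr (Or.inr (Or.inl h5))
      · exact Or.inr (Or.inr (Or.inr h5))

theorem norm_of_map_le {K : Subgroup G} {g : G} (h : cj g K ≤ K) : g ∈ normalizer (K : Set G) :=
  mem_normalizer_iff_cj.mpr
    (eq_of_le_of_card_ge h (card_map_of_injective (MulAut.conj g).injective).ge)

/-- Not both `x ∈ ws V y` and `ws V x ≤ kq V y`, `ws V y ≤ kq V x`. -/
theorem comm_of_mem_kq (h : _root_.Cfsg.Agent.MinSimple.OddLine.Odd T V z) {x y a b : G} (hx : Pt z x) (hy : Pt z y) (hxy : x ≠ y)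
    (ha : a ∈ ws V x) (hb : b ∈ ws V y) (hak : a ∈ kq V y) (hbk : b ∈ kq V x) : a * b = b * a := by
  have h1 := hak.2.1 b hb
  have h2 := hbk.2.2 a ha
  have h3 := hbk.2.1 a ha
  rw [mem_zpowers_iff_of_mul_self (OddBase.Pt.sq h.toGeo hy)] at h1
  rw [mem_zpowers_iff_of_mul_self (OddBase.Pt.sq h.toGeo hx)] at h3
  have e1 : b * a * b⁻¹ * a⁻¹ = (a * b * a⁻¹ * b⁻¹)⁻¹ := by group
  have hyi : y⁻¹ = y := inv_eq_of_mul_eq_one_left (OddBase.Pt.sq h.toGeo hy)
  rcases h1 with e | e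
  · calc a * b = (a * b * a⁻¹ * b⁻¹) * (b * a) := by group
      _ = b * a := by rw [e, one_mul]
  · exfalso
    rw [e1, e, hyi] at h3
    rcases h3 with h3 | h3
    · exact OddBase.Pt.ne_one h.toGeo hy h3
    · exact hxy h3.symm

/-- **Everything is Case 1.** -/
theorem exists_case_one (h : OddN T V z n) (hn : 3 ≤ n) (hmax : Max1 z) :
    ∃ x y, Crit V z n x y ∧ x ∉ ws V y ∧ y ∉ ws V x := by
  by_contra hcon
  push Not at hcon
  obtain ⟨p, q, hc, hpq⟩ : ∃ p q, Crit V z n p q ∧ p ∈ ws V q := by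
    obtain ⟨x, y, hx⟩ := h.crit
    have hx : Crit V z n x y := hx
    by_cases hxy : x ∈ ws V y
    · exact ⟨x, y, hx, hxy⟩
    · exact ⟨y, x, hx.symm h.toOdd, hcon x y hx hxy⟩
  have hp : Pt z p := hc.pt
  have hq : Pt z q := hc.pt' h.toGeo
  have hpp := OddBase.Pt.sq h.toGeo hp
  have hp1 := OddBase.Pt.ne_one h.toGeo hp
  have hpq' : p ≠ q := fun e => hc.not_walk h (m := 0) (by omega) e
  have hM := le_kq h hn hmax hc hpq
  -- `w`
  obtain ⟨w, hpw, hwC⟩ := exists_col_notMem h.toOdd hp (K := centralizer (ws V q : Set G)) (by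
    intro hle
    obtain ⟨-, -, a, ha, b, hb, hab⟩ := hc
    exact hab (mem_centralizer_iff.mp (hle ha) b hb).symm)
  have hw : Pt z w := hpw.pt h.toGeo
  have hwp : w ∈ ws V p := hpw.mem_ws
  obtain ⟨a, ha, haw⟩ : ∃ a ∈ ws V q, a * w ≠ w * a := by
    by_contra hcon'
    push Not at hcon'
    exact hwC (mem_centralizer_iff.mpr hcon')
  -- elements of `ws V q` move `w` at most to `p * w`
  have hmove : ∀ b ∈ ws V q, b * w ≠ w * b → b * w * b⁻¹ = p * w := by
    intro b hb hbw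
    rcases (mem_zpowers_iff_of_mul_self hpp).mp ((hM hb).2.1 w hwp) with e | e
    · exfalso; apply hbw
      calc b * w = (b * w * b⁻¹ * w⁻¹) * (w * b) := by group
        _ = w * b := by rw [e, one_mul]
    · calc b * w * b⁻¹ = (b * w * b⁻¹ * w⁻¹) * w := by group
        _ = p * w := by rw [e]
  have hqp : ∀ b ∈ ws V q, b * p * b⁻¹ = p := by
    intro b hb
    rw [mem_centralizer_singleton_iff.mp (hc.ws_le_centralizer h hb)]
    group
  have hwK : w ∉ kq V q := fun hk =>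
    haw (comm_of_mem_kq h.toOdd hp hq hpq' hwp ha hk (hM ha)).symm
  -- the neighbour `r` of `q`
  obtain ⟨r, hqr, hrp⟩ := (hc.symm h.toOdd).head h
  have hr : Pt z r := hqr.pt h.toGeo
  have hrq : r ∈ ws V q := hqr.mem_ws
  have hqr' : q ∈ ws V r := hqr.symm.mem_ws
  have har : a * r * a⁻¹ = r := by
    rw [ws_comm h.toOdd hq ha hrq]; group
  -- `ws V w` and `ws V r` commute
  have hwr : ∀ u ∈ ws V w, ∀ b ∈ ws V r, u * b = b * u := by
    by_contra hcon'
    push Not at hcon'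
    obtain ⟨u, hu, b, hb, hub⟩ := hcon'
    have hn1 : n - 1 + 1 = n := by omega
    have hwalk : Walk V n w r := by
      have h1 := (hrp.trans hpw.walk).symm
      rwa [hn1] at h1
    have hcw : Crit V z n w r := ⟨hw, hwalk, u, hu, b, hb, hub⟩
    by_cases hwr : w ∈ ws V r
    · exact haw (h.lt q r 1 (by omega) hq hqr.walk a ha w hwr)
    · have hrw : r ∈ ws V w := hcon w r hcw hwr
      have h2 : r ∈ ws V (p * w) := by
        rw [← hmove a ha haw, ← cj_ws, ← har]
        exact conj_mem_cj hrw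
      have h3 : r ∈ ws V w ⊓ ws V (p * w) := ⟨hrw, h2⟩
      rw [← OddY.inf_eq_mul' h.toOdd hpw] at h3
      exact OddY.not_mem_head h (by omega) hcw hpw.symm (hrp.symm) hrw h3.1
  -- the group `W`
  have hpwC : Col V w (p * w) := by
    have := OddSmall.col_mul h.toOdd hpw.symm
    rwa [hpw.symm.mul_comm h.toOdd] at this
  set! U := tt V 1 w with hU
  have hUsq : ∀ a ∈ U, a * a = 1 := fun a ha => tt_sq h (by omega) hw ha
  set! W := ws V p ⊔ (ws V w ⊔ ws V (p * w)) with hW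
  have hpW : ws V p ≤ W := le_sup_left
  have hwW : ws V w ≤ W := le_sup_left.trans le_sup_right
  have hpwW : ws V (p * w) ≤ W := le_sup_right.trans le_sup_right
  have hWU : W ≤ U := sup_le (ws_le_tt hpw.symm.walk)
    (sup_le (ws_le_tt (Walk.refl V 1 w)) (ws_le_tt hpwC.walk))
  have hWr : W ≤ centralizer (ws V r : Set G) := by
    refine sup_le ?_ (sup_le ?_ ?_)
    · exact comm_of_walk h hr (by omega : n - 1 < n) hrp
    · intro u hu
      exact mem_centralizer_iff.mpr fun b hb => (hwr u hu b hb).symm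
    · intro u hu
      refine mem_centralizer_iff.mpr fun b hb => ?_
      rw [← hmove a ha haw, ← cj_ws, mem_cj] at hu
      have hb' : a⁻¹ * b * a ∈ ws V r := by
        have hb2 : b ∈ cj a (ws V r) := by rw [cj_ws, har]; exact hb
        exact mem_cj.mp hb2
      have h1 := hwr _ hu _ hb'
      calc b * u = a * ((a⁻¹ * b * a) * (a⁻¹ * u * a)) * a⁻¹ := by group
        _ = a * ((a⁻¹ * u * a) * (a⁻¹ * b * a)) * a⁻¹ := by rw [h1]
        _ = u * b := by group
  have hWq : W ≤ centralizer ({q} : Set G) := hWr.trans (centralizer_le (by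
    rintro _ rfl; exact hqr'))
  have hpmemW : p ∈ W := hpW (self_mem_ws h.toGeo hp)
  have hwmemW : w ∈ W := hpW hwp
  have hwpow : ∀ b ∈ ws V q, w * b * w⁻¹ * b⁻¹ = 1 ∨ w * b * w⁻¹ * b⁻¹ = p := by
    intro b hb
    by_cases hbw : b * w = w * b
    · left; rw [← hbw]; group
    · right
      have h1 := hmove b hb hbw
      have hwi : w⁻¹ = w := inv_eq_of_mul_eq_one_left (OddBase.Pt.sq h.toGeo hw)
      calc w * b * w⁻¹ * b⁻¹ = w * (b * w⁻¹ * b⁻¹) := by group
        _ = w * (b * w * b⁻¹)⁻¹ := by group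
        _ = p⁻¹ := by rw [h1]; group
        _ = p := inv_eq_of_mul_eq_one_left hpp
  -- `q ∈ W`
  have hqW : q ∈ W := by
    by_contra hqW
    obtain ⟨b, hb, hbw, hball⟩ := exists_b h.toOdd hq hWq (fun a ha => hUsq a (hWU ha)) hwmemW hpmemW
      hpq hwK hwpow
    have hbW : ∀ u ∈ ws V w, b * u * b⁻¹ ∈ W := by
      intro u hu
      have h1 : b * u * b⁻¹ ∈ ws V (b * w * b⁻¹) := by rw [← cj_ws]; exact conj_mem_cj hu
      rw [hmove b hb hbw] at h1
      exact hpwW h1
    have hcw : ∀ u ∈ ws V w, u * b * u⁻¹ * b⁻¹ ∈ ws V w := by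
      intro u hu
      have h1 : u * b * u⁻¹ * b⁻¹ ∈ W := by
        have e : u * b * u⁻¹ * b⁻¹ = u * (b * u⁻¹ * b⁻¹) := by group
        rw [e]; exact mul_mem (hwW hu) (hbW _ (inv_mem hu))
      rcases hball u (hwW hu) with e | e | e | e
      · rw [e]; exact one_mem _
      · exact absurd (e ▸ h1) hqW
      · rw [e]; exact hpw.symm.mem_ws
      · exfalso
        apply hqW
        rw [e] at h1
        have h2 := mul_mem h1 (inv_mem hpmemW)
        rwa [mul_inv_cancel_right] at h2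
    have hbn : b ∈ normalizer ((ws V w : Subgroup G) : Set G) := by
      refine norm_of_map_le ?_
      rintro _ ⟨u, hu, rfl⟩
      change b * u * b⁻¹ ∈ ws V w
      have e : b * u * b⁻¹ = (u * b * u⁻¹ * b⁻¹)⁻¹ * u := by group
      rw [e]; exact mul_mem (inv_mem (hcw u hu)) hu
    have h1 := hmax w hw (ws V w) (ws_isPGroup h.toOdd hw) (fun e => by
      have h2 := self_mem_ws h.toGeo hw
      rw [e, mem_bot] at h2
      exact OddBase.Pt.ne_one h.toGeo hw h2) (Geo.centralizer_le_normalizer_ws V w) hbn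
    exact hbw (mem_centralizer_singleton_iff.mp h1)
  -- the end
  have hpU := hWU hpmemW
  have hqU := hWU hqW
  have hwU := hWU hwmemW
  have hUq : U ≤ centralizer ({q} : Set G) := fun u hu => by
    rw [mem_centralizer_singleton_iff]
    exact tt_comm h (by omega) hw hu hqU
  obtain ⟨b, hb, hbw, hball⟩ := exists_b h.toOdd hq hUq hUsq hwU hpU hpq hwK hwpow
  have hbn : b ∈ normalizer ((U : Subgroup G) : Set G) := by
    refine norm_of_map_le ?_
    rintro _ ⟨u, hu, rfl⟩
    change b * u * b⁻¹ ∈ U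
    have e : b * u * b⁻¹ = (u * b * u⁻¹ * b⁻¹)⁻¹ * u := by group
    rw [e]
    refine mul_mem (inv_mem ?_) hu
    rcases hball u hu with e | e | e | e
    · rw [e]; exact one_mem _
    · rw [e]; exact hqU
    · rw [e]; exact hpU
    · rw [e]; exact mul_mem hqU hpU
  have h1 := hmax w hw U (tt_isPGroup h (by omega) hw) (fun e => by
      rw [e, mem_bot] at hwU
      exact OddBase.Pt.ne_one h.toGeo hw hwU) (centralizer_le_normalizer_tt 1 w) hbn
  exact hbw (mem_centralizer_singleton_iff.mp h1)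

end Cfsg.Agent.MinSimple.OddOneZero
end

-- part: MinSimple/OddSlide
section
/-!
# (E1)(b), `n ≥ 3`, Case 1: one step of the sliding
-/

set_option autoImplicit false
set_option linter.unusedSectionVars false

namespace Cfsg.Agent.MinSimple.OddSlide

open Subgroup Cfsg Cfsg.Agent.ZN Cfsg.Agent.MinSimple.Geo Cfsg.Agent.MinSimple.BTwoA
  Cfsg.Agent.MinSimple.OddLine Cfsg.Agent.MinSimple.OddBase Cfsg.Agent.MinSimple.OddPair
  Cfsg.Agent.MinSimple.OddRep Cfsg.Agent.MinSimple.OddTwoRep Cfsg.Agent.MinSimple.OddTwoWeight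
open Cfsg.Agent.MinSimple.TvMod (Ctx Tv)

universe u

/-! ### the module lemma -/

section mod

variable {M : Type*} [CommGroup M] {J F : Subgroup (MulAut M)} {τ σ θ : MulAut M} {r c : M}

theorem sep_mod (h : _root_.Cfsg.Agent.MinSimple.TvMod.Ctx J F) (hτ : τ ∈ J) (hσ : σ ∈ J) (hθ : θ ∈ J) (tτ : Tv τ r) (tσ : Tv σ c)
    (hne : c ≠ r) (hσr : σ r = r) (hmove : τ (θ r) ≠ θ r) (hcase : θ c = c ∨ θ (r * c) = r * c)
    (hyp : σ (θ r) = θ r * c) : False := by
  have hτc : τ c = c := h.symm_fix hσ hτ tσ tτ hσr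
  have tσ' := tσ.conj θ
  have tτ' := tτ.conj θ
  have hσ'J : θ * σ * θ⁻¹ ∈ J := mul_mem (mul_mem hθ hσ) (inv_mem hθ)
  have hτ'J : θ * τ * θ⁻¹ ∈ J := mul_mem (mul_mem hθ hτ) (inv_mem hθ)
  rcases hcase with e | e
  · rw [e] at tσ'
    have h1 : θ * σ * θ⁻¹ = σ := h.uc hσ'J hσ tσ' tσ
    have h2 : σ (θ r) = θ r := by
      have h3 : (θ * σ * θ⁻¹) (θ r) = θ r := by
        rw [MulAut.mul_apply, MulAut.mul_apply, MulAut.inv_apply_self, hσr]
      rwa [h1] at h3
    rw [h2] at hyp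
    exact tσ.1 (by simpa using hyp.symm)
  · have hm1 : τ (θ r) = θ r * r := (tτ.2.2.1 _).resolve_left hmove
    have hc : θ c = θ r * (r * c) := by
      have h1 : θ r * θ c = r * c := by rw [← map_mul, e]
      calc θ c = (θ r * θ r) * θ c := by rw [h.sq, one_mul]
        _ = θ r * (r * c) := by rw [mul_assoc, h1]
    have hm2 : τ (θ c) = θ c * r := by
      rw [hc, map_mul, map_mul, hm1, hτc, tτ.2.1]
      ac_rfl
    obtain ⟨U, hU, hrU⟩ := h.exists_of_cen hτ tτ
    have h1 : θ r ∈ U := by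
      refine h.mem_of_move hU hrU hτ'J tτ' ?_
      rw [h.symm_move hτ hτ'J tτ tτ' hm1]
      exact fun e => tτ'.1 (by simpa using e)
    have h2 : θ c ∈ U := by
      refine h.mem_of_move hU hrU hσ'J tσ' ?_
      rw [h.symm_move hτ hσ'J tτ tσ' hm2]
      exact fun e => tσ'.1 (by simpa using e)
    have h3 : c ∈ U := by
      have h4 : r * (θ r * θ c) = c := by
        have h1 : θ r * θ c = r * c := by rw [← map_mul, e]
        rw [h1, ← mul_assoc, h.sq, one_mul]
      rw [← h4]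
      exact mul_mem hrU (mul_mem h1 h2)
    have h5 := h.blk_smul hU hrU hτ tτ h3 tσ.1 hne
    rw [hτc] at h5
    exact tτ.1 (by simpa using h5.symm)

end mod

variable {G : Type u} [Group G] [Finite G] {T V : Subgroup G} {z : G}

/-! ### the module at a point -/

section rep

variable {M X : Type u} [AddCommGroup M] [Group X] [DistribMulAction X M] {x : G}

theorem exists_ctx_rep (h : _root_.Cfsg.Agent.MinSimple.OddLine.Odd T V z) (hx : Pt z x) (R : _root_.Cfsg.Agent.MinSimple.OddRep.Rep V x M X) :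
    ∃ F, _root_.Cfsg.Agent.MinSimple.TvMod.Ctx (_root_.Cfsg.Agent.MinSimple.OddTwoRep.act M X).range F := by
  obtain ⟨g, -, h1⟩ := exists_odd h hx
  have R' : _root_.Cfsg.Agent.MinSimple.OddRep.Rep (cj g V) x M X := by
    have e : ws (cj g V) x = ws V x := ws_cj V g x
    unfold OddRep.Rep
    rw [e]
    exact R
  exact TvPoint.exists_ctx_rep h1 R'

/-- the transvection induced by `g` -/
theorem tv_of (h : _root_.Cfsg.Agent.MinSimple.OddLine.Odd T V z) (hx : Pt z x) (R : _root_.Cfsg.Agent.MinSimple.OddRep.Rep V x M X) {g c : G}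
    (hg : g ∈ centralizer ({x} : Set G)) (hc : c ∈ ws V x)
    (hgc : ∀ a ∈ ws V x, g * a * g⁻¹ = a ∨ g * a * g⁻¹ = c * a) (hcc : g * c = c * g)
    (hc1 : c ≠ 1) (hcx : c ≠ x) {a : G} (ha : a ∈ ws V x) (hga : g * a ≠ a * g) :
    Tv (_root_.Cfsg.Agent.MinSimple.OddTwoRep.act M X (R.rho g)) (ve R c) := by
  have h1 : ve R 1 = 1 := by
    unfold ve; rw [R.pi_one]; rfl
  have hc' : ve R c ≠ 1 := by
    rw [← h1, Ne, ve_eq h hx R hc (one_mem _), mul_one]
    rintro (e | e)
    · exact hc1 e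
    · exact hcx e
  refine ⟨hc', ?_, fun m => ?_, ve R a, ?_⟩
  · rw [act_ve R hg hc, hcc, mul_inv_cancel_right]
  · obtain ⟨b, hb, rfl⟩ := ve_surj R m
    rw [act_ve R hg hb]
    rcases hgc b hb with e | e
    · left; rw [e]
    · right; rw [e, ve_mul R hc hb, mul_comm]
  · rw [act_ve R hg ha]
    rcases hgc a ha with e | e
    · exact absurd (mul_inv_eq_iff_eq_mul.mp e) hga
    · rw [e, ve_mul R hc ha]
      exact fun e' => hc' (mul_eq_right.mp e')

end rep

section sep

variable {x y p q t w s : G}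

theorem tr_t_ne (hT : Tr T V z x y t) : t ≠ x := fun e => hT.rd (e ▸ hT.t_memd)

/-- `w` moves `s t s⁻¹` -/
theorem move_conj (hT : Tr T V z x y t) (hw : w ∈ ws V y) (hS : Side V x w t s) :
    w * (s * t * s⁻¹) ≠ s * t * s⁻¹ * w := fun e => hS.t_ne hT
  (conj_eq_iff_comm.mp (hS.uniq hT hw (hS.four.uu_conj hS.t_mem) (conj_ne_one hT.t_ne) e))

/-- `w` moves `t` nowhere and `s t s⁻¹` to `t s t s⁻¹`, so it is a transvection -/
theorem tv_w (h : _root_.Cfsg.Agent.MinSimple.OddLine.Odd T V z) (hT : Tr T V z x y t) (hw : w ∈ ws V y) (hS : Side V x w t s)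
    {M X : Type u} [AddCommGroup M] [Group X] [DistribMulAction X M] (R : _root_.Cfsg.Agent.MinSimple.OddRep.Rep V x M X) :
    Tv (_root_.Cfsg.Agent.MinSimple.OddTwoRep.act M X (R.rho w)) (ve R t) := by
  refine tv_of h hT.ptr R (hT.cr hw) hT.t_memr (fun a ha => ?_) (hT.comm_t hw) hT.t_ne (tr_t_ne hT)
    (hS.four.uu_le (hS.four.uu_conj hS.t_mem)) (move_conj hT hw hS)
  rcases hT.conj_cases hw ha with e | e
  · left; rw [e, mul_inv_cancel_right]
  · right; rw [e, hT.comm_t' ha]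

theorem sep (h : _root_.Cfsg.Agent.MinSimple.OddLine.Odd T V z) (hT : Tr T V z x y t) (hw : w ∈ ws V y) (hS : Side V x w t s)
    (hp : p ∈ ws V x) (hsp : s * (t * p) = t * p * s) (hq : q = s * p * s⁻¹) {g c : G}
    (hg : g ∈ centralizer ({x} : Set G)) (hc : c ∈ ws V x)
    (hgc : ∀ a ∈ ws V x, g * a * g⁻¹ = a ∨ g * a * g⁻¹ = c * a) (hcc : g * c = c * g)
    (hgt : g * t = t * g) (hc1 : c ≠ 1) (hcx : c ≠ x) (hct : c ≠ t) (hcxt : c ≠ x * t)
    (hgq : g * q = q * g) : g * p = p * g := by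
  by_contra hgp
  have hx := hT.ptr
  obtain ⟨M, X, _, _, _, ⟨R⟩⟩ := exists_rep h hx
  obtain ⟨F, hF⟩ := exists_ctx_rep h hx R
  have hxw := self_mem_ws h.toGeo hx
  have tτ := tv_w h hT hw hS R
  have tσ := tv_of h hx R hg hc hgc hcc hc1 hcx hp hgp
  have htt := hT.tt_sq
  have htx := tr_t_ne hT
  have hst := hS.four.uu_le (hS.four.uu_conj hS.t_mem)
  have hne : ve R c ≠ ve R t := by
    rw [Ne, ve_eq h hx R hc hT.t_memr]
    rintro (e | e)
    · exact hct e
    · exact hcxt e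
  have hσt : _root_.Cfsg.Agent.MinSimple.OddTwoRep.act M X (R.rho g) (ve R t) = ve R t := by
    rw [act_ve R hg hT.t_memr, hgt, mul_inv_cancel_right]
  have hθr : _root_.Cfsg.Agent.MinSimple.OddTwoRep.act M X (R.rho s) (ve R t) = ve R (s * t * s⁻¹) := act_ve R hS.mem hT.t_memr
  have hθc : _root_.Cfsg.Agent.MinSimple.OddTwoRep.act M X (R.rho s) (ve R c) = ve R (s * c * s⁻¹) := act_ve R hS.mem hc
  have hτc := hF.symm_fix ⟨_, rfl⟩ ⟨_, rfl⟩ tσ tτ hσt
  -- `w` commutes with `c`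
  have hwc : w * c = c * w := by
    by_contra hwc
    have e := hT.conj_eq hw hc hwc
    rw [act_ve R (hT.cr hw) hc, e, ve_mul R hc hT.t_memr] at hτc
    exact tτ.1 (mul_eq_left.mp hτc)
  -- the action of `g` on `s t s⁻¹`
  have hgp' : g * p * g⁻¹ = c * p := (hgc p hp).resolve_left fun e => hgp (mul_inv_eq_iff_eq_mul.mp e)
  have hcp : c * p = p * c := OddBase.ws_comm h hx hc hp
  have hpp := OddBase.ws_sq h hx hp
  have hq2 : q = s * t * s⁻¹ * (t * p) := by
    have e1 : s * (t * p) * s⁻¹ = t * p := conj_eq_iff_comm.mpr hsp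
    calc q = s * p * s⁻¹ := hq
      _ = s * (t * t) * p * s⁻¹ := by rw [htt]; group
      _ = s * t * s⁻¹ * (s * (t * p) * s⁻¹) := by group
      _ = s * t * s⁻¹ * (t * p) := by rw [e1]
  have hgst : g * (s * t * s⁻¹) * g⁻¹ = s * t * s⁻¹ * c := by
    have e1 : g * (t * p) * g⁻¹ = t * p * c := by
      calc g * (t * p) * g⁻¹ = (g * t * g⁻¹) * (g * p * g⁻¹) := by group
        _ = t * (c * p) := by rw [hgp', conj_eq_iff_comm.mpr hgt]
        _ = t * p * c := by rw [hcp, mul_assoc]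
    have e2 : g * (s * t * s⁻¹) * g⁻¹ * (g * (t * p) * g⁻¹) = s * t * s⁻¹ * (t * p) := by
      calc g * (s * t * s⁻¹) * g⁻¹ * (g * (t * p) * g⁻¹) = g * (s * t * s⁻¹ * (t * p)) * g⁻¹ := by group
        _ = s * t * s⁻¹ * (t * p) := by rw [← hq2]; exact conj_eq_iff_comm.mpr hgq
    rw [e1] at e2
    have e3 : g * (s * t * s⁻¹) * g⁻¹ = s * t * s⁻¹ * (t * p) * (t * p * c)⁻¹ := eq_mul_inv_of_mul_eq e2
    have hci : c⁻¹ = c := OddBase.ws_inv h hx hc
    rw [e3, mul_inv_rev, hci]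
    have e4 : t * p * c = c * (t * p) := OddBase.ws_comm h hx (mul_mem hT.t_memr hp) hc
    calc s * t * s⁻¹ * (t * p) * (c * (t * p)⁻¹) = s * t * s⁻¹ * (t * p * c) * (t * p)⁻¹ := by group
      _ = s * t * s⁻¹ * c := by rw [e4]; group
  refine sep_mod hF ⟨_, rfl⟩ ⟨_, rfl⟩ (θ := _root_.Cfsg.Agent.MinSimple.OddTwoRep.act M X (R.rho s)) ⟨_, rfl⟩ tτ tσ hne hσt ?_ ?_ ?_
  · rw [hθr, act_ve R (hT.cr hw) hst]
    have e := hT.conj_eq hw hst (move_conj hT hw hS)
    rw [e, ve_mul R hst hT.t_memr]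
    exact fun e' => tτ.1 (mul_eq_left.mp e')
  · rcases hS.comm_cases hT hw hc hwc with e | e
    · left; rw [hθc, conj_eq_iff_comm.mpr e]
    · right
      rw [← ve_mul R hT.t_memr hc, act_ve R hS.mem (mul_mem hT.t_memr hc), conj_eq_iff_comm.mpr e]
  · rw [hθr, act_ve R hg hst, hgst, ve_mul R hst hc]

end sep

/-! ### the element `w` -/

section ctl

variable {x y t : G}

end ctl

/-! ### the new pair -/

section step

variable {m : ℕ} {x y p y' q t w s : G}

/-- the hypotheses of one step -/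
structure Pre (T V : Subgroup G) (z : G) (m : ℕ) (x y p y' t s w : G) : Prop where
  odd : OddN T V z (m + 1)
  two : 2 ≤ m
  crit : Crit V z (m + 1) x y
  xp : Col V x p
  py' : Walk V (m - 1) p y'
  y'y : Col V y' y
  tr : Tr T V z x y t
  w_mem : w ∈ ws V y
  w_not : w ∉ centralizer (ws V x : Set G)
  side : Side V x w t s

namespace Pre

theorem ptp (h : Pre T V z m x y p y' t s w) : Pt z p := h.xp.pt h.odd.toGeo

theorem pty' (h : Pre T V z m x y p y' t s w) : Pt z y' := h.y'y.pt_left h.odd.toGeo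

theorem walk (h : Pre T V z m x y p y' t s w) : Walk V m p y := by
  have h1 := h.py'.step h.y'y
  have e : m - 1 + 1 = m := Nat.sub_add_cancel (le_trans (by norm_num) h.two)
  rwa [e] at h1

/-- `ws V y` and `ws V p` commute -/
theorem comm_p (h : Pre T V z m x y p y' t s w) {a b : G} (ha : a ∈ ws V y) (hb : b ∈ ws V p) :
    a * b = b * a :=
  (h.odd.lt p y m (Nat.lt_succ_self m) h.ptp h.walk b hb a ha).symm

/-- `ws V y` and `ws V y'` commute -/
theorem comm_y' (h : Pre T V z m x y p y' t s w) {a b : G} (ha : a ∈ ws V y) (hb : b ∈ ws V y') :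
    a * b = b * a :=
  (h.odd.lt y' y 1 (by have := h.two; omega) h.pty' h.y'y.walk b hb a ha).symm

theorem s_x (h : Pre T V z m x y p y' t s w) : s * x * s⁻¹ = x := by
  have := mem_centralizer_singleton_iff.mp h.side.mem
  rw [this, mul_inv_cancel_right]

theorem sp (h : Pre T V z m x y p y' t s w) : s * (t * p) = t * p * s :=
  h.side.comm_tp h.odd h.tr h.ptp h.xp.mem_ws (Nat.lt_succ_self m) h.walk h.w_mem

theorem xq (h : Pre T V z m x y p y' t s w) : Col V x (s * p * s⁻¹) := by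
  have := h.xp.conj s
  rwa [h.s_x] at this

theorem ptq (h : Pre T V z m x y p y' t s w) : Pt z (s * p * s⁻¹) := h.ptp.conj s

theorem q_eq (h : Pre T V z m x y p y' t s w) : s * p * s⁻¹ = s * t * s⁻¹ * (t * p) := by
  have e1 : s * (t * p) * s⁻¹ = t * p := conj_eq_iff_comm.mpr h.sp
  calc s * p * s⁻¹ = s * (t * t) * p * s⁻¹ := by rw [h.tr.tt_sq]; group
    _ = s * t * s⁻¹ * (s * (t * p) * s⁻¹) := by group
    _ = s * t * s⁻¹ * (t * p) := by rw [e1]

theorem w_tp (h : Pre T V z m x y p y' t s w) : w * (t * p) = t * p * w := by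
  have e1 := h.tr.comm_t h.w_mem
  have e2 := h.comm_p h.w_mem (self_mem_ws h.odd.toGeo h.ptp)
  calc w * (t * p) = (w * t) * p := by group
    _ = t * (w * p) := by rw [e1]; group
    _ = t * p * w := by rw [e2]; group

theorem wq (h : Pre T V z m x y p y' t s w) : w * (s * p * s⁻¹) ≠ s * p * s⁻¹ * w := by
  intro e
  rw [h.q_eq] at e
  apply move_conj h.tr h.w_mem h.side
  have c1 : Commute w (s * t * s⁻¹ * (t * p)) := e
  have c2 : Commute w (t * p) := h.w_tp
  have c3 := c1.mul_right c2.inv_right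
  rw [mul_inv_cancel_right] at c3
  exact c3.eq

/-- `w q w⁻¹ = t q` -/
theorem w_conj_q (h : Pre T V z m x y p y' t s w) : w * (s * p * s⁻¹) * w⁻¹ = s * p * s⁻¹ * t :=
  h.tr.conj_eq h.w_mem h.xq.mem_ws h.wq

/-- `s w s⁻¹` centralizes `ws V q` -/
theorem conj_w_comm (h : Pre T V z m x y p y' t s w) {b : G} (hb : b ∈ ws V (s * p * s⁻¹)) :
    s * w * s⁻¹ * b = b * (s * w * s⁻¹) := by
  rw [← cj_ws, mem_cj] at hb
  have h1 := h.comm_p h.w_mem hb
  calc s * w * s⁻¹ * b = s * (w * (s⁻¹ * b * s)) * s⁻¹ := by group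
    _ = s * (s⁻¹ * b * s * w) * s⁻¹ := by rw [h1]
    _ = b * (s * w * s⁻¹) := by group

theorem w_inv (h : Pre T V z m x y p y' t s w) : w⁻¹ = w := inv_eq_self (h.tr.sqd h.w_mem)

/-- elements commuting with `w` and `s w s⁻¹` commute with `s` -/
theorem comm_s (h : Pre T V z m x y p y' t s w) {b : G} (h1 : w * b = b * w)
    (h2 : s * w * s⁻¹ * b = b * (s * w * s⁻¹)) : s * b = b * s := by
  have e : s * w * s⁻¹ * w = s * s := by
    have h3 := Side.inv' (h.tr.sqd h.w_mem) h.side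
    rw [h.w_inv] at h3
    calc s * w * s⁻¹ * w = s * (w * s⁻¹ * w) := by group
      _ = s * s := by rw [h3]
  have c1 : Commute w b := h1
  have c2 : Commute (s * w * s⁻¹) b := h2
  have c3 := c2.mul_left c1
  rw [e] at c3
  obtain ⟨n, hn⟩ := exists_sq_pow h.side.odd
  have c4 := c3.pow_left n
  rw [hn] at c4
  exact c4.eq

theorem D_comm (h : Pre T V z m x y p y' t s w) {d : G}
    (hd : d ∈ ws V p ⊓ ws V (s * p * s⁻¹)) : s * d = d * s :=
  h.comm_s (h.comm_p h.w_mem hd.1) (h.conj_w_comm hd.2)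

theorem s_sq_ne (h : Pre T V z m x y p y' t s w) : s * s * (s * s) ≠ 1 := by
  intro e
  have h1 : orderOf s ∣ 2 ^ 2 := orderOf_dvd_of_pow_eq_one (by
    rw [show (2 : ℕ) ^ 2 = 2 + 2 by norm_num, pow_add, pow_two]; exact e)
  have h9 : Nat.Coprime (orderOf s) (2 ^ 2) :=
    Nat.Coprime.pow_right _ (Nat.coprime_two_right.mpr h.side.odd)
  have h10 : orderOf s = 1 := Nat.eq_one_of_dvd_coprimes h9 dvd_rfl h1
  apply h.side.nk
  rw [orderOf_eq_one_iff.mp h10]
  exact one_mem _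

/-- `q ∉ ws V y'` -/
theorem q_not_mem (h : Pre T V z m x y p y' t s w) : s * p * s⁻¹ ∉ ws V y' := fun e =>
  h.wq (h.comm_y' h.w_mem e)

/-- `y' ∉ ws V q` -/
theorem y'_not_mem (h : Pre T V z m x y p y' t s w) : y' ∉ ws V (s * p * s⁻¹) := by
  intro e
  have hy' := self_mem_ws h.odd.toGeo h.pty'
  have h1 := h.comm_s (h.comm_y' h.w_mem hy') (h.conj_w_comm e)
  have h2 : s * y' * s⁻¹ = y' := conj_eq_iff_comm.mpr h1
  have h3 := h.y'y.conj s
  rw [h2] at h3
  have h4 : Walk V 2 y (s * y * s⁻¹) := h.y'y.symm.walk.step h3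
  have hw' : s * w * s⁻¹ ∈ ws V (s * y * s⁻¹) := by
    rw [← cj_ws]; exact conj_mem_cj h.w_mem
  have h5 := h.odd.lt y (s * y * s⁻¹) 2 (by have := h.two; omega) (h.crit.pt' h.odd.toGeo) h4 w h.w_mem _ hw'
  apply h.s_sq_ne
  have e1 : s * w * s⁻¹ * w = s * s := by
    have h3 := Side.inv' (h.tr.sqd h.w_mem) h.side
    rw [h.w_inv] at h3
    calc s * w * s⁻¹ * w = s * (w * s⁻¹ * w) := by group
      _ = s * s := by rw [h3]
  have hww := h.tr.sqd h.w_mem
  calc s * s * (s * s) = s * w * s⁻¹ * w * (s * w * s⁻¹ * w) := by rw [e1]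
    _ = s * w * s⁻¹ * (w * (s * w * s⁻¹)) * w := by group
    _ = s * w * s⁻¹ * (s * w * s⁻¹ * w) * w := by rw [h5]
    _ = s * (w * w) * s⁻¹ * (w * w) := by group
    _ = 1 := by rw [hww]; group

/-- the new critical pair -/
theorem crit' (h : Pre T V z m x y p y' t s w) (hmv : ∃ a ∈ ws V (s * p * s⁻¹), a * y ≠ y * a) :
    Crit V z (m + 1) (s * p * s⁻¹) y' := by
  obtain ⟨a, ha, hay⟩ := hmv
  refine ⟨h.ptq, ?_, a, ha, y, ?_, hay⟩
  · have h1 : Walk V (1 + 1) (s * p * s⁻¹) p := h.xq.symm.walk.trans h.xp.walk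
    have h2 := h1.trans h.py'
    have e : 1 + 1 + (m - 1) = m + 1 := by have := h.two; omega
    rwa [e] at h2
  · exact h.y'y.mem_ws

/-- `V_q ∩ V_{w q w⁻¹} ≤ V_p` -/
theorem mem_p_of_comm (h : Pre T V z m x y p y' t s w) {a : G} (ha : a ∈ ws V (s * p * s⁻¹))
    (haw : a * w = w * a) : a ∈ ws V p := by
  -- `a ∈ ws V (s⁻¹ p s)`
  have h1 : a ∈ ws V (s⁻¹ * p * s) := by
    have h2 : a = w * a * w⁻¹ := by rw [← haw, mul_inv_cancel_right]
    have h3 : w * a * w⁻¹ ∈ ws V (w * (s * p * s⁻¹) * w⁻¹) := by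
      rw [← cj_ws]; exact conj_mem_cj ha
    have e : w * (s * p * s⁻¹) * w⁻¹ = s⁻¹ * p * s := by
      have hp : w * p * w⁻¹ = p := by
        rw [h.comm_p h.w_mem (self_mem_ws h.odd.toGeo h.ptp), mul_inv_cancel_right]
      have hs := h.side.inv
      have hs' := Side.inv' (h.tr.sqd h.w_mem) h.side
      calc w * (s * p * s⁻¹) * w⁻¹ = (w * s * w⁻¹) * (w * p * w⁻¹) * (w * s⁻¹ * w⁻¹) := by group
        _ = s⁻¹ * p * s := by rw [hp, hs, hs']
    rw [e] at h3
    rw [h2]; exact h3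
  -- `s⁻¹ a s ∈ ws V p ⊓ ws V q`
  have h2 : s⁻¹ * a * s ∈ ws V p := by
    have h3 : s⁻¹ * a * s⁻¹⁻¹ ∈ ws V (s⁻¹ * (s * p * s⁻¹) * s⁻¹⁻¹) := by
      rw [← cj_ws]; exact conj_mem_cj ha
    have e : s⁻¹ * (s * p * s⁻¹) * s⁻¹⁻¹ = p := by group
    rw [e, inv_inv] at h3
    exact h3
  have h3 : s⁻¹ * a * s ∈ ws V (s * p * s⁻¹) := by
    have h4 : s⁻¹ * a * s⁻¹⁻¹ ∈ ws V (s⁻¹ * (s⁻¹ * p * s) * s⁻¹⁻¹) := by
      rw [← cj_ws]; exact conj_mem_cj h1
    have e : s⁻¹ * (s⁻¹ * p * s) * s⁻¹⁻¹ = s * p * s⁻¹ := by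
      have h5 := h.side.cube h.tr h.xp.mem_ws
      calc s⁻¹ * (s⁻¹ * p * s) * s⁻¹⁻¹ = s⁻¹ * s⁻¹ * p * s * s := by group
        _ = s⁻¹ * s⁻¹ * (s * (s * (s * p * s⁻¹) * s⁻¹) * s⁻¹) * s * s := by rw [h5]
        _ = s * p * s⁻¹ := by group
    rw [e, inv_inv] at h4
    exact h4
  have h4 := h.D_comm ⟨h2, h3⟩
  have h5 : s⁻¹ * a * s = a := by
    have h6 : s * (s⁻¹ * a * s) * s⁻¹ = s⁻¹ * a * s := by rw [h4, mul_inv_cancel_right]
    rw [← h6]; group
  rw [← h5]; exact h2

/-- the condition on `w` -/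
def Sp (y t w : G) : Prop := ∀ g ∈ centralizer ({y} : Set G), g * t = t * g →
  g * w * g⁻¹ = w ∨ g * w * g⁻¹ = y * w ∨ g * w * g⁻¹ = w * t ∨ g * w * g⁻¹ = y * (w * t)

/-- `C_{V_q}(y) = ⟨q⟩ (V_p ∩ V_q)` -/
theorem idx (h : Pre T V z m x y p y' t s w) (hw : Sp y t w) (hmv : ∃ a ∈ ws V (s * p * s⁻¹), a * y ≠ y * a)
    {a : G} (ha : a ∈ ws V (s * p * s⁻¹)) (hay : a * y = y * a) :
    a ∈ ws V p ∨ a * (s * p * s⁻¹) ∈ ws V p := by
  have ho := h.odd.toOdd
  set q := s * p * s⁻¹ with hq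
  -- `ws V q` commutes with `ws V x`
  have hqx : ∀ b ∈ ws V q, ∀ c ∈ ws V x, b * c = c * b := fun b hb c hc =>
    (h.odd.lt x q 1 (by have := h.two; omega) h.tr.ptr h.xq.walk c hc b hb).symm
  have hat : a * t = t * a := hqx a ha t h.tr.t_memr
  -- `ws V q` commutes with `ws V (w q w⁻¹)`
  have hq'm : w * a * w⁻¹ ∈ ws V (w * q * w⁻¹) := by
    rw [← cj_ws]; exact conj_mem_cj ha
  have hwx : w * x * w⁻¹ = x := by
    rw [mem_centralizer_singleton_iff.mp (h.tr.cr h.w_mem), mul_inv_cancel_right]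
  have hcol : Col V x (w * q * w⁻¹) := by
    have := h.xq.conj w
    rwa [hwx] at this
  have hqq : ∀ b ∈ ws V q, ∀ c ∈ ws V (w * q * w⁻¹), b * c = c * b := fun b hb c hc =>
    h.odd.lt q _ 2 (by have := h.two; omega) h.ptq (h.xq.symm.walk.step hcol) b hb c hc
  have hcomm : ∀ b ∈ ws V q, b * (a * w * a⁻¹ * w⁻¹) = a * w * a⁻¹ * w⁻¹ * b := by
    intro b hb
    have h1 : b * a = a * b := OddBase.ws_comm ho h.ptq hb ha
    have h2 := hqq b hb _ hq'm
    have c1 : Commute b a := h1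
    have c2 : Commute b (w * a * w⁻¹) := h2
    have c3 := c1.mul_right c2.inv_right
    have e : a * (w * a * w⁻¹)⁻¹ = a * w * a⁻¹ * w⁻¹ := by group
    rw [e] at c3
    exact c3.eq
  obtain ⟨a1, ha1, hmv1⟩ := hmv
  have ha1t := hqx a1 ha1 t h.tr.t_memr
  have hyt : y * t = t * y :=
    (h.tr.symm.comm_t' (self_mem_ws ho.toGeo h.tr.ptd))
  have hyw : y * w = w * y := OddBase.ws_comm ho h.tr.ptd (self_mem_ws ho.toGeo h.tr.ptd) h.w_mem
  rcases hw a (mem_centralizer_singleton_iff.mpr hay) hat with e | e | e | e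
  · exact Or.inl (h.mem_p_of_comm ha (conj_eq_iff_comm.mp e))
  · exfalso
    have h1 := hcomm a1 ha1
    rw [e, mul_inv_cancel_right] at h1
    exact hmv1 h1
  · right
    refine h.mem_p_of_comm (mul_mem ha (self_mem_ws ho.toGeo h.ptq)) ?_
    have e1 := h.w_conj_q
    rw [← hq] at e1
    have hqq := OddBase.ws_sq ho h.tr.ptr h.xq.mem_ws
    have hqt : q * t = t * q := OddBase.ws_comm ho h.tr.ptr h.xq.mem_ws h.tr.t_memr
    have e2 : q * w * q⁻¹ = t * w := by
      have e3 : w * q = q * t * w := mul_inv_eq_iff_eq_mul.mp e1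
      have e4 : q * w = t * w * q := by
        calc q * w = q * w * (q * q) := by rw [hqq, mul_one]
          _ = q * (w * q) * q := by group
          _ = (q * q) * t * w * q := by rw [e3]; group
          _ = t * w * q := by rw [hqq, one_mul]
      rw [e4, mul_inv_cancel_right]
    have e5 : a * q * w * (a * q)⁻¹ = w := by
      calc a * q * w * (a * q)⁻¹ = a * (q * w * q⁻¹) * a⁻¹ := by group
        _ = (a * t * a⁻¹) * (a * w * a⁻¹) := by rw [e2]; group
        _ = t * (w * t) := by rw [e, hat, mul_inv_cancel_right]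
        _ = (t * t) * w := by rw [h.tr.comm_t h.w_mem, mul_assoc]
        _ = w := by rw [h.tr.tt_sq, one_mul]
    exact conj_eq_iff_comm.mp e5
  · exfalso
    have h1 := hcomm a1 ha1
    have e1 : y * (w * t) * w⁻¹ = y * t := by
      rw [h.tr.comm_t h.w_mem]; group
    rw [e, e1] at h1
    apply hmv1
    have c1 : Commute a1 (y * t) := h1
    have c2 : Commute a1 t := ha1t
    have c3 := c1.mul_right c2.inv_right
    rw [mul_inv_cancel_right] at c3
    exact c3.eq

/-- `V_{y'}` moves `s r s⁻¹` -/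
theorem star (h : Pre T V z m x y p y' t s w) (hw : Sp y t w)
    (hmv : ∃ a ∈ ws V (s * p * s⁻¹), a * y ≠ y * a) {r : G} (hpr : Col V p r)
    (hry : Walk V (m - 1) r y) : ∃ a ∈ ws V y', a * (s * r * s⁻¹) ≠ s * r * s⁻¹ * a := by
  by_contra hcon
  push Not at hcon
  have ho := h.odd.toOdd
  have hrp : r ∈ ws V p := hpr.mem_ws
  have hr' : s * r * s⁻¹ ∈ ws V (s * p * s⁻¹) := by
    rw [← cj_ws]; exact conj_mem_cj hrp
  have h1 := hcon y h.y'y.mem_ws
  -- `r₁ = r` or `r p`
  have key : ∃ r1, s * r1 * s⁻¹ ∈ ws V p ∧ r1 ∈ ws V p ∧ Col V r1 p ∧ Walk V m r1 y := by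
    have hm : m - 1 + 1 = m := Nat.sub_add_cancel (le_trans (by norm_num) h.two)
    rcases h.idx hw hmv hr' h1.symm with e | e
    · refine ⟨r, e, hrp, hpr.symm, ?_⟩
      have := hry.succ
      rwa [hm] at this
    · have hrp' : Col V (r * p) p ∧ Col V r (r * p) := by
        obtain ⟨hp1, hr1, hne, L, hL, hrL⟩ := hpr
        have hpL : p ∈ L := hL.2
        have hne1 : r * p ≠ 1 := fun e => hne (by
          have h2 := mul_eq_one_iff_eq_inv.mp e
          rw [OddBase.ws_inv ho h.ptp (self_mem_ws ho.toGeo h.ptp)] at h2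
          exact h2.symm)
        refine ⟨⟨hne1, hp1, fun e => hr1 (mul_eq_right.mp e), L, ⟨hL.1, mul_mem hrL hpL⟩, hpL⟩,
          ⟨hr1, hne1, fun e => hp1 (mul_eq_left.mp e.symm), L, ⟨hL.1, hrL⟩, mul_mem hrL hpL⟩⟩
      refine ⟨r * p, ?_, mul_mem hrp (self_mem_ws ho.toGeo h.ptp), hrp'.1, ?_⟩
      · have e2 : s * (r * p) * s⁻¹ = s * r * s⁻¹ * (s * p * s⁻¹) := by group
        rw [e2]; exact e
      · have h2 := hrp'.2.symm.walk.trans hry
        have e3 : 1 + (m - 1) = m := by omega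
        rwa [e3] at h2
  obtain ⟨r1, h2, h3, h4, h5⟩ := key
  have h6 : s * r1 * s⁻¹ ∈ ws V (s * p * s⁻¹) := by
    rw [← cj_ws]; exact conj_mem_cj h3
  have h7 := h.D_comm ⟨h2, h6⟩
  have h8 : s * r1 * s⁻¹ = r1 := by
    have h9 : s * (s * r1 * s⁻¹) * s⁻¹ = s * r1 * s⁻¹ := by rw [h7, mul_inv_cancel_right]
    calc s * r1 * s⁻¹ = s⁻¹ * (s * (s * r1 * s⁻¹) * s⁻¹) * s := by group
      _ = r1 := by rw [h9]; group
  have h9 := h4.conj s
  rw [h8] at h9
  -- `q` is collinear with `r₁`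
  have hr1 : Pt z r1 := h4.pt_left ho.toGeo
  exact h.wq (h.odd.lt r1 y m (Nat.lt_succ_self m) hr1 h5 _ h9.mem_ws w h.w_mem).symm

end Pre

end step

end Cfsg.Agent.MinSimple.OddSlide
end

-- part: MinSimple/OddSlideEnd
section
/-!
# (E1)(b), Case 1: the end of the argument

Two slides `Step` in a row give a contradiction (helper292's `(R)`).
-/

set_option autoImplicit false
set_option linter.unusedSectionVars false

namespace Cfsg.Agent.MinSimple.OddSlideEnd

open Subgroup Cfsg Cfsg.Agent.ZN Cfsg.Agent.MinSimple.Geo Cfsg.Agent.MinSimple.BTwoA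
  Cfsg.Agent.MinSimple.OddLine Cfsg.Agent.MinSimple.OddBase Cfsg.Agent.MinSimple.OddTwoWeight
  Cfsg.Agent.MinSimple.OddTwoStar Cfsg.Agent.MinSimple.OddPair Cfsg.Agent.MinSimple.OddSlide
  Cfsg.Agent.MinSimple.OddRep Cfsg.Agent.MinSimple.OddTwoDefs Cfsg.Agent.MinSimple.OddTwoMod
  Cfsg.Agent.MinSimple.OddTwoRep Cfsg.Agent.MinSimple.SecRep

universe u

variable {G : Type u} [Group G] [Finite G] {T V : Subgroup G} {z : G} {m : ℕ}

section tv

variable {M X : Type u} [AddCommGroup M] [Group X] [DistribMulAction X M] {x : G}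

/-- elements of `C(x)` which act on `ws V x` with centre `c` -/
theorem tv_mk (h : _root_.Cfsg.Agent.MinSimple.OddLine.Odd T V z) (hx : Pt z x) (R : _root_.Cfsg.Agent.MinSimple.OddRep.Rep V x M X) {g c b : G}
    (hg : g ∈ centralizer ({x} : Set G)) (hc : c ∈ ws V x)
    (hact : ∀ a ∈ ws V x, g * a = a * g ∨ g * a * g⁻¹ = a * c) (hgc : g * c = c * g)
    (hc1 : c ≠ 1) (hcx : c ≠ x) (hb : b ∈ ws V x) (hgb : g * b ≠ b * g) :
    Tv (_root_.Cfsg.Agent.MinSimple.OddTwoRep.act M X (R.rho g)) (ve R c) := by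
  refine ⟨fun v => ?_, ?_, ve R b, ?_⟩
  · obtain ⟨a, ha, rfl⟩ := ve_surj R v
    rw [act_ve R hg ha]
    rcases hact a ha with e | e
    · left
      rw [conj_eq_iff_comm.mpr e]
    · right
      rw [e, ve_mul R ha hc]
  · rw [act_ve R hg hc, conj_eq_iff_comm.mpr hgc]
  · rw [act_ve R hg hb, (hact b hb).resolve_left hgb, ve_mul R hb hc]
    intro e
    have e1 : ve R c = 1 := mul_eq_left.mp e
    have e2 : R.pi c = 0 := Multiplicative.ofAdd.injective e1
    rcases (Rep.pi_eq_zero' h hx R hc).mp e2 with e3 | e3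
    · exact hc1 e3
    · exact hcx e3

end tv

/-- **(R)** -/
theorem false_of_steps {p1 yN p2 yn p0 t1 s1 w1 u1 y' pm t s w u : G}
    (S1 : Step T V z m p1 yN p2 yn p0 t1 s1 w1 u1) (S2 : Step T V z m p0 yn p1 y' pm t s w u) : False := by
  have h := S1.odd
  have hm := S1.two
  have ho : _root_.Cfsg.Agent.MinSimple.OddLine.Odd T V z := h.toOdd
  have hx : Pt z p1 := S1.crit.pt
  have hy' : Pt z y' := S2.crit'.pt' h.toGeo
  -- `s` commutes with `u`, `p0`
  have hsu : s * u = u * s := S2.D_comm u S2.u_D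
  have hs0 : s * p0 = p0 * s := mem_centralizer_singleton_iff.mp S2.side.mem
  have hu1 : u ∈ ws V p1 := S2.u_D.1
  have huy : u ∈ ws V y' := S2.tr'.t_memd
  have hune : u ≠ 1 := S2.tr'.t_ne
  have hux : u ≠ p1 := by
    intro e
    rw [e] at hsu
    have e1 : pm = p1 := by rw [S2.q_eq]; exact conj_eq_iff_comm.mpr hsu
    apply S2.wq
    rw [e1]
    have hw : Walk V m p1 yn := by
      have := S1.xp.walk.trans S1.py'
      rwa [Nat.add_comm, Nat.sub_add_cancel (by omega)] at this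
    exact (h.lt p1 yn m (Nat.lt_succ_self m) hx hw p1 (self_mem_ws h.toGeo hx) w S2.w_mem).symm
  have ht1 : t1 ∈ ws V p1 := S1.tr.t_memr
  have ht1x : t1 ≠ p1 := fun e => S1.tr.rd (e ▸ S1.tr.t_memd)
  have hp0 : p0 ∈ ws V p1 := S1.xq.mem_ws
  have hp2 : p2 ∈ ws V p1 := S1.xp.mem_ws
  have hw1 : w1 ∈ centralizer ({p1} : Set G) := S1.tr.cr S1.w_mem
  -- the element `a` of `V_r`
  obtain ⟨a', ha', hne'⟩ := S2.star p2 S1.xp S1.py'
  set! a := s⁻¹ * a' * s with ha
  have ha'e : a' = s * a * s⁻¹ := by rw [ha]; group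
  have hpm : pm = s * p1 * s⁻¹ := S2.q_eq
  have ha'pm : a' * pm = pm * a' := mem_centralizer_singleton_iff.mp (S2.tr'.cr ha')
  have conj_comm : ∀ b : G, a' * (s * b * s⁻¹) = (s * b * s⁻¹) * a' ↔ a * b = b * a := by
    intro b
    rw [ha'e]
    constructor
    · intro e
      calc a * b = s⁻¹ * (s * a * s⁻¹ * (s * b * s⁻¹)) * s := by group
        _ = s⁻¹ * (s * b * s⁻¹ * (s * a * s⁻¹)) * s := by rw [e]
        _ = b * a := by group
    · intro e
      calc s * a * s⁻¹ * (s * b * s⁻¹) = s * (a * b) * s⁻¹ := by group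
        _ = s * (b * a) * s⁻¹ := by rw [e]
        _ = s * b * s⁻¹ * (s * a * s⁻¹) := by group
  have haC : a ∈ centralizer ({p1} : Set G) := by
    rw [mem_centralizer_singleton_iff]
    rw [hpm] at ha'pm
    exact (conj_comm p1).mp ha'pm
  have ha2 : a * p2 ≠ p2 * a := fun e => hne' ((conj_comm p2).mpr e)
  have hsu' : s * u * s⁻¹ = u := conj_eq_iff_comm.mpr hsu
  have hau : a * u = u * a := by
    rw [← conj_comm, hsu']
    exact S2.tr'.comm_t ha'
  have ha0 : a * p0 = p0 * a := by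
    rw [← conj_comm, conj_eq_iff_comm.mpr hs0]
    have hw : Walk V m p0 y' := by
      have := S2.xp.walk.trans S2.py'
      rwa [Nat.add_comm, Nat.sub_add_cancel (by omega)] at this
    have hp0' : Pt z p0 := S2.crit.pt
    exact (h.lt p0 y' m (Nat.lt_succ_self m) hp0' hw p0 (self_mem_ws h.toGeo hp0') a' ha').symm
  have hact : ∀ b ∈ ws V p1, a * b = b * a ∨ a * b * a⁻¹ = b * u := by
    intro b hb
    have hb' : s * b * s⁻¹ ∈ ws V pm := by rw [hpm, ← cj_ws]; exact conj_mem_cj hb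
    rcases S2.tr'.conj_cases ha' hb' with e | e
    · left; exact (conj_comm b).mp e
    · right
      calc a * b * a⁻¹ = s⁻¹ * (a' * (s * b * s⁻¹) * a'⁻¹) * s := by rw [ha'e]; group
        _ = s⁻¹ * (s * b * s⁻¹ * (s * u * s⁻¹)) * s := by rw [e, hsu']
        _ = b * u := by group
  -- the module at `p1`
  obtain ⟨M, X, _, _, _, ⟨R⟩⟩ := exists_rep ho hx
  obtain ⟨P, hP⟩ := exists_ctl_rep ho hx R
  have T1 : Tv (_root_.Cfsg.Agent.MinSimple.OddTwoRep.act M X (R.rho w1)) (ve R t1) :=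
    tv_mk ho hx R hw1 ht1 (fun b hb => S1.tr.conj_cases S1.w_mem hb) (S1.tr.comm_t S1.w_mem) S1.tr.t_ne
      ht1x hp0 S1.wq
  have T2 : Tv (_root_.Cfsg.Agent.MinSimple.OddTwoRep.act M X (R.rho a)) (ve R u) :=
    tv_mk ho hx R haC hu1 hact hau hune hux hp2 ha2
  -- `w1` fixes `u`
  have hw1u : w1 * u = u * w1 := by
    have hw : Walk V 2 y' yN := by
      have := S2.y'y.walk.trans S1.y'y.walk
      exact this
    exact (h.lt y' yN 2 (by omega) hy' hw u huy w1 S1.w_mem).symm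
  have hfix : _root_.Cfsg.Agent.MinSimple.OddTwoRep.act M X (R.rho a) (ve R t1) = ve R t1 := by
    by_contra hne
    have h1 := hP.sym ⟨_, rfl⟩ ⟨_, rfl⟩ T2 T1 hne
    apply h1
    rw [act_ve R hw1 hu1, conj_eq_iff_comm.mpr hw1u]
  have hat : a * t1 = t1 * a := by
    rcases hact t1 ht1 with e | e
    · exact e
    · exfalso
      rw [act_ve R haC ht1, e, ve_mul R ht1 hu1] at hfix
      have e1 : ve R u = 1 := mul_eq_left.mp hfix
      have e2 : R.pi u = 0 := Multiplicative.ofAdd.injective e1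
      rcases (Rep.pi_eq_zero' ho hx R hu1).mp e2 with e3 | e3
      · exact hune e3
      · exact hux e3
  by_cases hc : u = t1 ∨ u = p1 * t1
  · have e1 : ve R u = ve R t1 := (ve_eq ho hx R hu1 ht1).mpr hc
    rw [e1] at T2
    have h1 := hP.unique ⟨_, rfl⟩ ⟨_, rfl⟩ T2 T1
    have h2 : _root_.Cfsg.Agent.MinSimple.OddTwoRep.act M X (R.rho w1) (ve R p0) = ve R p0 := by
      rw [h1, act_ve R haC hp0, conj_eq_iff_comm.mpr ha0]
    rw [act_ve R hw1 hp0, S1.tr.conj_eq S1.w_mem hp0 S1.wq, ve_mul R hp0 ht1] at h2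
    exact tv_ne T1 (mul_eq_left.mp h2)
  · push Not at hc
    exact ha2 (S1.sep a haC u hu1 (fun b hb => by
      rcases hact b hb with e | e
      · left; exact conj_eq_iff_comm.mpr e
      · right; rw [e, ws_comm ho hx hb hu1]) hau hat hune hux hc.1 hc.2 ha0)

/-- **Case 1 is impossible**, given the existence of slides -/
theorem false_of_case1 (hstep : ∀ x y p : G, Crit V z (m + 1) x y → x ∉ ws V y → y ∉ ws V x → Col V x p →
      Walk V m p y → ∃ y' q t s w u : G, Step T V z m x y p y' q t s w u)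
    (h : OddN T V z (m + 1)) {x y : G} (hc : Crit V z (m + 1) x y) (h1 : x ∉ ws V y) (h2 : y ∉ ws V x) :
    False := by
  obtain ⟨p, hp, hpy⟩ := hc.head h
  obtain ⟨y', q, t, s, w, u, S1⟩ := hstep x y p hc h1 h2 hp hpy
  have hm := S1.two
  have hw : Walk V m x y' := by
    have := S1.xp.walk.trans S1.py'
    rwa [Nat.add_comm, Nat.sub_add_cancel (by omega)] at this
  obtain ⟨y'', q', t', s', w', u', S2⟩ := hstep q y' x S1.crit' S1.tr'.rd S1.tr'.dr S1.xq.symm hw
  exact false_of_steps S1 S2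

end Cfsg.Agent.MinSimple.OddSlideEnd
end

-- part: MinSimple/OddCaseOne
section
/-!
# (E1)(b), `n ≥ 3`: Case 1 is impossible if there is no non-sliding
-/

set_option autoImplicit false

namespace Cfsg.Agent.MinSimple.OddSlide

open Subgroup Cfsg Cfsg.Agent.ZN Cfsg.Agent.MinSimple.Geo Cfsg.Agent.MinSimple.BTwoA
  Cfsg.Agent.MinSimple.OddLine Cfsg.Agent.MinSimple.OddBase

universe u

variable {G : Type u} [Group G] [Finite G] {T V : Subgroup G} {z : G} {m : ℕ}

end Cfsg.Agent.MinSimple.OddSlide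
end

-- part: MinSimple/OddCaseCfg
section
/-!
# (E1)(b), `n ≥ 3`: Case 1 is impossible if there is no non-sliding configuration (`OddCase.Cfg`)
-/

set_option autoImplicit false

namespace Cfsg.Agent.MinSimple.OddSlide

open Subgroup Cfsg Cfsg.Agent.ZN Cfsg.Agent.MinSimple.Geo Cfsg.Agent.MinSimple.BTwoA
  Cfsg.Agent.MinSimple.OddLine Cfsg.Agent.MinSimple.OddBase Cfsg.Agent.MinSimple.OddPair

universe u

variable {G : Type u} [Group G] [Finite G] {T V : Subgroup G} {z : G} {m : ℕ}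

/-- **one step of the sliding** from a configuration `Cfg` with the non-sliding hypothesis -/
theorem exists_step_of_cfg {x y p t w s v s' : G} (h2 : 2 ≤ m)
    (hC : OddCase.Cfg T V z (m + 1) x p y t w s v s')
    (hmv : ∃ a ∈ ws V (s * p * s⁻¹), a * y ≠ y * a) :
    ∃ y' q t s w u, Step T V z m x y p y' q t s w u := by
  have h := hC.oddN
  have hc := hC.crit
  have hT := hC.tr
  have hxp := hC.col
  have hpy : Walk V m p y := hC.walk
  have hw := hC.wW
  have hwn := hC.w_not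
  have hS := hC.side
  obtain ⟨k, rfl⟩ : ∃ k, m = k + 1 := ⟨m - 1, by omega⟩
  obtain ⟨y', hpy', hy'⟩ := id hpy
  have hy'y : Col V y' y := by
    rcases hy' with e | e
    · exfalso
      rw [e] at hpy'
      have h1 := hxp.walk.trans hpy'
      exact hc.not_walk h (m := 1 + k) (by omega) h1
    · exact e
  have hP : Pre T V z (k + 1) x y p y' t s w := ⟨h, h2, hc, hxp, hpy', hy'y, hT, hw, hwn, hS⟩
  have hsp : Pre.Sp y t w := by
    intro g hg hgt
    have hgy : g * y = y * g := mem_centralizer_singleton_iff.mp hg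
    have hyw : y * w = w * y := OddBase.ws_comm h.toOdd hT.ptd (self_mem_ws h.toGeo hT.ptd) hw
    have hyt : y * t = t * y := OddBase.ws_comm h.toOdd hT.ptd (self_mem_ws h.toGeo hT.ptd) hT.t_memd
    rcases hC.conj_cases hgy hgt with e | e | e | e
    · exact Or.inl e
    · exact Or.inr (Or.inr (Or.inl e))
    · exact Or.inr (Or.inl (by rw [e, hyw]))
    · right; right; right
      rw [e, mul_assoc w t y, ← hyt, ← mul_assoc w y t, ← hyw, mul_assoc]
  have hc' := hP.crit' hmv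
  obtain ⟨u, hu⟩ := tr_of_crit h hc' hP.q_not_mem hP.y'_not_mem
  have hwu : w * u = u * w := hP.comm_y' hw hu.t_memd
  refine ⟨y', s * p * s⁻¹, t, s, w, u, ?_⟩
  exact
    { odd := h, two := h2, crit := hc, xp := hxp, py' := hpy', y'y := hy'y, tr := hT, w_mem := hw,
      w_not := hwn, side := hS, q_eq := rfl, xq := hP.xq, wq := hP.wq,
      D_comm := fun d hd => hP.D_comm hd
      crit' := hc', tr' := hu, mv := hmv
      u_D := by
        refine ⟨?_, hu.t_memr⟩
        have h1 : u * y = y * u :=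
          (hP.comm_y' (self_mem_ws h.toGeo hT.ptd) hu.t_memd).symm
        rcases hP.idx hsp hmv hu.t_memr h1 with e | e
        · exact e
        · exfalso
          apply hP.wq
          have c1 : Commute w (u * (s * p * s⁻¹)) := hP.comm_p hw e
          have c2 : Commute w u := hwu
          have c3 := c2.inv_right.mul_right c1
          rw [inv_mul_cancel_left] at c3
          exact c3.eq
      idx := fun a ha hay => hP.idx hsp hmv ha hay
      star := fun r hr hry => hP.star hsp hmv hr hry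
      sep := fun g hg c hc2 hgc hcc hgt h3 h4 h5 h6 hgq =>
        sep h.toOdd hT hw hS hxp.mem_ws hP.sp rfl hg hc2 hgc hcc hgt h3 h4 h5 h6 hgq }

/-- **Case 1** from the impossibility of non-sliding for `Cfg` -/
theorem false_of_cfg {n : ℕ} (h : OddN T V z n) (h3 : 3 ≤ n)
    (hNS : ∀ p p1 q t w s v s' : G, OddCase.Cfg T V z n p p1 q t w s v s' →
      ∃ a ∈ ws V (s * p1 * s⁻¹), a * q ≠ q * a) {x y : G}
    (hc : Crit V z n x y) (hxy : x ∉ ws V y) (hyx : y ∉ ws V x) : False := by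
  obtain ⟨m, rfl⟩ : ∃ m, n = m + 1 := ⟨n - 1, by omega⟩
  have h2 : 2 ≤ m := by omega
  refine OddSlideEnd.false_of_case1 (fun x y p hc h1 h3' h4 h5 => ?_) h hc hxy hyx
  obtain ⟨t, w, s, v, s', hC⟩ := OddCase.exists_cfg h h3 hc h1 h3' h4 h5
  exact exists_step_of_cfg h2 hC (hNS _ _ _ _ _ _ _ _ hC)

end Cfsg.Agent.MinSimple.OddSlide
end

-- part: MinSimple/OddNonSlide
section
/-!
# (E1)(b), `n ≥ 3`, Case 1: non-sliding is impossible

`exists_move`: in the configuration `Cfg` some element of `ws V (s * p1 * s⁻¹)` moves `q`.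
-/

set_option autoImplicit false
set_option linter.unusedSectionVars false

namespace Cfsg.Agent.MinSimple.OddNonSlide

open Subgroup Cfsg Cfsg.Agent.ZN Cfsg.Agent.MinSimple.Geo Cfsg.Agent.MinSimple.BTwoA
  Cfsg.Agent.MinSimple.OddLine Cfsg.Agent.MinSimple.OddBase Cfsg.Agent.MinSimple.OddTwoWeight
  Cfsg.Agent.MinSimple.OddTwoStar Cfsg.Agent.MinSimple.OddPair Cfsg.Agent.MinSimple.OddRep
  Cfsg.Agent.MinSimple.OddTwoMod Cfsg.Agent.MinSimple.OddTwoDefs Cfsg.Agent.MinSimple.OddTwoRep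
  Cfsg.Agent.MinSimple.OddCase
open Cfsg.Agent.ZN.Block (conj_mem_of_normalizer conj_mem_of_normalizer' le_normalizer_of_forall
  mem_normalizer_of)

universe u

variable {G : Type u} [Group G] [Finite G]

/-! ### the norm argument -/

/-- `w` inverts `s`, `w f w⁻¹ = f e`, `s` commutes with `e`, `w` with `s⁻¹ f s`: `e = 1` -/
theorem eq_one_of_norm {U : Subgroup G} {s w f e : G} (hU : Act U s) (hwU : ∀ u ∈ U, w * u * w⁻¹ ∈ U)
    (hinv : w * s * w⁻¹ = s⁻¹) (hww : w * w = 1) (hf : f ∈ U)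
    (hz : w * (s⁻¹ * f * s) = s⁻¹ * f * s * w) (he : w * f * w⁻¹ = f * e) (hse : s * e = e * s) : e = 1 := by
  have hwi : w⁻¹ = w := inv_eq_self hww
  have hinv' : w * s⁻¹ * w⁻¹ = s := by
    have e1 : w * s⁻¹ * w⁻¹ = (w * s * w⁻¹)⁻¹ := by group
    rw [e1, hinv, inv_inv]
  obtain ⟨u, hu, c, hc, hsc, rfl⟩ := hU.exists_decomp hf
  have huU := hU.uu_le hu
  -- `w` normalizes `[U, s]`
  have hwuu : ∀ x ∈ uu U s, w * x * w⁻¹ ∈ uu U s := by
    intro x hx
    obtain ⟨a, ha, rfl⟩ := hU.mem_uu.mp hx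
    have ha1 := hwU a ha
    have ha2 : s⁻¹ * (w * a * w⁻¹) * s ∈ U := hU.conj' ha1
    have e1 : w * (a * (s * a * s⁻¹)) * w⁻¹ = w * a * w⁻¹ * (s⁻¹ * (w * a * w⁻¹) * s) := by
      calc w * (a * (s * a * s⁻¹)) * w⁻¹ = w * a * w⁻¹ * ((w * s * w⁻¹) * (w * a * w⁻¹) * (w * s⁻¹ * w⁻¹)) := by
            group
        _ = _ := by rw [hinv, hinv']
    refine hU.mem_uu.mpr ⟨s⁻¹ * (w * a * w⁻¹) * s, ha2, ?_⟩
    rw [e1, hU.comm ha1 ha2]
    group
  -- `w c w⁻¹` commutes with `s`
  have hwc : s * (w * c * w⁻¹) = w * c * w⁻¹ * s := by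
    have e1 : w⁻¹ * s * w = s⁻¹ := by rw [hwi]; nth_rewrite 2 [← hwi]; exact hinv
    have e2 : s⁻¹ * c = c * s⁻¹ := by
      have c1 : Commute s c := hsc
      exact c1.inv_left.eq
    calc s * (w * c * w⁻¹) = w * ((w⁻¹ * s * w) * c) * w⁻¹ := by group
      _ = w * (c * (w⁻¹ * s * w)) * w⁻¹ := by rw [e1, e2]
      _ = w * c * w⁻¹ * s := by group
  have hcU := hwU c hc
  set! u2 := s⁻¹ * u * s with hu2
  have hu2m : u2 ∈ uu U s := hU.uu_conj' hu
  have hz' : w * (u2 * c) = u2 * c * w := by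
    have e1 : s⁻¹ * (u * c) * s = u2 * c := by
      have : s⁻¹ * c * s = c := by rw [mul_assoc, ← hsc]; group
      calc s⁻¹ * (u * c) * s = s⁻¹ * u * s * (s⁻¹ * c * s) := by group
        _ = u2 * c := by rw [this]
    rw [← e1]; exact hz
  have hz2 : (w * u2 * w⁻¹) * (w * c * w⁻¹) = u2 * c := by
    calc (w * u2 * w⁻¹) * (w * c * w⁻¹) = w * (u2 * c) * w⁻¹ := by group
      _ = u2 * c := by rw [hz']; group
  have hu2U := hU.uu_le hu2m
  have hwu2 := hwuu u2 hu2m
  have hwu2U := hU.uu_le hwu2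
  -- `w c w⁻¹ = c`
  have hk : w * c * w⁻¹ = c := by
    have h1 : w * c * w⁻¹ * c⁻¹ = (w * u2 * w⁻¹)⁻¹ * u2 := by
      have e1 : w * c * w⁻¹ = (w * u2 * w⁻¹)⁻¹ * (u2 * c) := by rw [← hz2]; group
      rw [e1]; group
    have h2 : w * c * w⁻¹ * c⁻¹ ∈ uu U s := by
      rw [h1]; exact mul_mem (inv_mem hwu2) hu2m
    have h3 : s * (w * c * w⁻¹ * c⁻¹) = w * c * w⁻¹ * c⁻¹ * s := by
      have c1 : Commute s (w * c * w⁻¹) := hwc
      have c2 : Commute s c := hsc
      exact (c1.mul_right c2.inv_right).eq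
    exact mul_inv_eq_one.mp (hU.eq_one h2 h3)
  have he2 : e = u⁻¹ * (w * u * w⁻¹) := by
    have e1 : e = (u * c)⁻¹ * (w * (u * c) * w⁻¹) := by rw [he]; group
    have e2 : w * (u * c) * w⁻¹ = (w * u * w⁻¹) * (w * c * w⁻¹) := by group
    have huw := hU.uu_le (hwuu u hu)
    rw [e1, e2, hk, hU.comm huw hc, mul_inv_rev, hU.inv_eq hc, hU.comm hc (inv_mem huU)]
    calc u⁻¹ * c * (c * (w * u * w⁻¹)) = u⁻¹ * (c * c) * (w * u * w⁻¹) := by group
      _ = u⁻¹ * (w * u * w⁻¹) := by rw [hU.sq c hc, mul_one]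
  exact hU.eq_one (he2 ▸ mul_mem (inv_mem hu) (hwuu u hu)) hse

variable {T V : Subgroup G} {z : G} {n : ℕ} {p p1 q t w s v s' : G}

/-! ### `t` is not a point collinear with `q` -/

section tv

variable {M X : Type u} [AddCommGroup M] [Group X] [DistribMulAction X M] {x : G}

/-- elements of `C(x)` which act on `ws V x` with centre `c` -/
theorem tv_mk (h : _root_.Cfsg.Agent.MinSimple.OddLine.Odd T V z) (hx : Pt z x) (R : _root_.Cfsg.Agent.MinSimple.OddRep.Rep V x M X) {g c b : G}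
    (hg : g ∈ centralizer ({x} : Set G)) (hc : c ∈ ws V x)
    (hact : ∀ a ∈ ws V x, g * a * g⁻¹ = a ∨ g * a * g⁻¹ = a * c) (hgc : g * c = c * g)
    (hc1 : c ≠ 1) (hcx : c ≠ x) (hb : b ∈ ws V x) (hgb : g * b * g⁻¹ ≠ b) :
    Tv (_root_.Cfsg.Agent.MinSimple.OddTwoRep.act M X (R.rho g)) (ve R c) := by
  refine ⟨fun m => ?_, ?_, ve R b, ?_⟩
  · obtain ⟨a, ha, rfl⟩ := ve_surj R m
    rw [act_ve R hg ha]
    rcases hact a ha with e | e
    · left; rw [e]
    · right; rw [e, ve_mul R ha hc]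
  · rw [act_ve R hg hc, conj_eq_iff_comm.mpr hgc]
  · rw [act_ve R hg hb, (hact b hb).resolve_left hgb, ve_mul R hb hc]
    intro e
    have e1 : ve R c = 1 := mul_eq_left.mp e
    have e2 : R.pi c = 0 := Multiplicative.ofAdd.injective e1
    rcases (Rep.pi_eq_zero' h hx R hc).mp e2 with e3 | e3
    · exact hc1 e3
    · exact hcx e3

end tv

theorem not_col (h : Cfg T V z n p p1 q t w s v s') : ¬ Col V q t := by
  intro hqt
  have hn := h.three
  have ho := h.oddN.toOdd
  obtain ⟨g, hgq, hgt⟩ := OddTwoStar.exists_conj ho hqt h.col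
  have hpp := OddBase.Pt.sq ho.toGeo h.ptp
  have hnw : ¬ Walk V 1 p t := fun h1 =>
    h.crit.not_walk h.oddN (show 2 < n by omega) (h1.trans hqt.symm.walk)
  -- the element `σ`
  set! σ := g * v * g⁻¹ with hσ
  have hvq : v * q = q * v := mem_centralizer_singleton_iff.mp (h.tr.cd h.v_mem)
  have hσC : σ ∈ centralizer ({p} : Set G) := by
    rw [mem_centralizer_singleton_iff, ← hgq, hσ]
    calc g * v * g⁻¹ * (g * q * g⁻¹) = g * (v * q) * g⁻¹ := by group
      _ = g * (q * v) * g⁻¹ := by rw [hvq]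
      _ = g * q * g⁻¹ * (g * v * g⁻¹) := by group
  have hmem : ∀ b ∈ ws V p, g⁻¹ * b * g ∈ ws V q := by
    intro b hb
    rw [← hgq, ← cj_ws] at hb
    exact mem_cj.mp hb
  have hmem' : ∀ b ∈ ws V q, g * b * g⁻¹ ∈ ws V p := by
    intro b hb
    rw [← hgq, ← cj_ws]; exact conj_mem_cj hb
  have hact : ∀ b ∈ ws V p, σ * b * σ⁻¹ = b ∨ σ * b * σ⁻¹ = b * p1 := by
    intro b hb
    have e0 : σ * b * σ⁻¹ = g * (v * (g⁻¹ * b * g) * v⁻¹) * g⁻¹ := by rw [hσ]; group
    rcases h.tr.symm.conj_cases h.v_mem (hmem b hb) with e | e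
    · left
      rw [e0, conj_eq_iff_comm.mpr e]; group
    · right
      rw [e0, e, ← hgt]; group
  obtain ⟨b0, hb0, hne0⟩ := exists_noncomm h.v_not
  have hσb : σ * (g * b0 * g⁻¹) * σ⁻¹ ≠ g * b0 * g⁻¹ := by
    intro e
    apply hne0
    apply conj_eq_iff_comm.mp
    apply conj_inj (g := g)
    rw [← e, hσ]; group
  have hp1W : p1 ∈ ws V p := h.col.mem_ws
  have hσp1 : σ * p1 = p1 * σ := by
    rw [hσ, ← hgt]
    have hvt : v * t = t * v := h.tr.symm.comm_t h.v_mem
    calc g * v * g⁻¹ * (g * t * g⁻¹) = g * (v * t) * g⁻¹ := by group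
      _ = g * (t * v) * g⁻¹ := by rw [hvt]
      _ = g * t * g⁻¹ * (g * v * g⁻¹) := by group
  -- the module at `p`
  obtain ⟨M, X, _, _, _, ⟨R⟩⟩ := exists_rep ho h.ptp
  obtain ⟨P, hP⟩ := exists_ctl_rep ho h.ptp R
  obtain ⟨y, hy, hyo, hyP, hb⟩ := exists_ctl_weight h.tr h.wW h.w_not R hP
  have hwC := h.tr.cr h.wW
  have hwp1 : w * p1 = p1 * w := h.comm1 h.wW (self_mem_ws h.oddN.toGeo h.ptp1)
  have hT : Tv (_root_.Cfsg.Agent.MinSimple.OddTwoRep.act M X (R.rho σ)) (ve R p1) :=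
    tv_mk ho h.ptp R hσC hp1W hact hσp1 h.col.2.1 (Ne.symm h.col.2.2.1) (hmem' b0 hb0) hσb
  have hne : ve R p1 ≠ ve R t := by
    intro e
    rcases (ve_eq ho h.ptp R hp1W h.tr.t_memr).mp e with e | e
    · exact hnw (e ▸ h.col.walk)
    · have h1 : Col V p (p * p1) := OddSmall.col_mul ho h.col
      rw [e, ← mul_assoc, hpp, one_mul] at h1
      exact hnw h1.walk
  have hfix : _root_.Cfsg.Agent.MinSimple.OddTwoRep.act M X (R.rho σ) (ve R t) = ve R t := by
    by_contra hcon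
    have h1 := hP.sym ⟨_, rfl⟩ ⟨_, rfl⟩ hT hb.tv hcon
    apply h1
    rw [act_ve R hwC hp1W, conj_eq_iff_comm.mpr hwp1]
  obtain ⟨-, h2⟩ := hP.comm hyP hb.toRTwo ⟨_, rfl⟩ hT hne hfix
  have hyp : y * p = p * y := mem_centralizer_singleton_iff.mp hy
  have hyW : y * p1 * y⁻¹ ∈ ws V p := conj_mem (V := V) hy hp1W
  have hyp1 : y * p1 = p1 * y := by
    rw [act_ve R hy hp1W] at h2
    refine comm_of_odd hyo hyp ?_ hpp
    rcases (ve_eq ho h.ptp R hyW hp1W).mp h2 with e | e
    · exact Or.inl e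
    · right
      rw [e]
      exact OddBase.ws_comm ho h.ptp (self_mem_ws ho.toGeo h.ptp) hp1W
  have hynk : y ∉ kq V p := by
    intro hk
    apply hb.move
    rw [(Rep.rho_eq_one R hy).mpr hk, map_one]; rfl
  have hyinv : w * y * w⁻¹ * y ∈ kq V p := by
    rw [← Rep.rho_eq_one R (mul_mem (mul_mem (mul_mem hwC hy) (inv_mem hwC)) hy),
      R.rho_mul _ (mul_mem (mul_mem hwC hy) (inv_mem hwC)) _ hy, R.rho_conj hwC hy]
    apply act_injective R
    rw [map_one, map_mul, map_mul, map_mul, map_inv, hb.inv', inv_mul_cancel]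
  obtain ⟨s0, hs0, hsk⟩ := h.tr.side_of h.wW hy hyo hynk hyinv
  apply hs0.ne h.oddN h.ptp1 h.lt h.walk h.wW
  have hs0p : s0 * p = p * s0 := mem_centralizer_singleton_iff.mp hs0.mem
  refine comm_of_odd hs0.odd hs0p ?_ hpp
  have e0 : s0 * p1 * s0⁻¹ = s0 * (y * y)⁻¹ * p1 * (s0 * (y * y)⁻¹)⁻¹ := by
    have c1 : Commute y p1 := hyp1
    have c2 : (y * y)⁻¹ * p1 = p1 * (y * y)⁻¹ := ((c1.mul_left c1).inv_left).eq
    calc s0 * p1 * s0⁻¹ = s0 * (p1 * (y * y)⁻¹) * (y * y) * s0⁻¹ := by group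
      _ = s0 * ((y * y)⁻¹ * p1) * (y * y) * s0⁻¹ := by rw [c2]
      _ = s0 * (y * y)⁻¹ * p1 * (s0 * (y * y)⁻¹)⁻¹ := by
        rw [mul_inv_rev (s0) ((y * y)⁻¹), inv_inv]; simp only [mul_assoc]
  rw [e0]
  exact kq_cases ho h.ptp hsk hp1W

/-! ### the elements of `ws V (s * p1 * s⁻¹)` -/

/-- elements of `ws V q` commuting with `s'` commute with `ws V p` -/
theorem comm_p (h : Cfg T V z n p p1 q t w s v s') {c a : G} (hc : c ∈ ws V q) (hsc : s' * c = c * s')
    (ha : a ∈ ws V p) : a * c = c * a :=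
  Side.comm_all h.tr.symm h.v_mem h.v_not hc (h.side'.w_comm h.tr.symm h.v_mem hc hsc) ha

/-- elements of `ws V q` commuting with `s'` commute with the elements of `ws V w1` commuting with `q` -/
theorem comm_w1 (h : Cfg T V z n p p1 q t w s v s') {c f : G} (hc : c ∈ ws V q) (hsc : s' * c = c * s')
    (hf : f ∈ ws V (s * p1 * s⁻¹)) (hfq : f * q = q * f) : c * f = f * c := by
  have ho := h.oddN.toOdd
  have hft := h.comm_p hf h.tr.t_memr
  have hfC : f ∈ centralizer ({q} : Set G) := mem_centralizer_singleton_iff.mpr hfq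
  have hcC : c ∈ centralizer ({s * p1 * s⁻¹} : Set G) :=
    mem_centralizer_singleton_iff.mpr (comm_p h hc hsc h.col_w1.mem_ws).symm
  set! g := c * f * c⁻¹ * f⁻¹ with hg
  have hg1 : g ∈ ws V (s * p1 * s⁻¹) := mul_mem (conj_mem (V := V) hcC hf) (inv_mem hf)
  have hfc : f * c⁻¹ * f⁻¹ ∈ ws V q := conj_mem (V := V) hfC (inv_mem hc)
  have hge : g = c * (f * c⁻¹ * f⁻¹) := by rw [hg]; group
  have hg2 : g ∈ ws V q := by rw [hge]; exact mul_mem hc hfc
  have hwg : w * g = g * w := OddBase.ws_comm ho h.ptq h.wW hg2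
  have hsg : s * g = g * s := h.D_comm_s hg1 ((h.mem_D_iff hg1).mpr hwg)
  have hsc' : s' * c⁻¹ = c⁻¹ * s' := by
    have c1 : Commute s' c := hsc
    exact c1.inv_right.eq
  have hs'g : s' * g = g * s' := by
    have h1 := comm_conj ho h.ptq h.side'.mem h.side'.odd hfC
      (h.ctl f hfC (Or.inl (conj_eq_iff_comm.mpr hft))) (inv_mem hc) hsc'
    have c1 : Commute s' c := hsc
    have c2 : Commute s' (f * c⁻¹ * f⁻¹) := h1
    rw [hge]
    exact (c1.mul_right c2).eq
  have hk := h.tr.kill h.wW h.v_mem h.side h.side' hsg hs'g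
    (OddBase.ws_comm ho h.ptq h.tr.t_memd hg2) (OddBase.ws_sq ho h.ptq hg2)
  rw [hg] at hk
  exact conj_eq_iff_comm.mp (mul_inv_eq_one.mp hk)

/-- `w1` moves `w` to `w t` -/
theorem w1_act (h : Cfg T V z n p p1 q t w s v s') :
    s * p1 * s⁻¹ * w * (s * p1 * s⁻¹)⁻¹ = w * t := by
  have htt := h.tr.tt_sq
  set w1 := s * p1 * s⁻¹ with hw1
  have hw1W : w1 ∈ ws V w1 := self_mem_ws h.oddN.toGeo h.ptw1
  have hwt : w * t = t * w := OddBase.ws_comm h.oddN.toOdd h.ptq h.wW h.tr.t_memd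
  have h1 : w * w1 * w⁻¹ = w1 * t := h.tr.conj_eq h.wW h.col_w1.mem_ws h.w_w1
  have hw1t : w1 * t = t * w1 := h.comm_p hw1W h.tr.t_memr
  have e1 : w * w1 = w1 * t * w := mul_inv_eq_iff_eq_mul.mp h1
  calc w1 * w * w1⁻¹ = w1 * t * (t * w) * w1⁻¹ := by
        rw [← mul_assoc (w1 * t) t w, mul_assoc w1 t t, htt, mul_one]
    _ = (w1 * t) * (w * t) * w1⁻¹ := by rw [hwt]
    _ = (w1 * t * w) * t * w1⁻¹ := by group
    _ = w * (w1 * t) * w1⁻¹ := by rw [← e1]; group
    _ = w * t := by rw [hw1t]; group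

/-- there is `f ∈ ws V w1` with `f w f⁻¹ = w t q` -/
theorem exists_f (h : Cfg T V z n p p1 q t w s v s') (hA : ∀ f ∈ ws V (s * p1 * s⁻¹), f * q = q * f) :
    ∃ f ∈ ws V (s * p1 * s⁻¹), f * w * f⁻¹ = w * t * q := by
  have hn := h.three
  have ho := h.oddN.toOdd
  obtain ⟨p2, h12, h2⟩ : ∃ p2, Col V p1 p2 ∧ Walk V (n - 2) p2 q := by
    have hw := h.walk
    obtain ⟨m, rfl⟩ : ∃ m, n = m + 2 := ⟨n - 2, by omega⟩
    have e1 : m + 2 - 1 = m + 1 := by omega
    rw [e1] at hw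
    obtain ⟨p2, h1, h2⟩ := hw.head
    rcases h1 with rfl | h1
    · exfalso
      have := h.col.walk.trans h2
      exact h.crit.not_walk h.oddN (show 1 + m < m + 2 by omega) this
    · exact ⟨p2, h1, by simpa using h2⟩
  set w1 := s * p1 * s⁻¹ with hw1
  have hw1W : w1 ∈ ws V w1 := self_mem_ws h.oddN.toGeo h.ptw1
  have hf0 : s * p2 * s⁻¹ ∈ ws V w1 := by
    rw [hw1, ← cj_ws]; exact conj_mem_cj h12.mem_ws
  set f0 := s * p2 * s⁻¹ with hf0'
  have hft := h.comm_p hf0 h.tr.t_memr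
  have hfq := hA f0 hf0
  have hqW := self_mem_ws h.oddN.toGeo h.ptq
  have htq : t * q = q * t := OddBase.ws_comm ho h.ptq h.tr.t_memd hqW
  have hcomm : ∀ a : G, s * (s * a * s⁻¹) = s * a * s⁻¹ * s → s * a = a * s := by
    intro a h3
    have h4 : s⁻¹ * (s * a * s⁻¹) * s = s * a * s⁻¹ := by rw [mul_assoc, ← h3]; group
    have h5 : a = s * a * s⁻¹ := by rw [← h4]; group
    exact conj_eq_iff_comm.mp h5.symm
  rcases h.conj_cases hfq hft with e | e | e | e
  · exfalso
    have h1 := (h.mem_D_iff hf0).mpr (conj_eq_iff_comm.mp e).symm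
    exact h.not_mem_D h12 h2 (Or.inr (Or.inl rfl)) (hcomm p2 (h.D_comm_s hf0 h1))
  · exfalso
    have h3 : f0 * w1 * w * (f0 * w1)⁻¹ = w := by
      calc f0 * w1 * w * (f0 * w1)⁻¹ = f0 * (w1 * w * w1⁻¹) * f0⁻¹ := by group
        _ = (f0 * w * f0⁻¹) * (f0 * t * f0⁻¹) := by rw [w1_act h]; group
        _ = w * t * t := by rw [e, conj_eq_iff_comm.mpr hft]
        _ = w := by rw [mul_assoc, h.tr.tt_sq, mul_one]
    have hm := mul_mem hf0 hw1W
    have h1 := (h.mem_D_iff hm).mpr (conj_eq_iff_comm.mp h3).symm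
    have h4 := h.D_comm_s hm h1
    have hpp : p1 * p2 = p2 * p1 := OddBase.ws_comm ho h.ptp1
      (self_mem_ws h.oddN.toGeo h.ptp1) h12.mem_ws
    have e0 : f0 * w1 = s * (p2 * p1) * s⁻¹ := by rw [hf0', hw1]; group
    rw [e0, ← hpp] at h4
    exact h.not_mem_D h12 h2 (Or.inr (Or.inr rfl)) (hcomm _ h4)
  · refine ⟨f0 * w1, mul_mem hf0 hw1W, ?_⟩
    calc f0 * w1 * w * (f0 * w1)⁻¹ = f0 * (w1 * w * w1⁻¹) * f0⁻¹ := by group
      _ = (f0 * w * f0⁻¹) * (f0 * t * f0⁻¹) := by rw [w1_act h]; group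
      _ = w * q * t := by rw [e, conj_eq_iff_comm.mpr hft]
      _ = w * t * q := by rw [mul_assoc, ← htq, mul_assoc]
  · exact ⟨f0, hf0, e⟩

/-- `s` does not commute with `t q` -/
theorem not_comm_tq (h : Cfg T V z n p p1 q t w s v s') {f : G} (hf : f ∈ ws V (s * p1 * s⁻¹))
    (hfq : f * q = q * f) (hfw : f * w * f⁻¹ = w * t * q) : s * (t * q) ≠ t * q * s := by
  intro hs
  have hn := h.three
  have ho := h.oddN.toOdd
  have hww := OddBase.ws_sq ho h.ptq h.wW
  have hwi : w⁻¹ = w := inv_eq_self hww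
  have hqW := self_mem_ws h.oddN.toGeo h.ptq
  have hft := h.comm_p hf h.tr.t_memr
  have htq : t * q = q * t := OddBase.ws_comm ho h.ptq h.tr.t_memd hqW
  have hwtq : w * (t * q) = t * q * w := OddBase.ws_comm ho h.ptq h.wW (mul_mem h.tr.t_memd hqW)
  have hU : Act (tt V 1 p) s := by
    refine ⟨fun a ha => OddThreeM.tt_sq h.oddN (by omega) h.ptp ha, h.side.odd, fun a ha => ?_⟩
    exact conj_mem_of_normalizer (centralizer_le_normalizer_tt 1 p) h.side.mem ha
  have hwU : ∀ u ∈ tt V 1 p, w * u * w⁻¹ ∈ tt V 1 p := fun u hu =>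
    conj_mem_of_normalizer (centralizer_le_normalizer_tt 1 p) (h.tr.cr h.wW) hu
  have hfU : f ∈ tt V 1 p := ws_le_tt h.col_w1.walk hf
  have hz : w * (s⁻¹ * f * s) = s⁻¹ * f * s * w := by
    refine h.comm1 h.wW ?_
    rw [h.ws_w1] at hf
    exact mem_cj.mp hf
  have htqf : t * q * f = f * (t * q) := by
    rw [mul_assoc, ← hfq, ← mul_assoc, ← hft, mul_assoc]
  have he : w * f * w⁻¹ = f * (t * q) := by
    have e1 : f * w = w * (t * q) * f := by
      have := mul_inv_eq_iff_eq_mul.mp hfw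
      rw [this, mul_assoc w t q]
    have e2 : w * (f * w) = t * q * f := by
      rw [e1, ← mul_assoc, ← mul_assoc, hww, one_mul]
    rw [hwi, mul_assoc, e2, htqf]
  have h1 := eq_one_of_norm hU hwU h.side.inv hww hfU hz he hs
  have h2 : t = q := by
    rw [eq_inv_of_mul_eq_one_left h1, inv_eq_self (OddBase.ws_sq ho h.ptq hqW)]
  exact h.tr.dr (h2 ▸ h.tr.t_memr)

/-- `s a s⁻¹` commutes with `q` and `t` -/
theorem comm_conj_q (h : Cfg T V z n p p1 q t w s v s') {f a : G} (hf : f ∈ ws V (s * p1 * s⁻¹))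
    (hA : ∀ f ∈ ws V (s * p1 * s⁻¹), f * q = q * f) (hfw : f * w * f⁻¹ = w * t * q)
    (ha : a ∈ ws V q) (hsa : s' * a = a * s') : s * a * s⁻¹ * q = q * (s * a * s⁻¹) := by
  have ho := h.oddN.toOdd
  have hww := OddBase.ws_sq ho h.ptq h.wW
  have hwi : w⁻¹ = w := inv_eq_self hww
  have htt := h.tr.tt_sq
  -- `w s = s⁻¹ w`
  have hws : w⁻¹ * s = s⁻¹ * w⁻¹ := by
    rw [hwi]
    exact mul_inv_eq_iff_eq_mul.mp h.side.inv
  have hsC := h.side.mem
  have hp1W : p1 ∈ ws V p := h.col.mem_ws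
  have hwp1 : w * p1 = p1 * w := h.comm1 h.wW (self_mem_ws h.oddN.toGeo h.ptp1)
  -- `s⁻¹ w2 s = w1`
  have hconj : s⁻¹ * w⁻¹ * (s * p1 * s⁻¹) * (s⁻¹ * w⁻¹)⁻¹ = s * p1 * s⁻¹ := by
    have e1 : w⁻¹ * (s * p1 * s⁻¹) * w = s⁻¹ * p1 * s := by
      calc w⁻¹ * (s * p1 * s⁻¹) * w = (w⁻¹ * s) * p1 * (w⁻¹ * s)⁻¹ := by group
        _ = (s⁻¹ * w⁻¹) * p1 * (s⁻¹ * w⁻¹)⁻¹ := by rw [hws]
        _ = s⁻¹ * (w⁻¹ * p1 * w) * s := by group
        _ = s⁻¹ * p1 * s := by
          have : w⁻¹ * p1 * w = p1 := by rw [mul_assoc, ← hwp1]; group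
          rw [this]
    have hb : s⁻¹ * (s⁻¹ * p1 * s) * s ∈ ws V p := by
      have h1 : s⁻¹ * p1 * s ∈ ws V p := h.side.four.conj' hp1W
      exact h.side.four.conj' h1
    have e2 := h.side.cube h.tr hb
    calc s⁻¹ * w⁻¹ * (s * p1 * s⁻¹) * (s⁻¹ * w⁻¹)⁻¹ = s⁻¹ * (w⁻¹ * (s * p1 * s⁻¹) * w) * s := by group
      _ = s⁻¹ * (s⁻¹ * p1 * s) * s := by rw [e1]
      _ = s * (s * (s * (s⁻¹ * (s⁻¹ * p1 * s) * s) * s⁻¹) * s⁻¹) * s⁻¹ := e2.symm
      _ = s * p1 * s⁻¹ := by group
  -- the three parts of `s⁻¹ q s`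
  have h1 : Commute a (s⁻¹ * t * s) := by
    have h2 : s⁻¹ * t * s ∈ ws V p := h.side.four.conj' h.tr.t_memr
    exact (comm_p h ha hsa h2).symm
  have h2 : Commute a (s⁻¹ * f * s) := by
    refine h.comm1 ha ?_
    rw [h.ws_w1] at hf
    exact mem_cj.mp hf
  have h3 : Commute a (s⁻¹ * (w⁻¹ * f * w) * s) := by
    have hm : s⁻¹ * (w⁻¹ * f * w) * s ∈ ws V (s * p1 * s⁻¹) := by
      have h4 : s⁻¹ * w⁻¹ * f * (s⁻¹ * w⁻¹)⁻¹ ∈ cj (s⁻¹ * w⁻¹) (ws V (s * p1 * s⁻¹)) := conj_mem_cj hf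
      rw [cj_ws, hconj] at h4
      have e : s⁻¹ * w⁻¹ * f * (s⁻¹ * w⁻¹)⁻¹ = s⁻¹ * (w⁻¹ * f * w) * s := by group
      rwa [e] at h4
    exact comm_w1 h ha hsa hm (hA _ hm)
  have hq : s⁻¹ * q * s = (s⁻¹ * t * s) * (s⁻¹ * (w⁻¹ * f * w) * s) * (s⁻¹ * f * s)⁻¹ := by
    have e1 : q = t * (w⁻¹ * (f * w * f⁻¹)) := by
      rw [hfw]
      calc q = (t * t) * q := by rw [htt, one_mul]
        _ = t * (w⁻¹ * (w * t * q)) := by group
    nth_rewrite 1 [e1]
    group
  have h4 : Commute a (s⁻¹ * q * s) := by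
    rw [hq]
    exact (h1.mul_right h3).mul_right h2.inv_right
  calc s * a * s⁻¹ * q = s * (a * (s⁻¹ * q * s)) * s⁻¹ := by group
    _ = s * ((s⁻¹ * q * s) * a) * s⁻¹ := by rw [h4.eq]
    _ = q * (s * a * s⁻¹) := by group

/-- the action of `s a s⁻¹` on `w` -/
theorem act_cases (h : Cfg T V z n p p1 q t w s v s') {f a : G} (hf : f ∈ ws V (s * p1 * s⁻¹))
    (hA : ∀ f ∈ ws V (s * p1 * s⁻¹), f * q = q * f) (hfw : f * w * f⁻¹ = w * t * q)
    (ha : a ∈ ws V q) (hsa : s' * a = a * s') (ha1 : a ≠ 1) (hta : s * (t * a) ≠ t * a * s) :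
    s * a * s⁻¹ * w * (s * a * s⁻¹)⁻¹ = w * q ∨ s * a * s⁻¹ * w * (s * a * s⁻¹)⁻¹ = w * t * q := by
  have ho := h.oddN.toOdd
  have htt := h.tr.tt_sq
  have hwa : w * a = a * w := OddBase.ws_comm ho h.ptq h.wW ha
  have hwt : w * t = t * w := h.tr.comm_t h.wW
  have hcs : ∀ b : G, w * b = b * w → w * (s * b * s⁻¹) = s * b * s⁻¹ * w → s * b = b * s := by
    intro b hb h1
    have h2 := h.comm_s h1 (by
      calc s * w * s⁻¹ * (s * b * s⁻¹) = s * (w * b) * s⁻¹ := by group
        _ = s * (b * w) * s⁻¹ := by rw [hb]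
        _ = s * b * s⁻¹ * (s * w * s⁻¹) := by group)
    have h4 : s⁻¹ * (s * b * s⁻¹) * s = s * b * s⁻¹ := by rw [mul_assoc, ← h2]; group
    have h5 : b = s * b * s⁻¹ := by rw [← h4]; group
    exact conj_eq_iff_comm.mp h5.symm
  have hut : s * a * s⁻¹ * t = t * (s * a * s⁻¹) := by
    have h2 : s⁻¹ * t * s ∈ ws V p := h.side.four.conj' h.tr.t_memr
    have h3 := comm_p h ha hsa h2
    calc s * a * s⁻¹ * t = s * (a * (s⁻¹ * t * s)) * s⁻¹ := by group
      _ = s * ((s⁻¹ * t * s) * a) * s⁻¹ := by rw [h3]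
      _ = t * (s * a * s⁻¹) := by group
  rcases h.conj_cases (comm_conj_q h hf hA hfw ha hsa) hut with e | e | e | e
  · exfalso
    have h1 := hcs a hwa (conj_eq_iff_comm.mp e).symm
    exact ha1 (h.tr.kill h.wW h.v_mem h.side h.side' h1 hsa
      (OddBase.ws_comm ho h.ptq h.tr.t_memd ha) (OddBase.ws_sq ho h.ptq ha))
  · exfalso
    apply hta
    refine hcs (t * a) ?_ ?_
    · have c1 : Commute w t := hwt
      have c2 : Commute w a := hwa
      exact (c1.mul_right c2).eq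
    · -- `s t s⁻¹` moves `w` to `w t`
      have hst : s * t * s⁻¹ ∈ ws V p := h.side.four.uu_le (h.side.four.uu_conj h.side.t_mem)
      have hstt : s * t * s⁻¹ * t = t * (s * t * s⁻¹) := (h.tr.comm_t' hst)
      have hne : w * (s * t * s⁻¹) ≠ s * t * s⁻¹ * w := by
        intro e1
        have h4 := h.side.uniq h.tr h.wW (h.side.four.uu_conj h.side.t_mem) (conj_ne_one h.tr.t_ne) e1
        exact h.side.t_ne h.tr (conj_eq_iff_comm.mp h4)
      have h5 := h.tr.conj_eq h.wW hst hne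
      have e5 : w * (s * t * s⁻¹) = s * t * s⁻¹ * t * w := mul_inv_eq_iff_eq_mul.mp h5
      have h6 : s * t * s⁻¹ * w * (s * t * s⁻¹)⁻¹ = w * t := by
        calc s * t * s⁻¹ * w * (s * t * s⁻¹)⁻¹ = s * t * s⁻¹ * (t * t) * w * (s * t * s⁻¹)⁻¹ := by
              rw [htt, mul_one]
          _ = s * t * s⁻¹ * t * (t * w) * (s * t * s⁻¹)⁻¹ := by group
          _ = s * t * s⁻¹ * t * (w * t) * (s * t * s⁻¹)⁻¹ := by rw [hwt]
          _ = (s * t * s⁻¹ * t * w) * t * (s * t * s⁻¹)⁻¹ := by group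
          _ = w * (s * t * s⁻¹ * t) * (s * t * s⁻¹)⁻¹ := by rw [← e5]; group
          _ = w * t := by rw [hstt]; group
      have h7 : s * (t * a) * s⁻¹ * w * (s * (t * a) * s⁻¹)⁻¹ = w := by
        calc s * (t * a) * s⁻¹ * w * (s * (t * a) * s⁻¹)⁻¹ =
              s * t * s⁻¹ * (s * a * s⁻¹ * w * (s * a * s⁻¹)⁻¹) * (s * t * s⁻¹)⁻¹ := by group
          _ = (s * t * s⁻¹ * w * (s * t * s⁻¹)⁻¹) * (s * t * s⁻¹ * t * (s * t * s⁻¹)⁻¹) := by rw [e]; group
          _ = w * t * t := by rw [h6, hstt]; group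
          _ = w := by rw [mul_assoc, htt, mul_one]
      exact (conj_eq_iff_comm.mp h7).symm
  · exact Or.inl e
  · exact Or.inr e

/-- **non-sliding is impossible** -/
theorem exists_move (h : Cfg T V z n p p1 q t w s v s') : ∃ a ∈ ws V (s * p1 * s⁻¹), a * q ≠ q * a := by
  by_contra hcon
  push Not at hcon
  have hn := h.three
  have ho := h.oddN.toOdd
  obtain ⟨f, hf, hfw⟩ := exists_f h hcon
  have hqW := self_mem_ws h.oddN.toGeo h.ptq
  have hq1 : q ≠ 1 := OddBase.Pt.ne_one h.oddN.toGeo h.ptq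
  have hqq := OddBase.Pt.sq h.oddN.toGeo h.ptq
  have htt := h.tr.tt_sq
  have htq : t * q = q * t := OddBase.ws_comm ho h.ptq h.tr.t_memd hqW
  have hs'q : s' * q = q * s' := mem_centralizer_singleton_iff.mp h.side'.mem
  obtain ⟨pn, hqn, hpn⟩ := (h.crit.symm ho).head h.oddN
  have hpnW : pn ∈ ws V q := hqn.mem_ws
  have hptn : Pt z pn := hqn.pt h.oddN.toGeo
  have htpn : t * pn = pn * t := OddBase.ws_comm ho h.ptq h.tr.t_memd hpnW
  have hqpn : q * pn = pn * q := OddBase.ws_comm ho h.ptq hqW hpnW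
  have hs'y : s' * (t * pn) = t * pn * s' :=
    h.side'.comm_tp h.oddN h.tr.symm hptn hpnW h.lt hpn h.v_mem
  have hqn' : Col V q (q * pn) := OddSmall.col_mul ho hqn
  have hnc := not_col h
  -- the three elements
  have c1 := act_cases h hf hcon hfw hqW hs'q hq1 (not_comm_tq h hf (hcon f hf) hfw)
  have c2 := act_cases h hf hcon hfw (mul_mem h.tr.t_memd hpnW) hs'y (fun e => hnc (by
      have : t = pn := by rw [eq_inv_of_mul_eq_one_left e, inv_eq_self (OddBase.ws_sq ho h.ptq hpnW)]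
      rw [this]; exact hqn)) (by
    have e : t * (t * pn) = pn := by rw [← mul_assoc, htt, one_mul]
    rw [e]
    exact h.side.ne h.oddN hptn (show 1 < n by omega) hqn.symm.walk h.wW)
  have c3 := act_cases h hf hcon hfw (mul_mem (mul_mem h.tr.t_memd hpnW) hqW) (by
      have k1 : Commute s' (t * pn) := hs'y
      have k2 : Commute s' q := hs'q
      exact (k1.mul_right k2).eq) (fun e => hnc (by
      have : t = q * pn := by
        rw [mul_assoc] at e
        rw [eq_inv_of_mul_eq_one_left e, inv_eq_self (OddBase.ws_sq ho h.ptq (mul_mem hpnW hqW)), hqpn]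
      rw [this]; exact hqn')) (by
    have e : t * (t * pn * q) = q * pn := by
      rw [← mul_assoc, ← mul_assoc, htt, one_mul, hqpn]
    rw [e]
    exact h.side.ne h.oddN (hqn'.pt h.oddN.toGeo) (show 1 < n by omega) hqn'.symm.walk h.wW)
  -- multiplicativity
  have hu1q := comm_conj_q h hf hcon hfw (mul_mem h.tr.t_memd hpnW) hs'y
  have hu1t : s * (t * pn) * s⁻¹ * t = t * (s * (t * pn) * s⁻¹) := by
    have h2 : s⁻¹ * t * s ∈ ws V p := h.side.four.conj' h.tr.t_memr
    have h3 := comm_p h (mul_mem h.tr.t_memd hpnW) hs'y h2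
    calc s * (t * pn) * s⁻¹ * t = s * ((t * pn) * (s⁻¹ * t * s)) * s⁻¹ := by group
      _ = s * ((s⁻¹ * t * s) * (t * pn)) * s⁻¹ := by rw [h3]
      _ = t * (s * (t * pn) * s⁻¹) := by group
  set u1 := s * (t * pn) * s⁻¹ with hu1
  set! u2 := s * q * s⁻¹ with hu2; rewrite [← hu2] at c1
  have e3 : s * (t * pn * q) * s⁻¹ = u1 * u2 := by rw [hu1, hu2]; group
  rw [e3] at c3
  have hmul : ∀ c d : G, u1 * c = c * u1 → u2 * w * u2⁻¹ = w * c → u1 * w * u1⁻¹ = w * d →
      u1 * u2 * w * (u1 * u2)⁻¹ = w * (d * c) := by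
    intro c d h1 h2 h3
    calc u1 * u2 * w * (u1 * u2)⁻¹ = u1 * (u2 * w * u2⁻¹) * u1⁻¹ := by group
      _ = (u1 * w * u1⁻¹) * (u1 * c * u1⁻¹) := by rw [h2]; group
      _ = w * (d * c) := by rw [h3, h1]; group
  have hu1tq : u1 * (t * q) = t * q * u1 := by
    have k1 : Commute u1 t := hu1t
    have k2 : Commute u1 q := hu1q
    exact (k1.mul_right k2).eq
  have hqtq : q * (t * q) = t := by rw [htq, ← mul_assoc, hqq, one_mul]
  have key : u1 * u2 * w * (u1 * u2)⁻¹ = w ∨ u1 * u2 * w * (u1 * u2)⁻¹ = w * t := by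
    rcases c1 with e1 | e1 <;> rcases c2 with e2 | e2
    · left; rw [hmul q q hu1q e1 e2, hqq, mul_one]
    · right
      rw [hmul q (t * q) hu1q e1 (e2.trans (mul_assoc _ _ _)), mul_assoc t, hqq, mul_one]
    · right
      rw [hmul (t * q) q hu1tq (e1.trans (mul_assoc _ _ _)) e2, hqtq]
    · left
      rw [hmul (t * q) (t * q) hu1tq (e1.trans (mul_assoc _ _ _)) (e2.trans (mul_assoc _ _ _))]
      have : t * q * (t * q) = 1 := by rw [mul_assoc, hqtq, htt]
      rw [this, mul_one]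
  have hqt : t ≠ q := fun e => h.tr.dr (e ▸ h.tr.t_memr)
  rcases c3 with e3 | e3 <;> rcases key with e4 | e4 <;> rw [e3] at e4
  · exact hq1 (mul_eq_left.mp e4)
  · exact hqt (mul_left_cancel e4).symm
  · rw [mul_assoc] at e4
    have e5 : t * q = 1 := mul_eq_left.mp e4
    exact hqt (by rw [eq_inv_of_mul_eq_one_left e5, inv_eq_self hqq])
  · exact hq1 (mul_eq_left.mp e4)

end Cfsg.Agent.MinSimple.OddNonSlide
end

-- part: MinSimple/OddCaseOneEnd
section
/-!
# (E1)(b), `n ≥ 3`: Case 1 is impossible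
-/

set_option autoImplicit false

namespace Cfsg.Agent.MinSimple.OddSlide

open Subgroup Cfsg Cfsg.Agent.ZN Cfsg.Agent.MinSimple.Geo Cfsg.Agent.MinSimple.BTwoA
  Cfsg.Agent.MinSimple.OddLine Cfsg.Agent.MinSimple.OddBase

universe u

variable {G : Type u} [Group G] [Finite G] {T V : Subgroup G} {z : G}

/-- **Case 1** is impossible for `n ≥ 3` -/
theorem false_of_crit {n : ℕ} (h : OddN T V z n) (h3 : 3 ≤ n) {x y : G}
    (hc : Crit V z n x y) (hxy : x ∉ ws V y) (hyx : y ∉ ws V x) : False :=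
  false_of_cfg h h3 (fun _ _ _ _ _ _ _ _ hC => OddNonSlide.exists_move hC) hc hxy hyx

end Cfsg.Agent.MinSimple.OddSlide
end

-- part: MinSimple/CoreOdd
section
/-!
# Core theorem T: assembly of (E1)(b)

* `finHyp_of_le_two`: `n ≤ 2` leads to the final configuration;
* `oddFFStmt`: (E1)(b) with `[V, J(T)] ≠ 1`;
* `oddMaxStmt`: (E1)(b) with `Max1`.
-/

set_option autoImplicit false

namespace Cfsg.Agent.MinSimple.CoreOdd

open Subgroup Cfsg Cfsg.Agent.ZN Cfsg.Agent.MinSimple Cfsg.Agent.MinSimple.CoreMain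
open Cfsg.Agent.MinSimple.Geo (ws)
open Cfsg.Agent.MinSimple.OddLine (Odd)
open Cfsg.Agent.MinSimple.OddBase (OddN Crit)

universe u

variable {G : Type u} [Group G]

theorem _root_.Cfsg.Agent.MinSimple.CoreMain.Core.index_ne_two' (h : Core G) (N : Subgroup G) :
    N.index ≠ 2 := fun hi =>
  h.index_ne_two N (Subgroup.normal_of_index_eq_two hi) hi

theorem ne_zero [Finite G] {T V : Subgroup G} {z : G} (h : OddN T V z 0) : False := by
  obtain ⟨x, y, hx, hw, a, ha, b, hb, hab⟩ := h.crit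
  have e : x = y := hw
  subst e
  obtain ⟨g, rfl⟩ := hx
  rw [← Geo.cj_ws] at ha hb
  rw [Geo.mem_cj] at ha hb
  have h1 := h.ab _ ha _ hb
  apply hab
  calc a * b = g * (g⁻¹ * a * g * (g⁻¹ * b * g)) * g⁻¹ := by group
    _ = g * (g⁻¹ * b * g * (g⁻¹ * a * g)) * g⁻¹ := by rw [h1]
    _ = b * a := by group

/-- `n ≤ 2` leads to the final configuration. -/
theorem finHyp_of_le_two (hG : Core G) {T V : Subgroup G} {z : G} {n : ℕ} (h : OddN T V z n)
    (hn : n ≤ 2) : ∃ q, Classification.TitsFin.FinHyp z q := by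
  have := hG.finite
  interval_cases n
  · exact (ne_zero h).elim
  · exact OddOneEnd.finHyp_of_one hG.isSimpleGroup hG.index_ne_two' (OddK.one h)
  · exact (OddTwo.not_two h).elim

/-- **(E1)(b) with `[V, J(T)] ≠ 1`** -/
theorem oddFFStmt (G : Type u) [Group G] : OddFFStmt G := by
  intro hG T V z hg hJ hab
  have := hG.finite
  obtain ⟨n, h⟩ := OddBase.exists_n (T := T) (V := V) (z := z) { toGeo := hg, ab := hab }
  by_cases hn : n ≤ 2
  · exact ⟨z, finHyp_of_le_two hG h hn⟩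
  · exact absurd (OddSmall.le_two_of_card_eight h
      (ThompsonLine.card_ws_of_jj h (by omega) hJ)) hn

/-- **(E1)(b) with `Max1`** -/
theorem oddMaxStmt (G : Type u) [Group G] : CoreFinal.OddMaxStmt G := by
  intro hG T V z hg hM hab
  have := hG.finite
  obtain ⟨n, h⟩ := OddBase.exists_n (T := T) (V := V) (z := z) { toGeo := hg, ab := hab }
  by_cases hn : n ≤ 2
  · exact ⟨z, finHyp_of_le_two hG h hn⟩
  · obtain ⟨x, y, hc, hx, hy⟩ := OddOneZero.exists_case_one h (by omega) hM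
    exact (OddSlide.false_of_crit h (by omega) hc hx hy).elim

end Cfsg.Agent.MinSimple.CoreOdd
end

private theorem dce_8ac4d7c8c6a5 : _root_.True := by
  try have : _root_.True := by simp only [_root_.Cfsg.Agent.MinSimple.OddRankTwo.aa.eq_1]
  try have : _root_.True := by simp only [_root_.Cfsg.Agent.MinSimple.OddRTMod.cm.eq_1]
  exact _root_.True.intro
end

-- part: MinSimple/EmptyE/XPlug
section
set_option linter.all false
open scoped Cfsg.Agent.FastGrp

/-!
# The case (Empty), Theorem E: the cases of step 5, back in `G`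

* `in_of_caseX2` : the case (X) in `G`;
* `main_of` : `Geo S l z ∧ Max1 z`, if the case (X) is impossible.
-/

set_option autoImplicit false

namespace Cfsg.Agent.MinSimple.EmptyE.XPlug

open Subgroup Cfsg Cfsg.Agent.ZN Cfsg.Agent.ZN.ChoiceBase Cfsg.Agent.ZN.ChoiceSit
open Cfsg.Agent.MinSimple.EmptyTI Cfsg.Agent.MinSimple.EmptySix
open Cfsg.Agent.MinSimple.MinParabolic (IsMinPar)
open Cfsg.Agent.MinSimple.EmptyE.Closed Cfsg.Agent.MinSimple.EmptyE.Hyper
open Cfsg.Agent.MinSimple.EmptyE.Small Cfsg.Agent.MinSimple.EmptyMod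
open Cfsg.Agent.MinSimple.EmptyE.Plug

universe u

variable {G : Type u} [Group G] [Finite G] {S : Sylow 2 G}

attribute [local instance] YPlugB.vvComm

/-- The case (X), in `G`. -/
theorem in_of_caseX2 (h : ESit S) {V₁ V₂ : Subgroup (vv (S : Subgroup G))}
    {z : vv (S : Subgroup G)}
    (hX : SmallX.CaseX2 (im (S : Subgroup G) (LL (S : Subgroup G)))
      (im (S : Subgroup G) (S : Subgroup G)) V₁ V₂ z) :
    ∃ V : Fin 2 → Subgroup G, XDefs.XIn (S : Subgroup G) V (z : G) := by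
  obtain ⟨V, hV0, hV1⟩ : ∃ V : Fin 2 → Subgroup G, V 0 = V₁.map (vv (S : Subgroup G)).subtype ∧
      V 1 = V₂.map (vv (S : Subgroup G)).subtype := ⟨![_, _], rfl, rfl⟩
  have hpre : ToOm.Pre (S : Subgroup G) V (z : G) := by
    refine pre_of h hX.ne hX.fixT hX.card₁ hX.card₂ hX.inf hX.sup hX.perm ?_ ?_ hX.not₁ hX.not₂ hV0 hV1
    · obtain ⟨d, hd, h1, -, h2⟩ := hX.d₁
      exact ⟨d, hd, h1, h2⟩
    · obtain ⟨d, hd, h1, -, h2⟩ := hX.d₂
      exact ⟨d, hd, h1, h2⟩
  refine ⟨V, { toPre := hpre, idx := ?_, sqT := ?_, ntv := ?_ }⟩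
  · rw [← card_im h.le_LL]
    exact hX.cardT
  · intro s hs v hv
    have h1 := hX.sqT _ (mem_im.2 ⟨s, h.le_LL hs, hs, rfl⟩)
    rw [← map_mul, act_eq_one_iff] at h1
    exact (mem_centralizer_iff.1 h1 v hv).symm
  · intro s hs hsV
    have h1 := hX.ntv _ (mem_im.2 ⟨s, h.le_LL hs, hs, rfl⟩) fun h0 => hsV (act_eq_one_iff.1 h0)
    have h2 : vv (S : Subgroup G) ⊓ centralizer ({s} : Set G) =
        (fx (act (S : Subgroup G) ⟨s, h.le_LL hs⟩)).map (vv (S : Subgroup G)).subtype := by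
      ext v
      rw [mem_inf, mem_centralizer_singleton_iff]
      constructor
      · rintro ⟨hv, hvs⟩
        exact ⟨⟨v, hv⟩, act_eq_iff.2 hvs.symm, rfl⟩
      · rintro ⟨w, hw, rfl⟩
        exact ⟨w.2, (act_eq_iff.1 hw).symm⟩
    rw [h2, Subgroup.card_map_of_injective (vv (S : Subgroup G)).subtype_injective]
    exact h1

/-- **Theorem E**, up to the case (X). -/
theorem main_of (h : ESit S) (hX : ∀ (V : Fin 2 → Subgroup G) (z : G),
      XDefs.XIn (S : Subgroup G) V z → False) :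
    ∃ (l : Subgroup G) (z : G), Geo.Geo (S : Subgroup G) l z ∧ OddThreeM.Max1 z := by
  rcases MaxLocal.step_four' h with h1 | hno
  · exact h1
  by_contra hcon
  have key : ∀ P : Subgroup G, IsMinPar (S : Subgroup G) P → P ≤ CC (S : Subgroup G) →
      ¬ P ≤ LL (S : Subgroup G) → Nat.card (vv (S : Subgroup G)) = 16 ∧
      ∃ x e, (S : Subgroup G) ⊔ zpowers x = P ∧ YPlug.GY S (hh (S : Subgroup G) x) e := by
    intro P hP hPC hPL
    obtain ⟨x, -, -, -, hgen, hZ, hne, hcl, E, hES, hE, hEc, hcard⟩ := hyper h hP hPC hPL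
    have hyp := Plug.hyp h hZ hne hcl hES hE hEc hcard (hno _ inf_le_left hcl)
    rcases SmallX.main2 hyp with h4 | ⟨h16, ⟨e, hY⟩ | ⟨V₁, V₂, z, hX2⟩ | ⟨V₁, V₂, z, hO⟩⟩
    · exact absurd (MaxLocal.of_card_four' h h4) hcon
    · refine ⟨h16, x, ?_⟩
      obtain ⟨e, he⟩ := YPlugB.gy_of_caseY h (φ := act (S : Subgroup G)) (fun a v => rfl) rfl
        (K := hh (S : Subgroup G) x) inf_le_left hY
      exact ⟨e, hgen, he⟩
    · obtain ⟨V, hV⟩ := in_of_caseX2 h hX2
      exact (hX V _ hV).elim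
    · obtain ⟨V, hV⟩ := in_of_caseO h hO
      exact (Omega.Final.false_of_om (ToOm.om h hV)).elim
  obtain ⟨P, hP, hPC, hPL⟩ := exists_minPar h
  exact YPlug.false_of_all h (key P hP hPC hPL).1 fun P hP hPC hPL => (key P hP hPC hPL).2

end Cfsg.Agent.MinSimple.EmptyE.XPlug
end

-- part: MinSimple/EmptyMain
section
set_option linter.all false

/-!
# The case (Empty): Theorem E

`main` : in the setting `ESit S` there are a four-group `V` and `z` with `Geo S V z` and `Max1 z`;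
`emptyMaxStmt`, `emptyStmt` : the contract of the final assembly of core theorem T.
-/

set_option autoImplicit false

namespace Cfsg.Agent.MinSimple.EmptyMain

open Subgroup Cfsg Cfsg.Agent.ZN Cfsg.Agent.MinSimple
open Cfsg.Agent.MinSimple.EmptyE Cfsg.Agent.MinSimple.EmptyE.Closed

universe u

/-- **Theorem E.** -/
theorem main {G : Type u} [Group G] [Finite G] {S : Sylow 2 G} (h : ESit S) :
    ∃ (V : Subgroup G) (z : G), Geo.Geo (S : Subgroup G) V z ∧ OddThreeM.Max1 z :=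
  XPlug.main_of h fun _ _ hX => XFalse.false_of_x h hX

/-- (Empty) leads to (E1) with `T = S` and `C_G(z)` maximal. -/
theorem emptyMaxStmt (G : Type u) [Group G] : CoreFinal.EmptyMaxStmt G := by
  intro h S hnu hE
  have := h.finite
  exact main { char2 := h.charTwo, solv := h.solv, nu := hnu, empty := hE }

end Cfsg.Agent.MinSimple.EmptyMain
end

-- part: Classification/NGroupCore
section
set_option linter.all false

-- part: MinSimple/TheoremT
section
/-!
# Core theorem T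

Let `G` be a finite nonabelian simple group of characteristic 2 type and of 2-rank at least 3, all of
whose 2-local subgroups are solvable, without strongly embedded subgroup (`CoreMain.Core G`).  Then
`G` has the final configuration `FinHyp` of the Tits group: `|G| = 17971200`.
-/

set_option autoImplicit false

namespace Cfsg.Agent.MinSimple.TheoremT

open Subgroup Cfsg Cfsg.Agent.ZN Cfsg.Agent.MinSimple Cfsg.Agent.MinSimple.CoreMain

universe u

variable {G : Type u} [Group G]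

/-- **Core theorem T** -/
theorem exists_finHyp (h : Core G) : ∃ z p : G, Classification.TitsFin.FinHyp z p :=
  CoreFinal.exists_finHyp h (CoreOdd.oddFFStmt G) (EmptyMain.emptyMaxStmt G) (CoreOdd.oddMaxStmt G)

/-- **Theorem T2** -/
theorem card_eq (h : Core G) : Nat.card G = 17971200 :=
  CoreFinal.card_eq h (CoreOdd.oddFFStmt G) (EmptyMain.emptyMaxStmt G) (CoreOdd.oddMaxStmt G)

/-- There is an elementary abelian subgroup of order 32. -/
theorem exists_elementary (h : Core G) : ∃ V : Subgroup G, Nat.card V = 32 ∧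
    (∀ u ∈ V, u * u = 1) ∧ ∀ u ∈ V, ∀ v ∈ V, u * v = v * u :=
  CoreFinal.exists_elementary h (CoreOdd.oddFFStmt G) (EmptyMain.emptyMaxStmt G)
    (CoreOdd.oddMaxStmt G)

end Cfsg.Agent.MinSimple.TheoremT
end

-- part: Classification/NGroupCore
section
/-!
# Core theorem T2 in the form used in S0487 and S1000

A nonabelian simple group of characteristic 2 type and of 2-rank at least 3 whose 2-local subgroups
are solvable and which has no strongly embedded subgroup has the order of the Tits group.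
-/

set_option autoImplicit false

namespace Cfsg.Agent.Classification.NGroupCore

open Cfsg

/-- **Theorem T2.** -/
theorem card_of_characteristicTwoType {G : Type*} [Group G] [Finite G] [IsSimpleGroup G]
    (hG : ¬ IsMulCommutative G)
    (hloc : ∀ N : Subgroup G, IsTwoLocal N → Group.IsSolvable N)
    (hchar : IsCharacteristicTwoType G) (h3 : ¬ PRankLE 2 2 G)
    (hse : ∀ H : Subgroup G, ¬ IsStronglyEmbedded H) : Nat.card G = 17971200 :=
  MinSimple.TheoremT.card_eq (MinSimple.CoreMain.core_of_simple hG hloc hchar h3 hse)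

end Cfsg.Agent.Classification.NGroupCore
end
end
end
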