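import Mathlib
import Cfsg.Agent.TwoFusion.GoldNorm_m3
import Cfsg.Agent.TwoFusion.GoldM1Glue
import Cfsg.Agent.S1248
import Cfsg.Agent.Lib.ComponentSolvable
import Cfsg.Agent.MinSimple.OddNatEnd_mg_m3
import Cfsg.Agent.Classification.TypeZ.ZFinal
import Cfsg.Agent.Classification.DihTypeANumbers_m3
import Cfsg.Agent.S0205
import Cfsg.Agent.Classification.RTwo.FinalWR
import Cfsg.Agent.Classification.NGroupCore
import Cfsg.Agent.StrongEmb.Strong
import Cfsg.Agent.S0516
import Cfsg.Agent.S1296
import Cfsg.Agent.FastGrp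
import Cfsg.Agent.Prune
set_option linter.all false
prune_inst 0x7f00000000000000000000000000000000000000000000000000000000000000000000000000000000000000000000000000000000000000000000000000000000000000000000000000000000000000003fffffffffffffffffffffffffffbeffbdffffffff
open scoped Cfsg.Agent.FastGrp

-- part: Classification/MinSimpleUThree
section
/-!
# Minimal simple groups with Sylow 2-subgroups of type `PSU(3,4)`

A minimal simple group whose Sylow 2-subgroup is isomorphic to one of `PSU(3,4)` has a strongly embedded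
subgroup.  (Case [M1] of Goldschmidt's theorem; no other part of that theorem is used.)
-/

set_option autoImplicit false

namespace Cfsg.Agent.Classification.MinSimpleUThree

open Subgroup
open Cfsg.Agent.TwoFusion.ClosedFam Cfsg.Agent.TwoFusion.Gold Cfsg.Agent.TwoFusion.GoldSetup

universe u

variable {G : Type u} [Group G] [Finite G]

/-- Proper subgroups of a minimal simple group lead to contexts. -/
theorem ctx (hG : Cfsg.IsMinimalSimple G) {ℬ : Set G} (hB : IsElemFam ℬ) {H : Subgroup G}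
    (hH : H ≠ ⊤) : Ctx (push ℬ H) := by
  refine ⟨hB.push H, Cfsg.Agent.Lib.Cores.pPrimeCore_quotient_pPrimeCore 2, ?_⟩
  intro K hK
  exfalso
  have h1 : Group.IsSolvable H := hG.2.2 H hH
  have h2 : Group.IsSolvable (↥H ⧸ Cfsg.oddCore ↥H) := inferInstance
  exact Cfsg.Agent.Lib.ComponentSolvable.quasisimple_not_solvable hK.2 inferInstance

omit [Finite G] in
theorem centralizer_ne_top (hG : Cfsg.IsMinimalSimple G) {w : G} (hw : w ≠ 1) :
    centralizer ({w} : Set G) ≠ ⊤ := by
  intro ht
  have hs := hG.1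
  have hc : w ∈ center G := by
    rw [mem_center_iff]
    intro g
    have hg : g ∈ centralizer ({w} : Set G) := by rw [ht]; exact mem_top g
    exact mem_centralizer_singleton_iff.1 hg
  rcases IsSimpleGroup.eq_bot_or_eq_top_of_normal (center G) inferInstance with hb | hb
  · rw [hb, mem_bot] at hc; exact hw hc
  · apply hG.2.1
    refine ⟨⟨fun a b => ?_⟩⟩
    have : b ∈ center G := by rw [hb]; exact mem_top b
    exact mem_center_iff.1 this a

/-- The strongly closed subgroup `A = Ω₁(S)` of order four. -/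
theorem false_of_four (hG : Cfsg.IsMinimalSimple G)
    (hSE : ¬ ∃ H : Subgroup G, Cfsg.IsStronglyEmbedded H) (S : Sylow 2 G) (A : Subgroup G)
    (hAS : A ≤ (S : Subgroup G)) (h4 : Nat.card A = 4) (hsq : ∀ x ∈ A, x * x = 1)
    (hinv : ∀ x ∈ (S : Subgroup G), x * x = 1 → x ∈ A)
    (hna : ∃ x ∈ (S : Subgroup G), ∃ y ∈ (S : Subgroup G), x * y ≠ y * x) : False := by
  have hfact : Fact (Nat.Prime 2) := ⟨Nat.prime_two⟩
  have hsimple := hG.1
  have hnonab : ∃ a b : G, a * b ≠ b * a := by
    obtain ⟨x, -, y, -, h⟩ := hna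
    exact ⟨x, y, h⟩
  have hsc : Cfsg.IsStronglyClosed A (S : Subgroup G) := by
    refine ⟨hAS, fun a ha g hg => hinv _ hg ?_⟩
    have h1 := hsq a ha
    calc g * a * g⁻¹ * (g * a * g⁻¹) = g * (a * a) * g⁻¹ := by group
      _ = 1 := by rw [h1]; group
  have hfam : IsElemFam {x : G | ∃ g : G, g * x * g⁻¹ ∈ A} := by
    refine { toIsClosedFam := isClosedFam_of_isStronglyClosed S A hsc, sq := ?_ }
    rintro x ⟨g, hg⟩
    have h1 := hsq _ hg
    calc x * x = g⁻¹ * (g * x * g⁻¹ * (g * x * g⁻¹)) * g := by group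
      _ = 1 := by rw [h1]; group
  have hAne : A ≠ ⊥ := by
    rintro rfl
    rw [card_bot] at h4
    omega
  have hne : ∃ x ∈ {x : G | ∃ g : G, g * x * g⁻¹ ∈ A}, x ≠ 1 := by
    obtain ⟨a, ha⟩ := Subgroup.ne_bot_iff_exists_ne_one.1 hAne
    exact ⟨a, ⟨1, by simp⟩, fun e => ha (Subtype.ext e)⟩
  obtain ⟨ℬ, ⟨hB1, hB2, hB3⟩, hmin⟩ := Set.Finite.exists_minimal
    (Set.toFinite {ℬ : Set G | IsElemFam ℬ ∧ ℬ ⊆ {x : G | ∃ g : G, g * x * g⁻¹ ∈ A} ∧
      ∃ x ∈ ℬ, x ≠ 1}) ⟨_, hfam, subset_rfl, hne⟩
  have h : Setup ℬ := by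
    refine ⟨hsimple, hnonab, hB1, hB3, ?_, ?_, fun H hH => ctx hG hB1 hH, hSE⟩
    · intro 𝒞 h1 h2 h3
      exact subset_antisymm h2 (hmin ⟨h1, h2.trans hB2, h3⟩ h2)
    · intro w _ hw1
      exact ctx hG hB1 (centralizer_ne_top hG hw1)
  have hle : fam ℬ (S : Subgroup G) ≤ A := by
    intro x hx
    have h1 := (h.mem_iff S).1 hx
    exact hinv x h1.2 (hB1.sq x h1.1)
  have hcard : Nat.card (fam ℬ (S : Subgroup G)) = 4 := by
    have h1 : Nat.card (fam ℬ (S : Subgroup G)) ∣ 4 := h4 ▸ Subgroup.card_dvd_of_le hle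
    have h2 := h.card_ne_two S
    have h3 : Nat.card (fam ℬ (S : Subgroup G)) ≠ 1 := by
      intro h5
      exact h.fam_ne_bot S (Subgroup.card_eq_one.1 h5)
    have h5 : Nat.card (fam ℬ (S : Subgroup G)) ≤ 4 := Nat.le_of_dvd (by norm_num) h1
    have h6 : 0 < Nat.card (fam ℬ (S : Subgroup G)) := Nat.card_pos
    interval_cases hc : Nat.card (fam ℬ (S : Subgroup G))
    · exact absurd rfl h3
    · exact absurd rfl h2
    · omega
    · rfl
  have heq : fam ℬ (S : Subgroup G) = A :=
    Subgroup.eq_of_le_of_card_ge hle (by rw [hcard, h4])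
  have hsolv : ∀ X : Subgroup G, Odd (Nat.card X) → Group.IsSolvable X := by
    intro X hX
    by_cases hXt : X = ⊤
    · exfalso
      rw [hXt, card_top] at hX
      have h2 : 2 ∣ Nat.card G := by
        have h5 : 4 ∣ Nat.card G := h4 ▸ Subgroup.card_subgroup_dvd_card A
        exact (by norm_num : 2 ∣ 4).trans h5
      exact (Nat.not_even_iff_odd.2 hX) (even_iff_two_dvd.2 h2)
    · exact hG.2.2 X hXt
  obtain ⟨g0, F⟩ := Cfsg.Agent.TwoFusion.GoldM1Glue.exists_frame h S hcard
    (fun x hx hxx => by rw [heq]; exact hinv x hx hxx) hna hsolv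
  exact Cfsg.Agent.TwoFusion.GoldM1Fin.false_of_frame F

/-- **Main result.** -/
theorem exists_stronglyEmbedded (hG : Cfsg.IsMinimalSimple G)
    {F : Type*} [Field F] [Fintype F] (hF : Fintype.card F = 16) (S : Sylow 2 G)
    (P : Sylow 2 (Cfsg.PSU 3 F 4))
    (hS : Nonempty ((S : Subgroup G) ≃* (P : Subgroup (Cfsg.PSU 3 F 4)))) :
    ∃ H : Subgroup G, Cfsg.IsStronglyEmbedded H := by
  by_contra hSE
  have hfact : Fact (Nat.Prime 2) := ⟨Nat.prime_two⟩
  obtain ⟨e⟩ := hS
  obtain ⟨h64, hK4, hZ1, hZ2, -, -⟩ := Cfsg.Agent.S1248.result hF P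
  have hcen : ∀ x : (S : Subgroup G), x ∈ Subgroup.center (S : Subgroup G) ↔
      e x ∈ Subgroup.center (P : Subgroup (Cfsg.PSU 3 F 4)) := by
    intro x
    rw [Subgroup.mem_center_iff, Subgroup.mem_center_iff]
    constructor
    · intro h g
      obtain ⟨y, rfl⟩ := e.surjective g
      rw [← map_mul, ← map_mul, h y]
    · intro h g
      apply e.injective
      rw [map_mul, map_mul, h (e g)]
  have hinv : ∀ x : (S : Subgroup G), orderOf x = 2 → x ∈ Subgroup.center (S : Subgroup G) := by
    intro x hx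
    rw [hcen, hZ1]
    apply Subgroup.subset_closure
    show orderOf (e x) = 2
    exact (orderOf_injective e.toMonoidHom e.injective x).trans hx
  have hsq : ∀ x ∈ Subgroup.center (S : Subgroup G), x * x = 1 := by
    intro x hx
    have h1 := (hcen x).mp hx
    have h2 : (⟨e x, h1⟩ : Subgroup.center (P : Subgroup (Cfsg.PSU 3 F 4))) * ⟨e x, h1⟩ = 1 :=
      IsKleinFour.mul_self _
    have h3 : e x * e x = 1 := congrArg Subtype.val h2
    apply e.injective
    rw [map_mul, h3, map_one]
  have hZcard : Nat.card (Subgroup.center (S : Subgroup G)) = 4 := by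
    rw [← IsKleinFour.card_four (G := Subgroup.center (P : Subgroup (Cfsg.PSU 3 F 4)))]
    exact Nat.card_congr (Subgroup.centerCongr e).toEquiv
  refine false_of_four hG hSE S ((Subgroup.center (S : Subgroup G)).map (S : Subgroup G).subtype)
    (Subgroup.map_subtype_le _) ?_ ?_ ?_ ?_
  · rw [← hZcard]
    exact (Nat.card_congr ((Subgroup.center (S : Subgroup G)).equivMapOfInjective _
      (Subgroup.subtype_injective _)).toEquiv).symm
  · rintro _ ⟨x, hx, rfl⟩
    exact congrArg Subtype.val (hsq x hx)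
  · intro x hx hxx
    by_cases h1 : x = 1
    · rw [h1]; exact one_mem _
    · refine ⟨⟨x, hx⟩, hinv _ ?_, rfl⟩
      refine orderOf_eq_prime ?_ fun h2 => h1 (congrArg Subtype.val h2)
      rw [pow_two]
      exact Subtype.ext hxx
  · by_contra hcon
    push Not at hcon
    have h1 : Subgroup.center (S : Subgroup G) = ⊤ := by
      rw [eq_top_iff]
      intro x _
      rw [Subgroup.mem_center_iff]
      intro g
      exact Subtype.ext (hcon g g.2 x x.2)
    have h2 : Nat.card (S : Subgroup G) = 64 := (Nat.card_congr e.toEquiv).trans h64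
    rw [h1, Subgroup.card_top, h2] at hZcard
    omega

end Cfsg.Agent.Classification.MinSimpleUThree
end

-- part: Classification/MinSimpleFinal
section
/-!
# Minimal simple groups: the theorem from its inputs

`concl` states the theorem on minimal simple groups (S0488) for one group, with the big theorems it needs
(odd order, dichotomy, strongly embedded subgroups, groups of 2-rank two, core theorem T1) as explicit
hypotheses in exactly the form in which they are proved elsewhere.
-/

set_option autoImplicit false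

namespace Cfsg.Agent.Classification.MinSimpleFinal

open Cfsg Cfsg.Agent.Classification.MinSimpleMain
open Cfsg.Agent.Classification.GWDefs Cfsg.Agent.Classification.DihMinimal

universe u

/-- The groups with a strongly embedded subgroup, in the form of `StrongEmb.Strong.result`. -/
theorem bender_form {G : Type u} [Group G]
    (h : (∃ (F : Type) (_ : Field F) (_ : Fintype F), (∃ n : ℕ, 2 ≤ n ∧ Fintype.card F = 2 ^ n) ∧
          Nonempty (G ≃* Matrix.ProjectiveSpecialLinearGroup (Fin 2) F)) ∨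
        Cfsg.Lie.IsoSuzuki G ∨
        (∃ (F : Type) (_ : Field F) (_ : Fintype F) (n : ℕ), 2 ≤ n ∧
          Fintype.card F = (2 ^ n) ^ 2 ∧ Nonempty (G ≃* Cfsg.PSU 3 F (2 ^ n)))) :
    (∃ (F : Type) (_ : Field F) (_ : Fintype F),
        Nonempty (G ≃* Matrix.ProjectiveSpecialLinearGroup (Fin 2) F)) ∨ Cfsg.Lie.IsoSuzuki G ∨
      (∃ (F : Type) (_ : Field F) (_ : Fintype F) (q : ℕ), Fintype.card F = q ^ 2 ∧ 4 ≤ q ∧
        Nonempty (G ≃* Cfsg.PSU 3 F q)) := by
  rcases h with ⟨F, i, j, -, e⟩ | h | ⟨F, i, j, n, hn, hF, e⟩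
  · exact Or.inl ⟨F, i, j, e⟩
  · exact Or.inr (Or.inl h)
  · refine Or.inr (Or.inr ⟨F, i, j, 2 ^ n, hF, ?_, e⟩)
    calc 4 = 2 ^ 2 := by norm_num
      _ ≤ 2 ^ n := Nat.pow_le_pow_right (by norm_num) hn

/-- **The theorem on minimal simple groups** from its inputs. -/
theorem concl {G : Type u} [Group G] [Finite G] (hG : IsMinimalSimple G)
    (h205 : Odd (Nat.card G) → Group.IsSolvable G)
    (h1296 : Even (Nat.card G) → (∀ N : Subgroup G, N.Normal → N.index ≠ 2) →
      Cfsg.oddCore G = ⊥ →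
      Cfsg.PRankLE 2 2 G ∨ Cfsg.IsComponentType G ∨ Cfsg.IsCharacteristicTwoType G)
    (hT1 : IsCharacteristicTwoType G → ¬ PRankLE 2 2 G → ∃ H : Subgroup G, IsStronglyEmbedded H)
    (hB : (∃ a b : G, a * b ≠ b * a) → ∀ H : Subgroup G, IsStronglyEmbedded H →
      (∃ (F : Type) (_ : Field F) (_ : Fintype F), (∃ n : ℕ, 2 ≤ n ∧ Fintype.card F = 2 ^ n) ∧
          Nonempty (G ≃* Matrix.ProjectiveSpecialLinearGroup (Fin 2) F)) ∨
        Cfsg.Lie.IsoSuzuki G ∨
        (∃ (F : Type) (_ : Field F) (_ : Fintype F) (n : ℕ), 2 ≤ n ∧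
          Fintype.card F = (2 ^ n) ^ 2 ∧ Nonempty (G ≃* Cfsg.PSU 3 F (2 ^ n))))
    (h516 : ¬ IsMulCommutative G → Cfsg.PRankLE 2 2 G → ∀ (S : Sylow 2 G) [Fintype (GaloisField 2 4)],
      Fintype.card (GaloisField 2 4) = 16 → ∀ P : Sylow 2 (Cfsg.PSU 3 (GaloisField 2 4) 4),
      (∃ n : ℕ, 2 ≤ n ∧ Nonempty ((S : Subgroup G) ≃* DihedralGroup n)) ∨
        Cfsg.IsQuasiDihedral (S : Subgroup G) ∨ Cfsg.IsWreathed (S : Subgroup G) ∨
          Nonempty ((S : Subgroup G) ≃* (P : Subgroup (Cfsg.PSU 3 (GaloisField 2 4) 4))))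
    (hGW : ∀ (S : Sylow 2 G) (n : ℕ), 2 ≤ n →
      Nonempty ((S : Subgroup G) ≃* DihedralGroup n) → LocSol G → GWConcl G)
    (hR2 : ∀ S : Sylow 2 G, Cfsg.IsQuasiDihedral (S : Subgroup G) ∨
        Cfsg.IsWreathed (S : Subgroup G) →
      ∃ (F : Type) (_ : Field F) (_ : Fintype F), Fintype.card F = 3 ∧
        Nonempty (G ≃* Matrix.ProjectiveSpecialLinearGroup (Fin 3) F)) : Concl G := by
  have hnc : ∃ a b : G, a * b ≠ b * a := not_comm hG
  have hfact : Fact (Nat.Prime 2) := ⟨Nat.prime_two⟩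
  refine main hG h205 h1296 hT1 (fun H hH => bender_form (hB hnc H hH)) (fun h2 => ?_)
  by_cases hSE : ∃ H : Subgroup G, IsStronglyEmbedded H
  · obtain ⟨H, hH⟩ := hSE
    exact of_bender hG (bender_form (hB hnc H hH))
  have hfin : Fintype (GaloisField 2 4) := Fintype.ofFinite _
  have hcard : Fintype.card (GaloisField 2 4) = 16 := by
    rw [Fintype.card_eq_nat_card, GaloisField.card 2 4 (by norm_num)]
    norm_num
  refine rank_two hG ?_ ?_ hR2
    (fun S P h => (hSE (MinSimpleUThree.exists_stronglyEmbedded hG hcard S P h)).elim)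
  · obtain ⟨S⟩ : Nonempty (Sylow 2 G) := inferInstance
    obtain ⟨P⟩ : Nonempty (Sylow 2 (Cfsg.PSU 3 (GaloisField 2 4) 4)) := inferInstance
    refine ⟨S, ?_⟩
    rcases h516 hG.2.1 h2 S hcard P with h | h | h | h
    · exact Or.inl h
    · exact Or.inr (Or.inl h)
    · exact Or.inr (Or.inr (Or.inl h))
    · exact Or.inr (Or.inr (Or.inr ⟨P, h⟩))
  · rintro S ⟨n, hn, hS⟩
    rcases hGW S n hn hS (Cfsg.Agent.Classification.GWSolvable.Induct.locSol_of_isNGroup
      (isNGroup hG)) with ⟨F, i, j, -, -, e⟩ | e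
    · exact Or.inl ⟨F, i, j, e⟩
    · exact Or.inr e

end Cfsg.Agent.Classification.MinSimpleFinal
end

-- part: Classification/GWTheorem
section
/-!
# The Gorenstein–Walter theorem

* `gw_simple`: simple groups with dihedral Sylow 2-subgroups of order at least 4;
* `gw_nGroup`: the version for groups with solvable local subgroups.
-/

set_option autoImplicit false

namespace Cfsg.Agent.Classification.GWTheorem

open Cfsg.Agent.Classification.DihReduction Cfsg.Agent.Classification.DihMinimal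
open Cfsg.Agent.Classification.GWDefs

universe u

theorem oddOrder : OddOrder.{u} := fun _ _ _ h => Cfsg.Agent.S0205.result h

/-- Simple groups with solvable local subgroups and dihedral Sylow 2-subgroups. -/
theorem locSol {G : Type u} [Group G] [Finite G] [IsSimpleGroup G] (S : Sylow 2 G) (n : ℕ)
    (hn : 2 ≤ n) (hS : Nonempty ((S : Subgroup G) ≃* DihedralGroup n)) (hs : LocSol G) :
    GWConcl G :=
  GWMain.nGroup oddOrder (TypeZ.ZFinal.fixAll fun G _ _ => TypeZIV.Main.lStar G) S n hn hS hs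

end Cfsg.Agent.Classification.GWTheorem
end

-- part: Classification/MinSimpleStrong
section
/-!
# The classification of the minimal simple groups, strong form

`concl`: a finite minimal simple group is `PSL(2,2^p)`, `PSL(2,3^p)`, `PSL(2,p)`, `PSL(3,3)` or `Sz(2^p)`,
up to isomorphism (S0488 with an explicit Suzuki group).
-/

set_option autoImplicit false

namespace Cfsg.Agent.Classification.MinSimpleStrong

open Cfsg

universe u

variable {G : Type u} [Group G] [Finite G]

/-- A minimal simple group of characteristic 2 type and of 2-rank at least 3 has a strongly embedded subgroup. -/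
theorem exists_stronglyEmbedded (hG : IsMinimalSimple G) (hc : IsCharacteristicTwoType G)
    (h3 : ¬ PRankLE 2 2 G) : ∃ H : Subgroup G, IsStronglyEmbedded H :=
  Cfsg.Agent.MinSimple.CoreFinal.exists_stronglyEmbedded hG hc h3
    (Cfsg.Agent.MinSimple.CoreOdd.oddFFStmt G) (Cfsg.Agent.MinSimple.EmptyMain.emptyMaxStmt G)
    (Cfsg.Agent.MinSimple.CoreOdd.oddMaxStmt G)

/-- **The minimal simple groups.** -/
theorem concl (hG : IsMinimalSimple G) : MinSimpleMain.Concl G := by
  have hsimple : IsSimpleGroup G := hG.1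
  exact MinSimpleFinal.concl hG
    (fun h => Cfsg.Agent.S0205.result h)
    (fun h1 h2 h3 => Cfsg.Agent.S1296.result h1 h2 h3)
    (exists_stronglyEmbedded hG)
    (fun h H hH => Cfsg.Agent.StrongEmb.Strong.result h H hH)
    (fun h1 h2 S _ hF P => Cfsg.Agent.S0516.result h1 h2 S hF P)
    (fun S n hn hS hs => GWTheorem.locSol S n hn hS hs)
    (fun S hS => RTwo.FinalWR.minimal_simple hG S hS)

end Cfsg.Agent.Classification.MinSimpleStrong
end
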